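import Cfsg.Agent.Lib.Sig.F3
import Cfsg.Agent.Lib.Sig.SigCor

/-!
# The solvable signalizer functor theorem in rank three
-/

set_option autoImplicit false

namespace CfsgLib.Sig

open Subgroup Cfsg CfsgLib.Cop CfsgLib.H1
open scoped commutatorElement

variable {X : Type*} [Group X]

namespace SF

/-- the centre of the largest `θ(A) A`-invariant `2`-subgroup -/
abbrev Z2 (S : SF X) : Subgroup X := zc (S.big 2 (S.th S.A))

variable {S : SF X} [Finite X] [h2 : Fact (Nat.Prime 2)]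

theorem isTh_Z2 : S.IsTh S.Z2 := (isTh_big le_rfl).zc

theorem isPGroup_Z2 : IsPGroup 2 S.Z2 := (isPGroup_big le_rfl).to_inf_left

omit h2 in
theorem Pt.Z2_le {e : X} (h : S.Pt e) : S.Z2 ≤ centralizer (S.P2 e : Set X) :=
  inf_le_right.trans (centralizer_le (big_anti h.thA_le))

theorem PD.Z2_le {e : X} {M : Subgroup X} (h : S.PD e M) : S.Z2 ≤ M :=
  h.ctrl.le_of_centralizer isTh_Z2 (h.pt.Z2_le.trans (centralizer_le
    (commutator_le_left_of_le_normalizer (h.pt.isTh_P2.norm' h.pt.zpowers_le))))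

theorem Ctx.Z2_le [Fact (S.k = 3)] (hS : S.Ctx) (hr2 : S.r ≠ 2) : S.Z2 ≤ S.th S.A := by
  obtain ⟨M₀, h⟩ := hS.exists_star hr2
  have k1 : ∀ e, S.Pt e → ¬ S.θ e ≤ M₀ → S.Z2 ≤ centralizer (zpowers e : Set X) := by
    intro e he l
    obtain ⟨M, hM⟩ := h.exists_pd hS he l
    exact hM.le_θ_two (h.commutator_zc hM l) isTh_Z2 isPGroup_Z2 hM.Z2_le
      (he.Z2_le.trans (centralizer_le hM.O_le))
  refine (le_inf le_rfl (le_centralizer_iff.1 fun a ha => ?_)).trans (isTh_Z2.le_th le_rfl)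
  by_cases h1 : a = 1
  · exact h1 ▸ one_mem _
  obtain ⟨D, hD, h3⟩ := Pt.exists_hyp ⟨ha, h1⟩
  obtain ⟨b, c, hb, hc, l1, l2, l3, l4, l5⟩ := hS.exists_two h.1.1 hD
  exact le_centralizer_iff.1 (hD.le_centralizer hb hc l1 l2 l3 (k1 b hb l4) (k1 c hc l5)) h3

theorem PD.dom {b : X} {M : Subgroup X} (hb : S.PD b M) (hS : S.Ctx) (hΘ : S.Valid ⊥)
    (hZ : S.Z2 ≤ S.th S.A) (h : ¬ oddF M ≤ centralizer (S.Z2 : Set X)) :
    ∃ D, S.Hyp D ∧ b ∈ D ∧ ∀ d N, d ∈ D → S.PD d N →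
      S.P2 d ≤ M ∧ ¬ oddF N ≤ centralizer (S.Z2 : Set X) := by
  obtain ⟨s, hs, hs2, k1⟩ : ∃ s, s.Prime ∧ s ≠ 2 ∧ ¬ pCoreOf s M ≤ centralizer (S.Z2 : Set X) := by
    by_contra k
    push Not at k
    exact h (oddF_le_of_forall fun p hp l => k p hp.out l)
  have := Fact.mk hs
  have hO := hb.max.1.pCoreOf s
  obtain ⟨D, hD, k2⟩ := hO.exists_hyp_not_le k1
  set Y := pCoreOf s M ⊓ centralizer (D : Set X)
  have hY : S.IsTh Y := hO.inf_centralizer (A_le_normalizer_of_le hD.1)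
  have hYs : IsPGroup s Y := (pCoreOf_isPGroup M).to_inf_left
  have k3 : S.Z2 ≤ normalizer (Y : Set X) := le_normalizer_inf_centralizer
    (hb.Z2_le.trans (le_normalizer_pCoreOf M)) (hZ.trans (thA_le_normalizer hD.1))
  have k4 := commutator_le_left_of_le_normalizer k3
  have k5 : ⁅Y, S.Z2⁆ ≠ ⊥ := fun l => k2 (commutator_eq_bot_iff_le_centralizer.1 l)
  have hY' : S.IsTh ⁅Y, S.Z2⁆ := hY.of_le k4 (le_normalizer_commutator hY.norm isTh_Z2.norm)
  have k6 := hb.ctrl_of_le hS hΘ hs2 hY' k5 (k4.trans inf_le_left) isTh_bot bot_le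
  refine ⟨D, hD, ?_, fun d N hd hN => ?_⟩
  · by_contra k
    exact k2 (le_centralizer_of_primes hs2 hYs isPGroup_Z2 le_rfl le_rfl k3 (((le_inf le_rfl
      (hD.le_centralizer_A hb.pt k inf_le_right (inf_le_left.trans ((pCoreOf_le_oddF hs2 M).trans
        hb.cent)))).trans (hY.le_th le_rfl)).trans (le_normalizer_zc (le_normalizer_big _))))
  have l1 : Y ≤ S.θ d := (hO.le_th hD.1).trans (th_le hN.pt hd)
  have l2 := commutator_le_centralizer_right hN.pt.Z2_le (l1.trans (le_normalizer_big _))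
  refine ⟨k6.le_of_centralizer hN.pt.isTh_P2 (le_centralizer_iff.1 l2), fun l3 => k5 ?_⟩
  refine commutator_eq_bot_of_commutator_commutator_eq_bot k3 (coprime_card_of_isPGroup
    (coprime_card_of_isPGroup_of_ne hs2.symm isPGroup_Z2) hYs)
    (commutator_eq_bot_iff_le_centralizer.2 (le_trans (le_oddF ?_
      (isPi_of_ne_two hs2 (hYs.to_le k4))) l3))
  exact hN.max.1.le_fitting (k4.trans (l1.trans hN.θ_le)) (l2.trans (centralizer_le hN.O_le))
    (commutator_le_centralizer_right (le_centralizer_iff.1 l3)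
      ((l1.trans hN.θ_le).trans (le_normalizer_oddF N)))

theorem PD.eq_of_primes {b c : X} {M N : Subgroup X} (hb : S.PD b M) (hS : S.Ctx)
    (hΘ : S.Valid ⊥) (hc : S.PD c N) (hP : S.P2 c ≤ M) (hM : oddF M ≠ ⊥) (hN : oddF N ≠ ⊥)
    (hπ : ∀ (t : ℕ) [Fact t.Prime], pCoreOf t M = ⊥ → pCoreOf t N = ⊥) : M = N := by
  set Y := zc (pCoreOf 2 M) ⊓ centralizer (S.P2 c : Set X)
  have hY : S.IsTh Y := (hb.max.1.pCoreOf 2).zc.inf_centralizer hc.pt.isTh_P2.norm
  have hY2 : IsPGroup 2 Y := (pCoreOf_isPGroup M).to_inf_left.to_inf_left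
  have k1 : Y ≠ ⊥ := inf_centralizer_ne_bot_of_isPGroup (pCoreOf_isPGroup M).to_inf_left
    hc.pt.isPGroup_P2 (le_normalizer_zc (hP.trans (le_normalizer_pCoreOf M)))
    (zc_ne_bot (pCoreOf_isPGroup M) hb.O_ne)
  have k2 : Y ≤ N := hc.ctrl.le_of_centralizer hY (inf_le_right.trans (centralizer_le
    (commutator_le_left_of_le_normalizer (hc.pt.isTh_P2.norm' hc.pt.zpowers_le))))
  have k0 : Y ≤ pCoreOf 2 M := inf_le_left.trans inf_le_left
  have k3 : oddF N ≤ centralizer (Y : Set X) := oddF_le_of_forall fun p _ hp => by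
    by_cases l : pCoreOf p M = ⊥
    · rw [hπ p l]
      exact bot_le
    have l1 := (hc.i3 hΘ bot_le hp hb.max.1 hP bot_le).1.trans hc.θ_le
    have l2 := (hS.ctrl_center hb.max l).le_of_centralizer
      ((hc.max.1.pCoreOf p).inf_centralizer (hb.max.1.pCoreOf p).zc.norm) inf_le_right
    refine commutator_eq_bot_iff_le_centralizer.1 (commutator_eq_bot_of_pxq
      (pCoreOf_isPGroup M).to_inf_left (pCoreOf_isPGroup N)
      (coprime_card_of_isPGroup_of_ne hp.symm hY2) (l1.trans (le_normalizer_pCoreOf N))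
      (k2.trans (le_normalizer_pCoreOf N)) (commutator_eq_bot_iff_le_centralizer.2 ?_) ?_)
    · exact le_centralizer_of_primes hp (pCoreOf_isPGroup M) (pCoreOf_isPGroup M) inf_le_left k0
        ((k0.trans (pCoreOf_le M)).trans (le_normalizer_pCoreOf M))
        ((inf_le_left.trans (pCoreOf_le M)).trans (le_normalizer_pCoreOf M))
    · exact le_centralizer_of_primes hp (pCoreOf_isPGroup N) (pCoreOf_isPGroup M) inf_le_left k0
        (k2.trans (le_normalizer_pCoreOf N)) (l2.trans (le_normalizer_pCoreOf M))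
  have k4 := hc.ctrl_of_F hS hΘ hN hY k1
    ((le_centralizer_iff.1 inf_le_right).trans (centralizer_le_normalizer _))
    (k3.trans (centralizer_le_normalizer _)) isTh_bot bot_le
  obtain ⟨p, hp, hp2, k5⟩ := exists_of_oddF_ne_bot hM
  have := Fact.mk hp
  exact hS.eq_of_primes hb.max hc.max hp2 k5 hb.O_ne
    (fun t _ => (k4.center_le hb.max.1 k0 t).1) hπ

theorem PD.P_le_of_primes {b c : X} {M N E : Subgroup X} (hb : S.PD b M) (hS : S.Ctx)
    (hΘ : S.Valid ⊥) (hc : S.PD c N) (hP : S.P2 c ≤ M) {p q : ℕ} [Fact p.Prime] [Fact q.Prime]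
    (hp2 : p ≠ 2) (hq2 : q ≠ 2) (hpq : p ≠ q) (hW : S.W q = ⊥) (hp : pCoreOf p M ≠ ⊥)
    (hq : pCoreOf q N ≠ ⊥) (hE : S.Hyp E) (hbE : b ∉ E)
    (h : zc (pCoreOf q N) ≤ centralizer (E : Set X)) : S.P2 b ≤ N := by
  have hV := (hb.max.1.pCoreOf p).zc
  have hV' := (hc.max.1.pCoreOf q).zc
  have hVq : IsPGroup q (zc (pCoreOf q N)) := (pCoreOf_isPGroup N).to_inf_left
  have k1 : zc (pCoreOf p M) ≤ normalizer (zc (pCoreOf q N) : Set X) := le_normalizer_zc
    (((hc.i3 hΘ bot_le hp2 hb.max.1 hP bot_le).1.trans hc.θ_le).trans (le_normalizer_pCoreOf N))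
  have k2 : zc (pCoreOf p M) ≤ centralizer (zc (pCoreOf q N) : Set X) := by
    rw [← hV.commutator_sup hE.1]
    refine sup_le (commutator_le_centralizer_right (le_centralizer_iff.1 h) k1)
      (le_trans (le_inf inf_le_left (hE.le_centralizer_A hb.pt hbE inf_le_right
        (inf_le_left.trans (inf_le_left.trans ((pCoreOf_le_oddF hp2 M).trans hb.cent)))))
        (commutator_eq_bot_iff_le_centralizer'.1 (eq_bot_iff.2 (hW ▸ ?_))))
    exact hV.commutator_fix_le_W hpq (pCoreOf_isPGroup M).to_inf_left hb.pt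
      (le_normalizer_zc (hb.θ_le.trans (le_normalizer_pCoreOf M))) hV' hVq (zc_comm _) k1
  have k3 := (hS.ctrl_center hb.max hp).le_of_centralizer hV' (le_centralizer_iff.1 k2)
  have k4 := hS.center_le_centralizer hc.max hb.max.1 hq2.symm hc.O_ne
    (inf_le_left.trans (hc.O_le.trans hP)) k3
  have k5 := (hb.le_θ hV' (isPi_of_ne_two hq2 hVq) k3 k4).trans (le_normalizer_big (S := S) (q := 2) _)
  have k6 := commutator_le_left_of_le_normalizer k5
  refine (hS.ctrl_center hc.max hq).le_of_centralizer hb.pt.isTh_P2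
    (commutator_eq_bot_iff_le_centralizer.1 (commutator_eq_bot_of_commutator_commutator_eq_bot k5
      (coprime_card_of_isPGroup (coprime_card_of_isPGroup_of_ne hq2 hVq) hb.pt.isPGroup_P2)
      (commutator_eq_bot_iff_le_centralizer.2 (le_trans ?_ (le_centralizer_iff.1 k4)))))
  exact le_pCoreOf_of_le_fittingOf (hb.max.1.le_fitting (k6.trans hb.P_le)
    (commutator_le_centralizer_right k4 (hb.P_le.trans (le_normalizer_pCoreOf M)))
    (k6.trans (le_centralizer_iff.1 hb.T_cent))) (hb.pt.isPGroup_P2.to_le k6)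

theorem Ctx.not_three [Fact (S.k = 3)] (hS : S.Ctx) (hr2 : S.r ≠ 2) : False := by
  have hW : ∀ (p : ℕ) [Fact p.Prime], p ≠ 2 → S.W p = ⊥ := fun p _ hp => hS.W_eq_bot hr2 hp
  have hΘ : S.Valid ⊥ := fun p hp hp2 Y h1 _ _ =>
    haveI := Fact.mk hp
    eq_bot_iff.2 (h1.trans (hW p hp2).le)
  have hpd : ∀ e, S.Pt e → ∃ M, S.PD e M := fun e he => hS.exists_pd he (hΘ.mono bot_le)
  have hZ := hS.Z2_le hr2
  have hchar : ∀ {e : X} {M N : Subgroup X}, S.PD e M → oddF M = ⊥ → S.IsTh N →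
      S.big 2 (S.th S.A) ≤ N → oddF N = ⊥ := fun he h0 hN h => eq_bot_iff.2
    (oddF_le_of_forall fun p _ hp => (he.eq_bot_of_char hΘ bot_le hp hN
      ((big_anti he.pt.thA_le).trans h) bot_le h0).le)
  by_cases h : ∀ e M, S.PD e M → oddF M ≤ centralizer (S.Z2 : Set X)
  · obtain ⟨a, ha⟩ := S.exists_pt
    obtain ⟨L, hL⟩ := hpd a ha
    obtain ⟨N, hN, k1⟩ := hS.exists_ctrl isTh_Z2 (zc_ne_bot (isPGroup_big le_rfl)
      (ne_bot_of_le_ne_bot hL.O_ne (hL.O_le.trans (big_anti ha.thA_le))))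
    have k2 := k1.le_of_centralizer (isTh_big le_rfl) (le_centralizer_iff.1 inf_le_right)
    have k3 : ∀ {e : X} {M : Subgroup X}, S.PD e M → oddF M ≠ ⊥ → M = N := fun he h0 => by
      have l := (big_anti he.pt.thA_le).trans k2
      exact he.eq hS hΘ hN h0 l bot_le (arr_of_le (he.F_le l
        (k1.le_of_centralizer he.max.1.oddF (h _ _ he))))
    refine hS.nc ⟨L, hL.max.1, fun e he => ?_⟩
    obtain ⟨M, hM⟩ := hpd e he
    refine hM.θ_le.trans (le_of_eq ?_)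
    by_cases k4 : oddF N = ⊥
    · have k5 : ∀ {e : X} {M : Subgroup X}, S.PD e M → oddF M = ⊥ := fun he => by
        by_contra l
        exact l ((k3 he l).symm ▸ k4)
      exact hS.cu hr2 (fun K hK l _ => hK.1.charIn_two (hchar hL (k5 hL) hK.1 l)) M L hM.max
        hM.thA_le (hM.max.1.charIn_two (k5 hM)) hL.max hL.thA_le (hL.max.1.charIn_two (k5 hL))
    · exact (k3 hM fun l => k4 (hchar hM l hN.1 k2)).trans
        (k3 hL fun l => k4 (hchar hL l hN.1 k2)).symm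
  push Not at h
  obtain ⟨b, M, hb, h⟩ := h
  have k0 : ∀ {N : Subgroup X}, ¬ oddF N ≤ centralizer (S.Z2 : Set X) → oddF N ≠ ⊥ :=
    fun l l' => l (l' ▸ bot_le)
  obtain ⟨D, hD, hbD, k1⟩ := hb.dom hS hΘ hZ h
  have key : ∀ c, S.Pt c → c ∈ D → ¬ S.θ c ≤ M → S.P2 b ≤ centralizer (zpowers c : Set X) := by
    intro c hc hcD l1
    obtain ⟨N, hN⟩ := hpd c hc
    have l2 : M ≠ N := fun l => l1 (l ▸ hN.θ_le)
    obtain ⟨l3, l4⟩ := k1 c N hcD hN
    refine commutator_eq_bot_iff_le_centralizer.1 (hN.commutator_eq_bot hS hb hΘ isTh_bot bot_le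
      bot_le ?_ l3 (k0 h) (k0 l4) l2.symm)
    obtain ⟨E, hE, hcE, l5⟩ := hN.dom hS hΘ hZ l4
    by_cases hbE : b ∈ E
    · exact (l5 b M hbE hb).1
    obtain ⟨q, hq, l6, l7⟩ : ∃ q, q.Prime ∧ pCoreOf q M = ⊥ ∧ pCoreOf q N ≠ ⊥ := by
      by_contra l
      push Not at l
      exact l2 (hb.eq_of_primes hS hΘ hN l3 (k0 h) (k0 l4) fun t ht => l t ht.out)
    have := Fact.mk hq
    obtain ⟨p, hp, hp2, l8⟩ := exists_of_oddF_ne_bot (k0 h)
    have := Fact.mk hp
    have hq2 : q ≠ 2 := fun l => hb.O_ne (l ▸ l6)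
    refine hb.P_le_of_primes hS hΘ hN l3 hp2 hq2 (fun l => l8 (l ▸ l6)) (hW q hq2) l8 l7 hE hbE
      (le_centralizer_iff.1 fun e he => ?_)
    by_cases l : e = 1
    · exact l ▸ one_mem _
    obtain ⟨K, hK⟩ := hpd e (hE.pt he l)
    exact le_centralizer_iff.1 ((hK.i3 hΘ bot_le hq2 hN.max.1 (l5 e K he hK).1 bot_le).1.trans
      hK.pt.le_cent') (mem_zpowers e)
  obtain ⟨c, c', hc, hc', l1, l2, l3, l4, l5⟩ := hS.exists_two hb.max.1 hD
  exact hb.U_ne (commutator_eq_bot_iff_le_centralizer.2 ((hD.le_centralizer hc hc' l1 l2 l3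
    (key c hc l1 l4) (key c' hc' l2 l5)).trans (centralizer_le (zpowers_le_of_mem hbD))))

end SF

/-- The solvable signalizer functor theorem. -/
theorem SF.complete [Finite X] (S : SF X) : S.Complete := by
  refine complete_of_ctx S.k Set.univ (fun _ _ _ S _ _ hS => ?_) S rfl
    fun _ _ _ _ _ => Set.mem_univ _
  have := Fact.mk Nat.prime_two
  by_cases hr : S.r = 2
  · exact hS.not_odd fun a ha => coprime_iff_isPiSubgroup.1 (hr ▸ ha.isTh.cop)
  have := Fact.mk (le_antisymm (Nat.lt_succ_iff.1 (not_le.1 hS.not_four_le)) S.three_le)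
  exact hS.not_three hr

end CfsgLib.Sig
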