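import Cfsg.Agent.Lib.Sig.SigOdd
import Cfsg.Agent.Lib.Sig.SigCor
import Cfsg.Agent.Lib.FT.BG1
import Cfsg.Agent.Lib.H5Involutions
import Cfsg.Agent.Lib.PGroupRankOne
import Cfsg.Prelude.Def_Involutions
import Cfsg.Prelude.Def_CaseTheorems

/-!
# Groups with solvable involution centralizers: the functor `t ↦ O(C(t))`
-/

set_option autoImplicit false

namespace CfsgLib.Sig

open Subgroup Cfsg CfsgLib.Cop CfsgLib.H1
open scoped commutatorElement

variable {G : Type*} [Group G]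

theorem centralizer_singleton_conj (g t : G) : centralizer ({g * t * g⁻¹} : Set G) =
    (centralizer ({t} : Set G)).map (MulAut.conj g).toMonoidHom := by
  ext x
  rw [CfsgLib.mem_map_conj_iff, mem_centralizer_singleton_iff, mem_centralizer_singleton_iff]
  constructor <;> intro h
  · calc g⁻¹ * x * g * t = g⁻¹ * (x * (g * t * g⁻¹)) * g := by group
      _ = t * (g⁻¹ * x * g) := by rw [h]; group
  · calc x * (g * t * g⁻¹) = g * (g⁻¹ * x * g * t) * g⁻¹ := by group
      _ = g * t * g⁻¹ * x := by rw [h]; group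

theorem isPGroup_zpowers_of_orderOf [Finite G] {p : ℕ} {t : G} (ht : orderOf t = p) :
    IsPGroup p (zpowers t) := IsPGroup.of_card (n := 1) (by rw [Nat.card_zpowers, ht, pow_one])

theorem exists_involution_mem [Finite G] {P : Subgroup G} (hP : IsPGroup 2 P) (h : P ≠ ⊥) :
    ∃ t ∈ P, orderOf t = 2 := by
  have := Fact.mk Nat.prime_two
  obtain ⟨t, ht⟩ := exists_prime_orderOf_dvd_card' (G := P) 2
    ((IsPGroup.card_eq_or_dvd hP).resolve_left fun h1 => h (card_eq_one.1 h1))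
  exact ⟨t, t.2, by rw [Subgroup.orderOf_coe, ht]⟩

theorem mem_four {a b x : G} (ha : a * a = 1) (hb : b * b = 1) (hab : a * b = b * a)
    (hx : x ∈ zpowers a ⊔ zpowers b) : x = 1 ∨ x = a ∨ x = b ∨ x = a * b := by
  have h1 : a * (a * b) = b := by rw [← mul_assoc, ha, one_mul]
  have h2 : b * (a * b) = a := by rw [hab, ← mul_assoc, hb, one_mul]
  have h3 : a * b * a = b := by rw [mul_assoc, ← hab, h1]
  have h4 : a * b * b = a := by rw [mul_assoc, hb, mul_one]
  have h5 : a * b * (a * b) = 1 := by rw [mul_assoc, h2, ha]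
  let K : Subgroup G :=
    { carrier := {x | x = 1 ∨ x = a ∨ x = b ∨ x = a * b}
      mul_mem' := by
        rintro x y (hx | hx | hx | hx) (hy | hy | hy | hy) <;> rw [hx, hy] <;>
          simp only [Set.mem_setOf_eq, one_mul, mul_one, ha, hb, h1, h2, h3, h4, h5, ← hab,
            true_or, or_true]
      one_mem' := Or.inl rfl
      inv_mem' := by
        rintro x (rfl | rfl | rfl | rfl)
        · simp
        · simp [inv_eq_of_mul_eq_one_right ha]
        · simp [inv_eq_of_mul_eq_one_right hb]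
        · simp [inv_eq_of_mul_eq_one_right h5] }
  exact (sup_le (zpowers_le.2 (Or.inr (Or.inl rfl))) (zpowers_le.2 (Or.inr (Or.inr (Or.inl rfl)))) :
    zpowers a ⊔ zpowers b ≤ K) hx

variable [Finite G]

theorem isStronglyEmbedded_subgroupOf {H M R : Subgroup G} (hR : IsSylowIn 2 R H) (h0 : R ≠ ⊥)
    (hM : ¬ H ≤ M) (hN : H ⊓ normalizer (R : Set G) ≤ M)
    (hC : ∀ t ∈ R, orderOf t = 2 → H ⊓ centralizer ({t} : Set G) ≤ M) :
    IsStronglyEmbedded (M.subgroupOf H) := by
  have := Fact.mk Nat.prime_two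
  have hRM : R ≤ H ⊓ M := le_inf hR.le ((le_inf hR.le le_normalizer).trans hN)
  have hR' := hR.mono hRM inf_le_left
  have hC' : ∀ t ∈ H ⊓ M, orderOf t = 2 → H ⊓ centralizer ({t} : Set G) ≤ M := by
    intro t ht h2 x hx
    obtain ⟨m, hm, h3⟩ := hR'.exists_conj_le (isPGroup_zpowers_of_orderOf h2) (zpowers_le.2 ht)
    obtain ⟨hm1, hm2⟩ := mem_inf.1 hm
    have h4 := hC (m * t * m⁻¹) (h3 (mem_map_of_mem _ (mem_zpowers t)))
      (by rw [H5.orderOf_conj', h2]) (x := m * x * m⁻¹)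
      ⟨mul_mem (mul_mem hm1 hx.1) (H.inv_mem hm1), by
        rw [centralizer_singleton_conj]
        exact mem_map_of_mem _ hx.2⟩
    exact (mul_mem_cancel_left hm2).1 ((mul_mem_cancel_right (inv_mem hm2)).1 h4)
  refine ⟨fun h => hM (subgroupOf_eq_top.1 h), ?_, fun g hg => ?_⟩
  · rw [← inf_subgroupOf_left, card_subgroupOf_of_le inf_le_left, even_iff_two_dvd]
    exact ((IsPGroup.card_eq_or_dvd hR.isPGroup).resolve_left
      fun h1 => h0 (card_eq_one.1 h1)).trans (card_dvd_of_le hRM)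
  · rw [← Nat.not_even_iff_odd, even_iff_two_dvd]
    intro hd
    obtain ⟨⟨t, ht0⟩, ht⟩ := exists_prime_orderOf_dvd_card' 2 hd
    obtain ⟨ht1, ht2⟩ := mem_inf.1 ht0
    replace ht : orderOf (t : G) = 2 := by
      rw [Subgroup.orderOf_coe, ← ht, ← Subgroup.orderOf_coe ⟨t, ht0⟩]
    have hg1 : (g : G) ∈ H := g.2
    have key : ∀ s : G, s ∈ H → orderOf s = 2 → (g : G)⁻¹ * s * g ∈ M → ∀ x ∈ H,
        x ∈ centralizer ({s} : Set G) → (g : G)⁻¹ * x * g ∈ M := fun s hs h1 h2 x hx h3 =>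
      hC' _ ⟨mul_mem (mul_mem (H.inv_mem hg1) hs) g.2, h2⟩ (by rw [H5.orderOf_conj'', h1])
        ⟨mul_mem (mul_mem (H.inv_mem hg1) hx) g.2, by
          have := centralizer_singleton_conj (g : G)⁻¹ s
          rw [inv_inv] at this
          rw [this]
          simpa using mem_map_of_mem (MulAut.conj (g : G)⁻¹).toMonoidHom h3⟩
    obtain ⟨T, h1, hT⟩ := IsSylowIn.exists_ge (isPGroup_zpowers_of_orderOf ht)
      (zpowers_le.2 (show (t : G) ∈ H ⊓ M from ⟨t.2, ht1⟩))
    obtain ⟨z, hz, hz2⟩ := exists_involution_mem hT.isPGroup.to_inf_left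
      (inf_centralizer_ne_bot_of_isNilpotent hT.isPGroup.isNilpotent le_rfl le_normalizer
        (hT.ne_bot ((IsPGroup.card_eq_or_dvd hR.isPGroup).resolve_left
          (fun h1 => h0 (card_eq_one.1 h1)) |>.trans (card_dvd_of_le hRM))))
    have h2 := key t t.2 ht (CfsgLib.mem_map_conj_iff (G := H).1 ht2) z (hT.le hz.1).1
      (mem_centralizer_singleton_iff.2 (hz.2 t (h1 (mem_zpowers _))).symm)
    have h3 : T.map (MulAut.conj (g : G)⁻¹).toMonoidHom ≤ H ⊓ M := by
      rintro _ ⟨x, hx, rfl⟩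
      simpa using ⟨mul_mem (mul_mem (H.inv_mem hg1) (hT.le hx).1) g.2, key z (hT.le hz.1).1 hz2 h2 x
        (hT.le hx).1 (mem_centralizer_singleton_iff.2 (hz.2 x hx))⟩
    obtain ⟨a, ha, h4⟩ := hR'.exists_conj_eq (hT.of_card_le (hT.isPGroup.map _) h3
      (card_map_conj _ _).ge)
    obtain ⟨b, hb, h5⟩ := hT.exists_conj_eq hR'
    obtain ⟨ha1, ha2⟩ := mem_inf.1 ha
    obtain ⟨hb1, hb2⟩ := mem_inf.1 hb
    have h6 : a * (g : G)⁻¹ * b ∈ M := hN ⟨mul_mem (mul_mem ha1 (H.inv_mem hg1)) hb1,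
      mem_normalizer_of_map_conj_eq (by rw [map_conj_mul, map_conj_mul, h5, h4])⟩
    exact hg (inv_mem_iff.1 ((mul_mem_cancel_left ha2).1 ((mul_mem_cancel_right hb2).1 h6)))

/-- Thompson's transfer lemma inside `O²(G)`. -/
theorem exists_conj_mem_of_relIndex_dvd {R R₀ : Subgroup G} (hR : IsSylowIn 2 R (pResidual 2 G))
    (h0 : R₀.relIndex R ∣ 2) {t : G} (ht : t ∈ R) (h2 : orderOf t = 2) :
    ∃ g ∈ pResidual 2 G, g⁻¹ * t * g ∈ R ⊓ R₀ := by
  have := Fact.mk Nat.prime_two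
  rcases (Nat.dvd_prime Nat.prime_two).1 h0 with h | h
  · exact ⟨1, one_mem _, by simpa using ⟨ht, relIndex_eq_one.1 h ht⟩⟩
  obtain ⟨g, hg⟩ := H5.exists_conj_mem_of_index_mod_four (M := (R ⊓ R₀).subgroupOf (pResidual 2 G))
    (t := ⟨t, hR.le ht⟩) (by
      have h1 := relIndex_mul_relIndex (R ⊓ R₀) R (pResidual 2 G) inf_le_left hR.le
      rw [inf_relIndex_left, h] at h1
      have h3 := hR.not_dvd
      change (R ⊓ R₀).relIndex _ % 4 = 2
      omega) (Subtype.ext (by simpa using h2 ▸ pow_orderOf_eq_one t)) (by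
      have h1 := Fusion.le_commutator_pResidual hR.isPGroup hR.le ht
      rw [← map_subtype_commutator] at h1
      obtain ⟨y, hy, h3⟩ := h1
      rwa [show y = ⟨t, hR.le ht⟩ from Subtype.ext h3] at hy)
  exact ⟨g, g.2, hg⟩

/-- `O(C(t))` -/
def oc (t : G) : Subgroup G := piCoreOf {2}ᶜ (centralizer ({t} : Set G))

omit [Finite G] in
theorem oc_le (t : G) : oc t ≤ centralizer ({t} : Set G) := piCoreOf_le _

theorem le_normalizer_oc (t : G) : centralizer ({t} : Set G) ≤ normalizer (oc t : Set G) :=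
  le_normalizer_piCoreOf _

theorem oc_coprime (t : G) : (Nat.card (oc t)).Coprime 2 :=
  haveI := Fact.mk Nat.prime_two
  piCoreOf_compl_coprime 2 _

theorem oc_conj (g t : G) : oc (g * t * g⁻¹) = (oc t).map (MulAut.conj g).toMonoidHom := by
  rw [oc, centralizer_singleton_conj, piCoreOf_map_conj, oc]

theorem card_oc_conj (g t : G) : Nat.card (oc (g * t * g⁻¹)) = Nat.card (oc t) := by
  rw [oc_conj, card_map_conj]

/-- all involution centralizers are solvable -/
def SolC (G : Type*) [Group G] : Prop :=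
  ∀ t : G, orderOf t = 2 → Group.IsSolvable (centralizer ({t} : Set G))

theorem SolC.le_oc (hC : SolC G) {t : G} (ht : orderOf t = 2) {Q L : Subgroup G}
    (hQ : IsPGroup 2 Q) (h1 : Q ≤ centralizer ({t} : Set G)) (h2 : L ≤ centralizer ({t} : Set G))
    (hL : (Nat.card L).Coprime 2) (h3 : L ≤ centralizer (Q : Set G))
    (h4 : centralizer ({t} : Set G) ⊓ centralizer (Q : Set G) ≤ normalizer (L : Set G)) :
    L ≤ oc t := by
  have := Fact.mk Nat.prime_two
  rw [oc, ← map_pPrimeCore_eq_piCoreOf]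
  exact FT.le_p'core_of_cent_pgroup (hC t ht) hQ h1 h2 hL h3 h4

theorem SolC.bal (hC : SolC G) {s t : G} (hs : orderOf s = 2) (ht : orderOf t = 2)
    (h : s * t = t * s) : oc s ⊓ centralizer ({t} : Set G) ≤ oc t :=
  hC.le_oc ht (isPGroup_zpowers_of_orderOf hs) (zpowers_le.2 (mem_centralizer_singleton_iff.2 h))
    inf_le_right ((oc_coprime s).coprime_dvd_left (card_dvd_of_le inf_le_left))
    (inf_le_left.trans (centralizer_zpowers_eq s ▸ oc_le s))
    (le_normalizer_inf (inf_le_right.trans (centralizer_zpowers_eq s ▸ le_normalizer_oc s))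
      (inf_le_left.trans le_normalizer))

theorem SolC.charIn (hC : SolC G) (h : ∀ t : G, orderOf t = 2 → oc t = ⊥) {T : Subgroup G}
    (hT : IsPGroup 2 T) (h0 : T ≠ ⊥) : CharIn 2 (normalizer (T : Set G)) := by
  have := Fact.mk Nat.prime_two
  set L := normalizer (T : Set G)
  have h1 : T ≤ pCoreOf 2 L := le_pCoreOf le_normalizer le_rfl hT
  obtain ⟨t, ht, ht2⟩ := exists_involution_mem (pCoreOf_isPGroup (p := 2) L).to_inf_left
    (inf_centralizer_ne_bot_of_isNilpotent (pCoreOf_isPGroup L).isNilpotent le_rfl le_normalizer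
      (ne_bot_of_le_ne_bot h0 h1))
  set C := L ⊓ centralizer (pCoreOf 2 L : Set G) with hCdef
  have h2 : C ≤ centralizer ({t} : Set G) :=
    inf_le_right.trans (centralizer_le (Set.singleton_subset_iff.2 ht.1))
  have h3 : piCoreOf {2}ᶜ C = ⊥ := eq_bot_iff.2 (h t ht2 ▸ hC.le_oc ht2 (pCoreOf_isPGroup L)
    (fun x hx => mem_centralizer_singleton_iff.2 (ht.2 x hx)) ((piCoreOf_le C).trans h2)
    (piCoreOf_compl_coprime 2 C) ((piCoreOf_le C).trans inf_le_right)
    (le_trans (le_inf (inf_le_right.trans ((centralizer_le h1).trans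
      (centralizer_le_normalizer _))) inf_le_right) (le_normalizer_piCoreOf C)))
  have h4 : CharIn 2 C := charIn_iff.2 (centralizer_pCore_le
    (isPSolvable_of_isSolvable (isSolvable_of_le (hC t ht2) h2)) (by
      rwa [← map_pPrimeCore_eq_piCoreOf, map_eq_bot_iff_of_injective _ C.subtype_injective] at h3))
  have h5 : pCoreOf 2 C ≤ pCoreOf 2 L := pCoreOf_le_of_le_normalizer inf_le_left
    (le_normalizer_inf_centralizer le_normalizer (le_normalizer_pCoreOf L))
  exact le_trans (le_inf le_rfl (inf_le_right.trans (centralizer_le h5))) (h4.trans h5)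

theorem SolC.isCharacteristicTwoType (hC : SolC G) {K : Subgroup G} [K.Normal]
    (he : Even (Nat.card K)) (h : ∀ t ∈ K, orderOf t = 2 → oc t = ⊥) :
    IsCharacteristicTwoType K := by
  have h1 : ∀ t : K, (centralizer ({t} : Set K)).map K.subtype =
      K ⊓ centralizer ({(t : G)} : Set G) := fun t => by
    rw [← centralizer_zpowers_eq, map_subtype_centralizer, MonoidHom.map_zpowers,
      centralizer_zpowers_eq, coe_subtype]
  refine ⟨he, fun T hT h0 => charIn_iff.1 (SolC.charIn (fun t ht => ?_) (fun t ht => ?_) hT h0)⟩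
  · refine isSolvable_map_subtype_iff.1 ?_
    rw [h1]
    exact isSolvable_of_le (hC t (by rw [Subgroup.orderOf_coe, ht])) inf_le_right
  · rw [← map_eq_bot_iff_of_injective _ K.subtype_injective, eq_bot_iff,
      ← h t t.2 (by rw [Subgroup.orderOf_coe, ht])]
    refine (map_piCoreOf_le _ _).trans ?_
    rw [h1]
    exact le_piCoreOf ((piCoreOf_le _).trans inf_le_right)
      ((le_normalizer_inf le_normalizer_of_normal le_normalizer).trans
        (normalizer_le_normalizer_piCoreOf _)) (piCoreOf_isPi _)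

/-- The signalizer functor `t ↦ O(C(t))`. -/
def SolC.sf (hC : SolC G) {B : Subgroup G} (hB : IsElementaryAbelian 2 B) {k : ℕ}
    (hk : Nat.card B = 2 ^ k) (h3 : 3 ≤ k) : SF G where
  r := 2
  k := k
  A := B
  θ := oc
  prime := Nat.prime_two
  elem := hB
  card := hk
  three_le := h3
  le_cent := fun a _ _ => oc_le a
  norm := fun a ha _ => ((IsElementaryAbelian.le_centralizer hB).trans
    (centralizer_le (Set.singleton_subset_iff.2 ha))).trans (le_normalizer_oc a)
  cop := fun a _ _ => oc_coprime a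
  solv := fun a ha h1 => isSolvable_of_le (hC a (haveI := Fact.mk Nat.prime_two
    orderOf_eq_prime (hB.2 a ha) h1)) (oc_le a)
  bal := fun a ha h1 b hb h2 => haveI := Fact.mk Nat.prime_two
    hC.bal (orderOf_eq_prime (hB.2 a ha) h1) (orderOf_eq_prime (hB.2 b hb) h2)
      (IsElementaryAbelian.le_centralizer hB hb a ha)

/-- `⟨O(C(v)) | v ∈ V#⟩` -/
def wc (V : Subgroup G) : Subgroup G := ⨆ v, ⨆ _ : v ∈ V ∧ v ≠ 1, oc v

omit [Finite G] in
theorem oc_le_wc {V : Subgroup G} {v : G} (h : v ∈ V) (h1 : v ≠ 1) : oc v ≤ wc V :=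
  le_iSup₂_of_le v ⟨h, h1⟩ le_rfl

theorem wc_map_conj (V : Subgroup G) (g : G) :
    wc (V.map (MulAut.conj g).toMonoidHom) = (wc V).map (MulAut.conj g).toMonoidHom := by
  refine le_antisymm (iSup₂_le ?_) (map_le_iff_le_comap.2 (iSup₂_le fun v hv =>
    map_le_iff_le_comap.1 ((oc_conj g v).ge.trans (oc_le_wc (mem_map_of_mem _ hv.1) ?_))))
  · rintro _ ⟨⟨v, hv, rfl⟩, h1⟩
    exact (oc_conj g v).le.trans (map_mono (oc_le_wc hv fun h => h1 (by simp [h])))
  · simpa using hv.2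

theorem SolC.wc_eq (hC : SolC G) {B V : Subgroup G} (hB : IsElementaryAbelian 2 B)
    (h8 : 8 ≤ Nat.card B) (hV : V ≤ B) (h4 : 4 ≤ Nat.card V) :
    wc V = wc B ∧ (Nat.card (wc B)).Coprime 2 := by
  have := Fact.mk Nat.prime_two
  obtain ⟨k, hk, h3⟩ := exists_card_eq_of_le hB (n := 3) h8
  obtain ⟨H, hH, h1⟩ := complete_of_odd (hC.sf hB hk h3)
    fun a _ => Nat.coprime_two_right.1 (oc_coprime a)
  have h2 : (hC.sf hB hk h3).IsTh (wc B) := hH.of_le (iSup₂_le h1)
    (le_normalizer_iSup₂ fun a ha => (hC.sf hB hk h3).norm a ha.1 ha.2)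
  exact ⟨le_antisymm (iSup₂_le fun v hv => oc_le_wc (hV hv.1) hv.2)
    (h2.le_of_nc ⟨hV, h4⟩ fun d hd h => (h2.le d hd).trans (oc_le_wc h hd.2)), h2.cop⟩

theorem SolC.wc_eq_center (hC : SolC G) {P Z V : Subgroup G} (hZ : IsElementaryAbelian 2 Z)
    (hZP : Z ≤ centralizer (P : Set G)) (h4 : 4 ≤ Nat.card Z) (hV : IsElementaryAbelian 2 V)
    (hVP : V ≤ P) (h4' : 4 ≤ Nat.card V) : wc V = wc Z := by
  have := Fact.mk Nat.prime_two
  have h1 := isElementaryAbelian_sup hV hZ (hZP.trans (centralizer_le hVP))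
  by_cases h8 : 8 ≤ Nat.card ↥(V ⊔ Z)
  · rw [(hC.wc_eq h1 h8 le_sup_left h4').1, (hC.wc_eq h1 h8 le_sup_right h4).1]
  obtain ⟨k, hk⟩ := (IsElementaryAbelian.isPGroup h1).exists_card_eq
  have h2 : Nat.card ↥(V ⊔ Z) ≤ 4 := by
    rw [hk] at h8 ⊢
    exact Nat.pow_le_pow_right two_pos (show k ≤ 2 by
      by_contra h
      exact h8 (Nat.pow_le_pow_right two_pos (show 3 ≤ k by omega)))
  rw [eq_of_le_of_card_le (le_sup_left : V ≤ V ⊔ Z) (h2.trans h4'),
    ← eq_of_le_of_card_le (le_sup_right : Z ≤ V ⊔ Z) (h2.trans h4)]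

theorem SolC.centralizer_le_normalizer_wc (hC : SolC G) {S Z : Subgroup G}
    (hS : IsSylowIn 2 S ⊤) (hZ : IsElementaryAbelian 2 Z) (hZS : Z ≤ S)
    (hZC : Z ≤ centralizer (S : Set G)) (h4 : 4 ≤ Nat.card Z) {t : G} (ht : t ∈ S)
    (h2 : orderOf t = 2) :
    oc t ≤ wc Z ∧ centralizer ({t} : Set G) ≤ normalizer (wc Z : Set G) := by
  have := Fact.mk Nat.prime_two
  have h1 : t ≠ 1 := fun h => by simp [h] at h2
  have h3 : oc t ≤ wc Z := by
    rw [← hC.wc_eq_center hZ hZC h4 (isElementaryAbelian_sup hZ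
      (isElementaryAbelian_zpowers (h2 ▸ pow_orderOf_eq_one t))
      ((zpowers_le.2 ht).trans (le_centralizer_iff.1 hZC))) (sup_le hZS (zpowers_le.2 ht))
      (h4.trans (card_le_of_le le_sup_left))]
    exact oc_le_wc (mem_sup_right (mem_zpowers t)) h1
  refine ⟨h3, ?_⟩
  set X := centralizer ({t} : Set G)
  obtain ⟨T, h5, hT⟩ := IsSylowIn.exists_ge (IsElementaryAbelian.isPGroup hZ)
    (hZC.trans (centralizer_le (Set.singleton_subset_iff.2 ht)) : Z ≤ X)
  obtain ⟨S₁, h6, hS₁⟩ := IsSylowIn.exists_ge hT.isPGroup (le_top : T ≤ ⊤)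
  obtain ⟨g, -, rfl⟩ := hS₁.exists_conj_eq hS
  have hZ₁ := isElementaryAbelian_map hZ (MulAut.conj g).toMonoidHom
  have hZC₁ : Z.map (MulAut.conj g).toMonoidHom ≤ _ :=
    (map_mono hZC).trans (centralizer_map_conj g S).ge
  have h4₁ := h4.trans (card_map_conj g Z).ge
  have htT : t ∈ T := pCoreOf_le_sylow hT (le_pCoreOf (zpowers_le.2
    (mem_centralizer_singleton_iff.2 rfl)) ((centralizer_zpowers_eq t).ge.trans
      (centralizer_le_normalizer _)) (isPGroup_zpowers_of_orderOf h2) (mem_zpowers t))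
  have h7 : Z.map (MulAut.conj g).toMonoidHom ≤ X :=
    hZC₁.trans (centralizer_le (Set.singleton_subset_iff.2 (h6 htT)))
  have h8 : Z.map (MulAut.conj g).toMonoidHom ≤ T ⊓ ppOf {2}ᶜ X := le_inf
    ((le_inf (map_mono hZS) h7).trans (hT.eq_of_le hS₁.isPGroup.to_inf_left (le_inf h6 hT.le)
      inf_le_right).le) (center_sylow_le_ppOf (hC t h2) hT h7 (hZC₁.trans (centralizer_le h6)))
  have h9 := hC.wc_eq_center hZ₁ hZC₁ h4₁ hZ (h5.trans h6) h4
  have h10 : normalizer ((T ⊓ ppOf {2}ᶜ X : Subgroup G) : Set G) ≤ normalizer (wc Z : Set G) := by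
    intro n hn
    refine mem_normalizer_of_map_conj_eq ?_
    rw [h9, ← wc_map_conj]
    exact hC.wc_eq_center hZ₁ hZC₁ h4₁ (isElementaryAbelian_map hZ₁ _) ((map_mono h8).trans
      ((map_conj_eq_of_mem_normalizer hn).le.trans (inf_le_left.trans h6)))
      (h4₁.trans (card_map_conj _ _).ge)
  refine ((hT.inf_of_le_normalizer (ppOf_le X) (hT.le.trans (le_normalizer_ppOf X))).frattini_le
    (ppOf_le X) (le_normalizer_ppOf X)).trans (sup_le ?_ (inf_le_right.trans h10))
  rw [← piCoreOf_sup_inf_ppOf hT]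
  exact sup_le (h3.trans le_normalizer) (le_normalizer.trans h10)

end CfsgLib.Sig
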