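import Cfsg.Agent.Lib.Sig.ZNLoc

/-!
# `ZN`-groups of local characteristic `2`
-/

set_option autoImplicit false

namespace CfsgLib.Sig

open Subgroup Cfsg CfsgLib.Cop CfsgLib.H1

variable {G : Type*} [Group G]

theorem MaxEA.map_conj' {T A : Subgroup G} (h : MaxEA 2 T A) (g : G) :
    MaxEA 2 (T.map (MulAut.conj g).toMonoidHom) (A.map (MulAut.conj g).toMonoidHom) := by
  refine ⟨map_mono h.1, isElementaryAbelian_map h.2.1 _, fun B h1 h2 => ?_⟩
  rw [card_map_conj, ← card_map_conj g⁻¹ B]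
  exact h.2.2 _ ((map_mono h1).trans (map_conj_inv_map_conj g T).le) (isElementaryAbelian_map h2 _)

theorem map_conj_eq_of_le {F : Subgroup G → Subgroup G}
    (h : ∀ T g, (F T).map (MulAut.conj g).toMonoidHom ≤ F (T.map (MulAut.conj g).toMonoidHom))
    (T : Subgroup G) (g : G) :
    F (T.map (MulAut.conj g).toMonoidHom) = (F T).map (MulAut.conj g).toMonoidHom := by
  refine le_antisymm ?_ (h T g)
  have := map_mono (f := (MulAut.conj g).toMonoidHom) (h (T.map (MulAut.conj g).toMonoidHom) g⁻¹)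
  rwa [map_conj_inv_map_conj, map_conj_map_conj_inv] at this

theorem jt_map_conj (T : Subgroup G) (g : G) :
    jt (T.map (MulAut.conj g).toMonoidHom) = (jt T).map (MulAut.conj g).toMonoidHom :=
  map_conj_eq_of_le (F := jt) (fun _ g => map_le_iff_le_comap.2 (jt_le_iff.2 fun _ hA =>
    map_le_iff_le_comap.1 (le_jt (MaxEA.map_conj' hA g)))) T g

theorem oz_map_conj (T : Subgroup G) (g : G) :
    oz (T.map (MulAut.conj g).toMonoidHom) = (oz T).map (MulAut.conj g).toMonoidHom :=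
  map_conj_eq_of_le (F := oz) (fun T g => by
    rintro _ ⟨x, hx, rfl⟩
    refine mem_oz.2 ⟨mem_map_of_mem _ (oz_le _ hx), ?_, by rw [← map_mul, (mem_oz.1 hx).2.2, map_one]⟩
    rw [centralizer_map_conj]
    exact mem_map_of_mem _ (oz_le_centralizer _ hx)) T g

theorem bm_map_conj (T : Subgroup G) (g : G) :
    bm (T.map (MulAut.conj g).toMonoidHom) = (bm T).map (MulAut.conj g).toMonoidHom := by
  rw [bm, bm, jt_map_conj, oz_map_conj, centralizer_map_conj, map_conj_inf]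

theorem Par.map_conj {B : Subgroup G} {d z v : G} (h : Par B d z v) (g : G) :
    Par (B.map (MulAut.conj g).toMonoidHom) (g * d * g⁻¹) (g * z * g⁻¹) (g * v * g⁻¹) where
  d3 := by rw [conj_mul, conj_mul, h.d3, mul_one, mul_inv_cancel]
  z_ne := fun e => h.z_ne (conj_eq_one_iff.1 e)
  z_sq := by rw [conj_mul, h.z_sq, mul_one, mul_inv_cancel]
  z_mem := mem_map_of_mem _ h.z_mem
  z_cent := by
    rintro _ ⟨b, hb, rfl⟩
    change g * b * g⁻¹ * _ * (g * b * g⁻¹)⁻¹ = _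
    rw [conj_inv, conj_mul, conj_mul, h.z_cent b hb]
  dz := by rw [conj_inv, conj_mul, conj_mul, h.dz]
  dv := by rw [conj_inv, conj_mul, conj_mul, h.dv, conj_mul]
  v_mem := mem_map_of_mem _ h.v_mem
  v_conj := by
    rintro _ ⟨b, hb, rfl⟩
    change g * b * g⁻¹ * _ * (g * b * g⁻¹)⁻¹ = _ ∨ g * b * g⁻¹ * _ * (g * b * g⁻¹)⁻¹ = _
    rw [conj_inv, conj_mul, conj_mul, conj_mul]
    exact (h.v_conj b hb).imp (fun e => by rw [e]) fun e => by rw [e]
  norm := by
    rw [centralizer_singleton_conj, ← map_conj_inf, normalizer_map_conj]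
    exact mem_map_of_mem _ h.norm
  ex := by
    obtain ⟨A, a, hA, ha, e⟩ := h.ex
    exact ⟨_, g * a * g⁻¹, MaxEA.map_conj' hA g, mem_map_of_mem _ ha, by
      rw [conj_inv, conj_mul, conj_mul, e, conj_inv]⟩

variable [Finite G]

theorem exists_max_bm {𝒯 : Set (Subgroup G)} (h : 𝒯.Nonempty) :
    ∃ T ∈ 𝒯, ∀ R ∈ 𝒯, bm T ≤ R → bm R = bm T ∧ (T ≤ R → R = T) := by
  have key : ∀ (f : Subgroup G → ℕ) (s : Set (Subgroup G)), s.Nonempty →
      ∃ T ∈ s, ∀ R ∈ s, f R ≤ f T := fun f s hs => s.exists_max_image f (Set.toFinite _) hs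
  choose m hm using fun T : Subgroup G => exists_maxEA 2 T
  obtain ⟨T₁, h1, h2⟩ := key (fun T => Nat.card (m T)) 𝒯 h
  obtain ⟨T₂, h3, h4⟩ := key (fun T => Nat.card (bm T))
    {T | T ∈ 𝒯 ∧ Nat.card (m T₁) ≤ Nat.card (m T)} ⟨T₁, h1, le_rfl⟩
  obtain ⟨T, h5, h6⟩ := key (fun T => Nat.card T)
    {T | (T ∈ 𝒯 ∧ Nat.card (m T₁) ≤ Nat.card (m T)) ∧ Nat.card (bm T₂) ≤ Nat.card (bm T)}
    ⟨T₂, h3, le_rfl⟩
  refine ⟨T, h5.1.1, fun R hR h7 => ?_⟩
  have e1 := (le_jt (hm T)).trans jt_le_bm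
  have e2 : MaxEA 2 R (m T) := ⟨e1.trans h7, (hm T).2.1, fun C c1 c2 =>
    ((hm R).2.2 C c1 c2).trans ((h2 R hR).trans h5.1.2)⟩
  have e3 : bm T ≤ bm R := bm_bm.ge.trans (bm_le_bm e2 e1 h7)
  have e4 : Nat.card (m T₁) ≤ Nat.card (m R) := h5.1.2.trans ((hm R).2.2 _ e2.1 e2.2.1)
  have e5 := (eq_of_le_of_card_ge e3 ((h4 R ⟨hR, e4⟩).trans h5.2)).symm
  exact ⟨e5, fun e => (eq_of_le_of_card_ge e (h6 R ⟨⟨hR, e4⟩, e5 ▸ h5.2⟩)).symm⟩

theorem le_of_le_normalizer_sylow {S U : Subgroup G} (hS : IsSylowIn 2 S ⊤) (hU : IsPGroup 2 U)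
    (h : U ≤ normalizer (S : Set G)) : U ≤ S :=
  haveI := Fact.mk Nat.prime_two
  le_sup_left.trans (hS.eq_of_le (isPGroup_sup_of_le_normalizer hU hS.isPGroup h) le_sup_right
    le_top).le

/-- `ZN`-groups of local characteristic `2`. -/
structure ZN (G : Type*) [Group G] : Prop where
  sol : ∀ U : Subgroup G, IsPGroup 2 U → U ≠ ⊥ → Group.IsSolvable (normalizer (U : Set G))
  char : ∀ U : Subgroup G, IsPGroup 2 U → U ≠ ⊥ → CharIn 2 (normalizer (U : Set G))
  cent : ∀ S : Subgroup G, IsSylowIn 2 S ⊤ → centralizer (oz S : Set G) ≤ normalizer (S : Set G)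

namespace ZN

variable (H : ZN G)
include H

theorem loc {U T : Subgroup G} (hU : IsPGroup 2 U) (h0 : U ≠ ⊥)
    (hT : IsSylowIn 2 T (normalizer (U : Set G))) : Loc (normalizer (U : Set G)) T := by
  have := Fact.mk Nat.prime_two
  obtain ⟨S, h1, hS⟩ := IsSylowIn.exists_ge (H := ⊤) hT.isPGroup le_top
  have h2 : S ⊓ normalizer (U : Set G) = T :=
    hT.eq_of_le hS.isPGroup.to_inf_left (le_inf h1 hT.le) inf_le_right
  have h3 : U ≤ T := (le_pCoreOf le_normalizer le_rfl hU).trans (pCoreOf_le_sylow hT)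
  have h4 : oz S ≤ oz T := fun x hx => mem_oz.2 ⟨h2 ▸ ⟨oz_le _ hx, centralizer_le_normalizer _
    (centralizer_le (h3.trans h1) (oz_le_centralizer _ hx))⟩,
    centralizer_le h1 (oz_le_centralizer _ hx), (mem_oz.1 hx).2.2⟩
  refine ⟨H.sol U hU h0, H.char U hU h0, hT, ?_⟩
  conv_rhs => rw [← h2]
  exact le_normalizer_inf (inf_le_right.trans ((centralizer_le h4).trans (H.cent S hS)))
    (inf_le_left.trans le_normalizer)

theorem pair_or {B : Subgroup G} (hB : IsPGroup 2 B) (p : G → Prop)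
    (hs : ∀ d, p d → ∀ U T : Subgroup G, IsPGroup 2 U → U ≠ ⊥ → d ∈ normalizer (U : Set G) →
      IsPGroup 2 T → B ≤ T → T ≤ normalizer (U : Set G) → bm T = B) :
    (∃ d d' z v v', Am B d d' z v v' ∧ Star B (B ⊔ zpowers d) ∧ Star B (B ⊔ zpowers d')) ∨
      ∃ V ≤ B, (∀ d z v, Par B d z v → p d → V ≠ ⊥ ∧ d ∈ normalizer (V : Set G)) ∧
        ∀ g ∈ normalizer (B : Set G), (∀ d, p d → p (g * d * g⁻¹)) → g ∈ normalizer (V : Set G) := by
  have := Fact.mk Nat.prime_two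
  have star : ∀ d, p d → Star B (B ⊔ zpowers d) := fun d hd U T h1 h2 h3 h4 h5 h6 => by
    have e := hs d hd U T h1 h2 (h3 (mem_sup_right (mem_zpowers d))) h4 h5 h6
    exact ⟨e ▸ le_normalizer_bm le_normalizer, by rw [← e, oz_bm]; rfl⟩
  refine or_iff_not_imp_left.2 fun hn => ?_
  set V := ⨆ x ∈ {x : G × G × G | Par B x.1 x.2.1 x.2.2 ∧ p x.1}, zpowers x.2.1 ⊔ zpowers x.2.2
    with hV
  have h1 : ∀ {d z v}, Par B d z v → p d → zpowers z ⊔ zpowers v ≤ V := fun {d z v} e1 e2 =>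
    le_iSup₂_of_le (f := fun (x : G × G × G) (_ : x ∈ {x : G × G × G | Par B x.1 x.2.1 x.2.2 ∧
      p x.1}) => zpowers x.2.1 ⊔ zpowers x.2.2) (d, z, v) ⟨e1, e2⟩ le_rfl
  have h2 : ∀ g : G, (∀ d z v, Par B d z v → p d → g * z * g⁻¹ ∈ V ∧ g * v * g⁻¹ ∈ V) →
      g ∈ normalizer (V : Set G) := fun g hg => mem_normalizer_fintype fun x hx =>
    (iSup₂_le fun y hy => sup_le (zpowers_le_of_mem (hg _ _ _ hy.1 hy.2).1)
      (zpowers_le_of_mem (hg _ _ _ hy.1 hy.2).2) : V ≤ V.comap (MulAut.conj g).toMonoidHom) hx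
  refine ⟨V, iSup₂_le fun y hy => hy.1.four_le, fun d' z' v' h' p' => ⟨fun e => h'.z_ne
    (mem_bot.1 (e ▸ h1 h' p' (mem_sup_left (mem_zpowers _)))), inv_mem_iff.1 (h2 _ ?_)⟩,
    fun g hg hp => h2 g fun d z v e1 e2 => ?_⟩
  · intro d z v h hp
    obtain ⟨N, n1, n2, n3, n4⟩ : ∃ N ≤ B, B ⊔ zpowers d ≤ normalizer (N : Set G) ∧
        B ⊔ zpowers d' ≤ normalizer (N : Set G) ∧ N ≠ ⊥ := by
      by_contra e
      push Not at e
      obtain ⟨rfl, e1⟩ := h.amalgam h' e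
      exact hn ⟨d, d', z, v, v', ⟨h, h', e1, e⟩, star d hp, star d' p'⟩
    obtain ⟨T, t1, t2⟩ := IsSylowIn.exists_ge hB (le_sup_left.trans n2)
    have d1 := n2 (mem_sup_right (mem_zpowers d))
    obtain rfl := hs d hp N T (hB.to_le n1) n4 d1 t2.isPGroup t1 t2.le
    have := fun u => (H.loc (hB.to_le n1) n4 t2).conj_mem_of_par (u := u) h d1 h'
      (n3 (mem_sup_right (mem_zpowers d')))
    rw [inv_inv]
    exact ⟨sup_le (h1 h hp) (h1 h' p') (this z (Or.inl rfl)),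
      sup_le (h1 h hp) (h1 h' p') (this v (Or.inr rfl))⟩
  · have := h1 (map_conj_eq_of_mem_normalizer hg ▸ e1.map_conj g) (hp d e2)
    exact ⟨this (mem_sup_left (mem_zpowers _)), this (mem_sup_right (mem_zpowers _))⟩

theorem main (hO : pCore 2 G = ⊥) (he : Even (Nat.card G)) :
    (∃ S M : Subgroup G, IsSylowIn 2 S ⊤ ∧ M ≠ ⊤ ∧ normalizer (S : Set G) ≤ M ∧
      ∀ t ∈ S, orderOf t = 2 → centralizer {t} ≤ M) ∨ ∃ (B : Subgroup G) (d d' z v v' : G),
        IsPGroup 2 B ∧ Am B d d' z v v' ∧ Star B (B ⊔ zpowers d) ∧ Star B (B ⊔ zpowers d') := by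
  have := Fact.mk Nat.prime_two
  obtain ⟨S, hS2, hS⟩ := exists_max_bm (𝒯 := {T : Subgroup G | IsPGroup 2 T}) ⟨⊥, IsPGroup.of_bot⟩
  have hS1 : IsSylowIn 2 S ⊤ := IsSylowIn.of_maximal le_top hS2 fun T h1 h2 _ =>
    ((hS T h1 (bm_le.trans h2)).2 h2).le
  have hS0 : S ≠ ⊥ := hS1.ne_bot (by rw [card_top]; exact he.two_dvd)
  rcases H.pair_or (hS2.to_le bm_le) (fun _ => True) fun _ _ _ T _ _ _ h1 h2 _ => (hS T h1 h2).1
    with ⟨d, d', z, v, v', h⟩ | ⟨V, v1, v2, v3⟩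
  · exact Or.inr ⟨_, d, d', z, v, v', hS2.to_le bm_le, h⟩
  obtain ⟨U₀, u1, u2, u3, u4⟩ : ∃ U : Subgroup G, IsPGroup 2 U ∧ U ≠ ⊥ ∧
      normalizer (jt S : Set G) ≤ normalizer (U : Set G) ∧
      ∀ d z v, Par (bm S) d z v → d ∈ normalizer (U : Set G) := by
    by_cases e : V = ⊥
    · exact ⟨jt S, hS2.to_le jt_le, jt_ne_bot hS2 hS0, le_rfl,
        fun d z v h => absurd e (v2 d z v h trivial).1⟩
    refine ⟨V, hS2.to_le (v1.trans bm_le), e, fun g hg => v3 g (mem_normalizer_fintype fun x hx => ?_)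
      fun _ _ => trivial, fun d z v h => (v2 d z v h trivial).2⟩
    have e1 := conj_mem_of_le_normalizer (le_normalizer_centralizer (le_normalizer_oz le_rfl)) hg hx.2
    obtain ⟨k, hk⟩ := hS2 ⟨x, hx.1⟩
    refine ⟨le_of_le_normalizer_sylow hS1 (isPGroup_zpowers_of_pow (k := k) (by
      rw [conj_pow, show x ^ 2 ^ k = 1 from congrArg Subtype.val hk, mul_one, mul_inv_cancel]))
      (zpowers_le_of_mem (H.cent S hS1 (centralizer_le (fun y hy => mem_oz_jt (oz_le _ hy)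
        (mem_oz.1 hy).2.2 (centralizer_le jt_le (oz_le_centralizer _ hy))) e1))) (mem_zpowers _), e1⟩
  set M := normalizer (U₀ : Set G) with hM
  have m0 : normalizer (S : Set G) ≤ M := (le_normalizer_jt le_rfl).trans u3
  have m1 : IsSylowIn 2 S M := hS1.mono (le_normalizer.trans m0) le_top
  have good : ∀ R, IsSylowIn 2 R M → normalizer (jt R : Set G) ≤ M ∧
      ∀ d z v, Par (bm R) d z v → d ∈ M := fun R hR => by
    obtain ⟨x, hx, rfl⟩ := hR.exists_conj_eq m1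
    refine ⟨?_, fun d z v h => ?_⟩
    · rw [jt_map_conj, normalizer_map_conj]
      exact map_conj_le_of_mem u3 hx
    · have e := h.map_conj x⁻¹
      rw [bm_map_conj, map_conj_inv_map_conj] at e
      simpa [mul_assoc] using mul_mem (mul_mem hx (u4 _ _ _ e)) (inv_mem hx)
  by_cases hc : ∀ t ∈ S, orderOf t = 2 → centralizer {t} ≤ M
  · refine Or.inl ⟨S, M, hS1, fun e => u2 (eq_bot_iff.2 ?_), m0, hc⟩
    rw [← hO, ← pCoreOf_top]
    exact le_pCoreOf le_top e.ge u1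
  push Not at hc
  obtain ⟨t, ht, t2, t3⟩ := hc
  have t4 : zpowers t ≠ ⊥ := fun e => ne_one_of_orderOf t2 (zpowers_eq_bot.1 e)
  obtain ⟨T, ⟨hT2, hT0, hTM, U, hU2, hU0, hTU, hUM⟩, hT⟩ := exists_max_bm
    (𝒯 := {T : Subgroup G | IsPGroup 2 T ∧ T ≠ ⊥ ∧ T ≤ M ∧ ∃ U : Subgroup G, IsPGroup 2 U ∧ U ≠ ⊥ ∧
      T ≤ normalizer (U : Set G) ∧ ¬ normalizer (U : Set G) ≤ M})
    ⟨zpowers t, isPGroup_zpowers_of_orderOf t2, t4, zpowers_le_of_mem (m1.le ht), zpowers t,
      isPGroup_zpowers_of_orderOf t2, t4, le_normalizer, fun e => t3 (by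
        rw [← centralizer_zpowers']; exact (centralizer_le_normalizer _).trans e)⟩
  have hJ := jt_ne_bot hT2 hT0
  obtain ⟨R, hTR, hR⟩ := IsSylowIn.exists_ge hT2 hTM
  have key : ∀ W : Subgroup G, IsPGroup 2 W → W ≠ ⊥ → R ⊓ normalizer (T : Set G) ≤
      normalizer (W : Set G) → ¬ normalizer (W : Set G) ≤ M → T = R := fun W w1 w2 w3 w4 => by
    have e := le_inf hTR (le_normalizer (H := T))
    by_contra e1
    exact (lt_inf_normalizer_of_isPGroup hR.isPGroup (lt_of_le_of_ne hTR e1)).ne' ((hT _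
      ⟨hR.isPGroup.to_inf_left, fun e2 => hT0 (eq_bot_iff.2 (e.trans e2.le)),
        inf_le_left.trans hR.le, W, w1, w2, w3, w4⟩ (bm_le.trans e)).2 e)
  have c1 : normalizer (jt T : Set G) ≤ M := by_contra fun e => e (by
    rw [key _ (hT2.to_le jt_le) hJ (le_normalizer_jt inf_le_right) e]
    exact (good R hR).1)
  have c2 : ∀ W T₁ : Subgroup G, IsPGroup 2 W → W ≠ ⊥ → ¬ normalizer (W : Set G) ≤ M →
      IsPGroup 2 T₁ → bm T ≤ T₁ → T₁ ≤ normalizer (W : Set G) →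
        bm T₁ = bm T ∧ (T ≤ T₁ → T₁ = T) := fun W T₁ w1 w2 w3 e1 e2 e3 => by
    have e4 := le_inf e2 (bm_le.trans hTM)
    have e5 := hT (T₁ ⊓ M) ⟨e1.to_inf_left, fun e => hJ (eq_bot_iff.2
      (jt_le_bm.trans (e4.trans e.le))), inf_le_right, W, w1, w2, inf_le_left.trans e3, w3⟩ e4
    have e6 : T₁ ≤ M := by_contra fun e => by
      refine (lt_inf_normalizer_of_isPGroup e1 (inf_lt_left.2 e)).not_ge
        (inf_le_inf_left _ (le_trans ?_ c1))
      rw [← jt_bm, ← e5.1, jt_bm]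
      exact le_normalizer_jt le_rfl
    rwa [inf_eq_left.2 e6] at e5
  obtain ⟨T₁, e1, e2⟩ := IsSylowIn.exists_ge hT2 hTU
  obtain rfl := (c2 U T₁ hU2 hU0 hUM e2.isPGroup (bm_le.trans e1) e2.le).2 e1
  obtain ⟨d, -, z, v, h, hd⟩ : ∃ d ∈ normalizer (U : Set G), ∃ z v, Par (bm T₁) d z v ∧ d ∉ M := by
    by_contra e
    push Not at e
    exact hUM ((H.loc hU2 hU0 e2).le_of_par (inf_le_right.trans c1) e)
  rcases H.pair_or (hT2.to_le bm_le) (fun d => d ∉ M) fun d hd W T₂ w1 w2 w3 w4 w5 w6 =>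
    (c2 W T₂ w1 w2 (fun e => hd (e w3)) w4 w5 w6).1 with ⟨d, d', z, v, v', h⟩ | ⟨W, w1, w2, w3⟩
  · exact Or.inr ⟨_, d, d', z, v, v', hT2.to_le bm_le, h⟩
  obtain ⟨w4, w5⟩ := w2 d z v h hd
  have := key W (hT2.to_le (w1.trans bm_le)) w4 (fun g hg => w3 g
    (le_normalizer_bm inf_le_right hg) fun d hd e => hd (by
      simpa [mul_assoc] using mul_mem (mul_mem (inv_mem (hR.le hg.1)) e) (hR.le hg.1)))
    fun e => hd (e w5)
  exact absurd ((good R hR).2 d z v (this ▸ h)) hd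

theorem se_or (hO' : pPrimeCore 2 G = ⊥) (hO : pCore 2 G = ⊥) (he : Even (Nat.card G))
    {S : Subgroup G} (hS : IsSylowIn 2 S ⊤) :
    (∃ M : Subgroup (pResidual 2 G), IsStronglyEmbedded M) ∨
      (∃ n : ℕ, 2 ≤ n ∧ Nonempty (↥(S ⊓ pResidual 2 G) ≃* DihedralGroup n)) ∨
        IsQuasiDihedral ↥(S ⊓ pResidual 2 G) := by
  have := Fact.mk Nat.prime_two
  have hn := PRes.pResidual_normal (p := 2) (G := G)
  rcases H.main hO he with ⟨R, M, h1, h2, h3, h4⟩ | ⟨B, d, d', z, v, v', h1, h2, h3, h4⟩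
  · obtain ⟨P, rfl⟩ := IsSylowIn.top_iff.1 h1
    have h5 := sylow_inf_pResidual_ne_bot he hO' hO P
    have h6 := le_normalizer.trans h3
    refine Or.inl ⟨_, isStronglyEmbedded_subgroupOf (M := M) (IsSylowIn.sylow_inf_normal P _) h5
      (fun e => h2 (eq_top_iff.2 (PRes.pResidual_sup_sylow P ▸ sup_le e h6))) (fun g hg => ?_)
      fun t ht e => inf_le_right.trans (h4 t ht.1 e)⟩
    obtain ⟨t, ht, t2⟩ := exists_involution_mem
      (P := (P : Subgroup G) ⊓ pResidual 2 G ⊓ centralizer (P : Set G))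
      P.isPGroup'.to_inf_left.to_inf_left (inf_centralizer_ne_bot_of_isNilpotent P.isPGroup'.isNilpotent inf_le_left
        (le_normalizer_inf le_normalizer le_normalizer_of_normal) h5)
    have t3 := h4 _ ((mem_normalizer_iff.1 hg.2 t).1 ht.1).1 (IsConj.orderOf_two
      (isConj_iff.2 ⟨g, rfl⟩) t2)
    rw [centralizer_singleton_conj] at t3
    obtain ⟨x, hx, e⟩ := (h1.mono h6 le_top).exists_conj_le (h1.map_conj g).isPGroup
      ((map_mono fun y hy => mem_centralizer_singleton_iff.2 (ht.2 y hy)).trans t3)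
    rw [← map_conj_mul] at e
    exact (mul_mem_cancel_left hx).1 (h3 (mem_normalizer_fintype fun y hy =>
      e (mem_map_of_mem _ hy)))
  · obtain ⟨x, -, e⟩ := hS.exists_conj_le h1 le_top
    have h5 : B ≤ S.map (MulAut.conj x⁻¹).toMonoidHom :=
      (map_conj_inv_map_conj x B).ge.trans (map_mono e)
    have h6 := hS.map_conj_of_mem_normalizer (g := x⁻¹) (le_normalizer (mem_top _))
    have h7 := congrArg (map (MulAut.conj x).toMonoidHom)
      (h2.centralizer_eq h3 h4 h6 h5 (H.cent _ h6))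
    rw [map_conj_inf, map_conj_inf, map_conj_map_conj_inv, ← centralizer_singleton_conj,
      map_conj_eq_of_mem_normalizer (le_normalizer_of_normal (K := ⊤) trivial), Subgroup.map_sup,
      ← zpowers_conj, ← zpowers_conj] at h7
    have h8 := h2.l.map_conj x
    exact Or.inr (dihedral_or_of_centralizer hS.isPGroup.to_inf_left h8.z_sq h8.v_sq h8.z_ne
      h8.v_ne_one h8.v_ne h7)

end ZN

theorem IsQuasiDihedral.of_mulEquiv {A B : Type*} [Group A] [Group B] (h : IsQuasiDihedral A)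
    (e : A ≃* B) : IsQuasiDihedral B := by
  obtain ⟨n, h1, h2, x, y, h3, h4, h5⟩ := h
  exact ⟨n, h1, Nat.card_congr e.symm.toEquiv ▸ h2, e x, e y, by rw [e.orderOf_eq, h3],
    by rw [e.orderOf_eq, h4], by rw [← map_inv, ← map_mul, ← map_mul, h5, map_pow]⟩

theorem IsStronglyEmbedded.of_mulEquiv {A B : Type*} [Group A] [Group B] {M : Subgroup A}
    (h : IsStronglyEmbedded M) (e : A ≃* B) : IsStronglyEmbedded (M.map e.toMonoidHom) := by
  refine ⟨fun h1 => h.1 (map_injective (f := e.toMonoidHom) e.injective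
    (by rw [h1, map_top_of_surjective _ e.surjective])),
    by rw [card_map_of_injective e.injective]; exact h.2.1, fun g hg => ?_⟩
  obtain ⟨g, rfl⟩ := e.surjective g
  have := h.2.2 g fun h1 => hg (mem_map_of_mem _ h1)
  rw [← card_map_of_injective (f := e.toMonoidHom) e.injective, map_inf _ _ _ e.injective,
    map_map_conj] at this
  exact this

theorem zn_theorem (heven : Even (Nat.card G))
    (hN : ∀ L : Subgroup G, IsTwoLocal L → Group.IsSolvable L) (S : Sylow 2 G)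
    (hZ : centralizer (oz (S : Subgroup G) : Set G) ≤ normalizer ((S : Subgroup G) : Set G))
    (hO' : pPrimeCore 2 G = ⊥) (hO : pCore 2 G = ⊥)
    (hc : IsCharacteristicTwoType ↥(pResidual 2 G ⊔ oz (S : Subgroup G))) :
    (∃ M : Subgroup (pResidual 2 G), IsStronglyEmbedded M) ∨
      (∃ n : ℕ, 2 ≤ n ∧ Nonempty (↥((S : Subgroup G) ⊓ pResidual 2 G) ≃* DihedralGroup n)) ∨
        IsQuasiDihedral ↥((S : Subgroup G) ⊓ pResidual 2 G) := by
  have := Fact.mk Nat.prime_two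
  have hn := PRes.pResidual_normal (p := 2) (G := G)
  set K := pResidual 2 G ⊔ oz (S : Subgroup G) with hK
  have hKn : K.Normal := normalizer_eq_top_iff.1 (eq_top_iff.2 (by
    rw [← PRes.pResidual_sup_sylow S]
    exact sup_le (le_sup_left.trans le_normalizer)
      (le_normalizer_sup le_normalizer_of_normal (le_normalizer_oz le_normalizer))))
  have h1 : IsSylowIn 2 ((S : Subgroup G).subgroupOf K) ⊤ := by
    have := (IsSylowIn.sylow_inf_normal S K).subgroupOf le_rfl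
    rwa [inf_subgroupOf_right, subgroupOf_self] at this
  have h2 : centralizer (oz ((S : Subgroup G).subgroupOf K) : Set K) ≤
      normalizer (((S : Subgroup G).subgroupOf K : Subgroup K) : Set K) := fun g hg => by
    have e : (g : G) ∈ normalizer ((S : Subgroup G) : Set G) := hZ fun y hy => by
      have e1 : (⟨y, mem_sup_right hy⟩ : K) ∈ oz ((S : Subgroup G).subgroupOf K) :=
        mem_oz.2 ⟨oz_le (S : Subgroup G) hy,
          fun s hs => Subtype.ext (oz_le_centralizer (S : Subgroup G) hy s hs),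
          Subtype.ext (mem_oz.1 hy).2.2⟩
      exact congrArg Subtype.val (hg _ e1)
    exact mem_normalizer_iff.2 fun x => mem_normalizer_iff.1 e x
  have H : ZN K := by
    refine ⟨fun U h1 h2 => ?_, fun U h1 h2 => charIn_iff.2 (hc.2 U h1 h2), fun R hR => ?_⟩
    · refine isSolvable_map_subtype_iff.1 (isSolvable_of_le (hN _ ⟨U.map K.subtype, h1.map _,
        fun e => h2 ((map_eq_bot_iff_of_injective _ K.subtype_injective).1 e), rfl⟩) ?_)
      exact map_normalizer_le' le_rfl _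
    · obtain ⟨x, -, rfl⟩ := hR.exists_conj_eq h1
      rw [oz_map_conj, centralizer_map_conj, normalizer_map_conj]
      exact map_mono h2
  have h4 := PRes.map_pResidual_subtype_of_le (p := 2) (N := K) le_sup_left
  have e1 : pResidual 2 K ≃* pResidual 2 G :=
    (equivMapOfInjective _ _ K.subtype_injective).trans (MulEquiv.subgroupCongr h4)
  have e2 : ↥((S : Subgroup G).subgroupOf K ⊓ pResidual 2 K) ≃* ↥((S : Subgroup G) ⊓ pResidual 2 G) :=
    (equivMapOfInjective _ _ K.subtype_injective).trans (MulEquiv.subgroupCongr (by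
      rw [map_inf _ _ _ K.subtype_injective, h4, subgroupOf_map_subtype, inf_assoc,
        inf_eq_right.2 (le_sup_left : pResidual 2 G ≤ K)]))
  have h5 : pPrimeCore 2 K = ⊥ := by
    rw [← map_eq_bot_iff_of_injective _ K.subtype_injective, map_pPrimeCore_eq_piCoreOf, eq_bot_iff,
      ← hO']
    have := normalizer_eq_top_iff.1 (eq_top_iff.2 ((le_normalizer_of_normal (H := K)).trans
      (normalizer_le_normalizer_piCoreOf (π := {2}ᶜ) K)))
    exact le_pPrimeCore (piCoreOf_compl_coprime 2 K)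
  have h6 : pCore 2 K = ⊥ := by
    rw [← map_eq_bot_iff_of_injective _ K.subtype_injective, eq_bot_iff, ← hO, ← pCoreOf_top (G := G)]
    exact pCoreOf_le_of_le_normalizer (H := K) le_top le_normalizer_of_normal
  rcases H.se_or h5 h6 hc.1 h1 with ⟨M, h⟩ | ⟨n, h, ⟨e⟩⟩ | h
  · exact Or.inl ⟨_, IsStronglyEmbedded.of_mulEquiv h e1⟩
  · exact Or.inr (Or.inl ⟨n, h, ⟨e2.symm.trans e⟩⟩)
  · exact Or.inr (Or.inr (IsQuasiDihedral.of_mulEquiv h e2))

end CfsgLib.Sig
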