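import Cfsg.Agent.Lib.Sig.ZNTv

/-!
# Failure of factorization in solvable `2`-local subgroups
-/

set_option autoImplicit false
set_option linter.unusedSectionVars false

namespace CfsgLib.Sig

open Subgroup Cfsg CfsgLib.Cop CfsgLib.CopAut CfsgLib.H1 SemidirectProduct

universe u

variable {X : Type u} [Group X]

theorem exists_model [Finite X] {M V : Subgroup X} (hM : Group.IsSolvable M)
    (hV : IsElementaryAbelian 2 V) (hMV : M ≤ normalizer (V : Set X)) (hred : Reduced 2 M V) :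
    ∃ (Y : Type u) (_ : Group Y) (_ : Finite Y) (ι : V →* Y) (f : M →* Y) (F : Subgroup Y),
      (∀ (l : M) (v w : V), f l * ι v * (f l)⁻¹ = ι w ↔ (l : X) * v * (l : X)⁻¹ = w) ∧
      (∀ l, f l = 1 ↔ (l : X) ∈ centralizer (V : Set X)) ∧ Fa ι.range f.range F := by
  have := Fact.mk Nat.prime_two
  set φ : M →* MulAut V := (normalizerMonoidHom V).comp (inclusion hMV) with hφd
  have hφ : ∀ (m : M) (y : V), ((φ m y : V) : X) = m * y * (m : X)⁻¹ := fun m y => rfl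
  have hfin := finite_semidirect (φ := MonoidHom.id (MulAut V))
  set f : M →* V ⋊[MonoidHom.id (MulAut V)] MulAut V := inr.comp φ with hf
  have h1 : ∀ (l : M) (v w : V), f l * inl v * (f l)⁻¹ = inl w ↔ (l : X) * v * (l : X)⁻¹ = w :=
    fun l v w => by
      rw [hf, MonoidHom.comp_apply, inr_conj_inl, inl_inj, Subtype.ext_iff]
      rfl
  have h2 : ∀ l, f l = 1 ↔ (l : X) ∈ centralizer (V : Set X) := fun l => by
    refine ⟨fun e v hv => (mul_inv_eq_iff_eq_mul.1 ((h1 l ⟨v, hv⟩ ⟨v, hv⟩).1 (by simp [e]))).symm,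
      fun e => ?_⟩
    have : φ l = 1 := MulEquiv.ext fun y => Subtype.ext (by rw [hφ, ← e y y.2]; simp)
    rw [hf, MonoidHom.comp_apply, this, map_one]
  have hker : f.ker = (centralizer (V : Set X)).subgroupOf M := Subgroup.ext h2
  have hO : pCoreOf 2 f.range = ⊥ := by
    have h3 := comap_map_eq_self_of_injective M.subtype_injective ((pCoreOf 2 f.range).comap f)
    have h4 := hred (((pCoreOf 2 f.range).comap f).map M.subtype) (map_subtype_le _)
      (le_normalizer_iff.2 (by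
        rintro g hg _ ⟨k, hk, rfl⟩
        refine ⟨⟨g, hg⟩ * k * ⟨g, hg⟩⁻¹, ?_, rfl⟩
        rw [SetLike.mem_coe, mem_comap, map_mul, map_mul, map_inv]
        exact conj_mem_of_le_normalizer (le_normalizer_pCoreOf _) ⟨_, rfl⟩ hk)) (by
        rw [← relIndex_subgroupOf (map_subtype_le _), ← hker, relIndex_ker, subgroupOf, h3,
          map_comap_eq_self (pCoreOf_le _)]
        exact (pCoreOf_isPGroup _).exists_card_eq)
    rw [← map_comap_eq_self (pCoreOf_le (p := 2) f.range), Subgroup.map_eq_bot_iff, hker]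
    exact map_le_iff_le_comap.1 h4
  refine ⟨_, inferInstance, hfin, inl, f, fittingOf f.range, h1, h2, ?_, ?_, ?_, fittingOf_le _,
    le_normalizer_fittingOf _, ?_, fittingOf_isNilpotent _, inf_centralizer_fittingOf_le
      (layerIn_eq_bot_of_isSolvable (Group.isSolvable_of_surjective f.rangeRestrict_surjective))⟩
  · refine isElementaryAbelian_two_of_sq ?_
    rintro _ ⟨v, rfl⟩
    rw [← map_pow, show v ^ 2 = 1 from Subtype.ext (hV.2 v v.2), map_one]
  · refine le_normalizer_iff.2 ?_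
    rintro _ ⟨l, rfl⟩ _ ⟨v, rfl⟩
    exact ⟨φ l v, ((h1 l v _).2 rfl).symm⟩
  · rw [eq_bot_iff]
    rintro _ ⟨⟨l, rfl⟩, hl⟩
    exact (h2 l).2 fun v hv => (mul_inv_eq_iff_eq_mul.1 ((h1 l ⟨v, hv⟩ ⟨v, hv⟩).1
      (mul_inv_eq_iff_eq_mul.2 (hl _ ⟨_, rfl⟩).symm))).symm
  · rw [← pCoreOf_sup_piCoreOf_of_isNilpotent 2 (fittingOf_isNilpotent f.range), pCoreOf_fittingOf,
      hO, bot_sup_eq]
    exact piCoreOf_compl_coprime 2 _

theorem tv_model {Y : Type*} [Group Y] {M V : Subgroup X} {ι : V →* Y} {f : M →* Y}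
    (hMV : M ≤ normalizer (V : Set X)) (hn : f.range ≤ normalizer (ι.range : Set Y))
    (h1 : ∀ (l : M) (v w : V), f l * ι v * (f l)⁻¹ = ι w ↔ (l : X) * v * (l : X)⁻¹ = w)
    (a : M) (z : V) : Tv ι.range (f a) (ι z) ↔ Tv V a z := by
  have h2 : ι z = 1 ↔ (z : X) = 1 := by simpa using h1 1 z 1
  constructor
  · intro h
    refine ⟨hMV a.2, z.2, fun e => h.ne (h2.2 e), fun v hv => ?_, ?_⟩
    · exact (h.conj _ ⟨⟨v, hv⟩, rfl⟩).imp (h1 a _ _).1 fun e =>
        (h1 a ⟨v, hv⟩ (z * ⟨v, hv⟩)).1 (by rw [e, map_mul])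
    · obtain ⟨_, ⟨v, rfl⟩, e⟩ := h.ex
      exact ⟨v, v.2, (h1 a v (z * v)).1 (by rw [e, map_mul])⟩
  · intro h
    refine ⟨hn ⟨a, rfl⟩, ⟨z, rfl⟩, fun e => h.ne (h2.1 e), ?_, ?_⟩
    · rintro _ ⟨v, rfl⟩
      exact (h.conj v v.2).imp (h1 a v v).2 fun e => by rw [← map_mul]; exact (h1 a v _).2 e
    · obtain ⟨v, hv, e⟩ := h.ex
      exact ⟨ι ⟨v, hv⟩, ⟨_, rfl⟩, by rw [← map_mul]; exact (h1 a _ _).2 e⟩

theorem le_sup_closure_tv [Finite X] {M V A : Subgroup X} (hM : Group.IsSolvable M)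
    (hV : IsElementaryAbelian 2 V) (hMV : M ≤ normalizer (V : Set X)) (hred : Reduced 2 M V)
    (hA : IsElementaryAbelian 2 A) (hAM : A ≤ M)
    (h : (centralizer (A : Set X)).relIndex V ≤ (centralizer (V : Set X)).relIndex A) :
    A ≤ A ⊓ centralizer (V : Set X) ⊔ closure {a | a ∈ A ∧ ∃ z, Tv V a z} := by
  have := Fact.mk Nat.prime_two
  obtain ⟨Y, _, _, ι, f, F, h1, h2, H⟩ := exists_model hM hV hMV hred
  have hker : f.ker = (centralizer (V : Set X)).subgroupOf M := Subgroup.ext h2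
  set B := (A.subgroupOf M).map f with hB
  have hBe : IsElementaryAbelian 2 B := isElementaryAbelian_two_of_sq (by
    rintro _ ⟨u, hu, rfl⟩
    rw [← map_pow, show u ^ 2 = 1 from Subtype.ext (hA.2 u hu), map_one])
  have hBL : B ≤ f.range := map_le_range _ _
  have h3 := (card_le_relIndex_and H.ea H.odd (H.le.trans H.norm)
    (eq_bot_iff.2 ((inf_le_inf_right _ H.le).trans H.faith.le)) B hBe (hBL.trans H.norm)
    (hBL.trans H.normal) (eq_bot_iff.2 fun b hb =>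
      H.eq_one_of_sq (H.cent ⟨hBL hb.1, hb.2⟩) (ea_sq hBe hb.1))).2 (by
      rw [hB, ← relIndex_ker, hker, relIndex_subgroupOf hAM, ← hB, MonoidHom.range_eq_map,
        ← relIndex_comap, relIndex_top_right]
      refine le_trans (le_of_eq ?_) h
      unfold relIndex
      congr 1
      ext y
      rw [mem_comap, mem_subgroupOf, mem_centralizer_iff, mem_centralizer_iff]
      constructor
      · intro h u hu
        exact mul_inv_eq_iff_eq_mul.1 ((h1 ⟨u, hAM hu⟩ y y).1 (mul_inv_eq_iff_eq_mul.2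
          (h _ (mem_map_of_mem f hu))))
      · rintro h _ ⟨u, hu, rfl⟩
        exact mul_inv_eq_iff_eq_mul.1 ((h1 u y y).2 (mul_inv_eq_iff_eq_mul.2 (h u hu))))
  have h4 : closure {b | b ∈ B ∧ ∃ z, Tv ι.range b z} ≤
      ((closure {a | a ∈ A ∧ ∃ z, Tv V a z}).subgroupOf M).map f := by
    rw [closure_le]
    rintro _ ⟨⟨a, ha, rfl⟩, z, hz⟩
    obtain ⟨w, rfl⟩ := hz.mem
    exact mem_map_of_mem f (subset_closure ⟨ha, w, (tv_model hMV H.norm h1 a w).1 hz⟩)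
  intro a ha
  obtain ⟨k, hk, e⟩ := h4 (h3 (mem_map_of_mem f (x := ⟨a, hAM ha⟩) ha))
  have h5 := (h2 (⟨a, hAM ha⟩ * k⁻¹)).1 (by rw [map_mul, map_inv, e, mul_inv_cancel])
  have h6 : (k : X) ∈ A := ((closure_le _).2 fun x hx => hx.1 :
    closure {a | a ∈ A ∧ ∃ z, Tv V a z} ≤ A) hk
  simpa using mul_mem (mem_sup_left (S := A ⊓ centralizer (V : Set X))
    (mem_inf.2 ⟨A.mul_mem ha (A.inv_mem h6), h5⟩)) (mem_sup_right (mem_subgroupOf.1 hk))

theorem tv_tri [Finite X] {M V : Subgroup X} (hM : Group.IsSolvable M)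
    (hV : IsElementaryAbelian 2 V) (hMV : M ≤ normalizer (V : Set X)) (hred : Reduced 2 M V)
    {a b c z w u : X} (ha : a ∈ M) (h : Tv V a z) (hb : b ∈ M) (h' : Tv V b w) (hc : c ∈ M)
    (h'' : Tv V c u) (hn : a * w * a⁻¹ ≠ w) :
    (c * z * c⁻¹ = z ∧ c * w * c⁻¹ = w ∧ a * u * a⁻¹ = u ∧ b * u * b⁻¹ = u) ∨
      a⁻¹ * c ∈ centralizer (V : Set X) ∨ b⁻¹ * c ∈ centralizer (V : Set X) ∨
        (a * b * a⁻¹)⁻¹ * c ∈ centralizer (V : Set X) := by
  obtain ⟨Y, _, _, ι, f, F, h1, h2, H⟩ := exists_model hM hV hMV hred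
  rcases H.tri ⟨⟨a, ha⟩, rfl⟩ ((tv_model hMV H.norm h1 ⟨a, ha⟩ ⟨z, h.mem⟩).2 h) ⟨⟨b, hb⟩, rfl⟩
    ((tv_model hMV H.norm h1 ⟨b, hb⟩ ⟨w, h'.mem⟩).2 h') ⟨⟨c, hc⟩, rfl⟩
    ((tv_model hMV H.norm h1 ⟨c, hc⟩ ⟨u, h''.mem⟩).2 h'') (fun e => hn ((h1 _ _ _).1 e)) with
    e | e | e | e
  · exact Or.inl ⟨(h1 _ _ _).1 e.1, (h1 _ _ _).1 e.2.1, (h1 _ _ _).1 e.2.2.1, (h1 _ _ _).1 e.2.2.2⟩
  · exact Or.inr (Or.inl ((h2 (⟨a, ha⟩⁻¹ * ⟨c, hc⟩)).1 (by simp only [map_mul, map_inv, e]; group)))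
  · exact Or.inr (Or.inr (Or.inl ((h2 (⟨b, hb⟩⁻¹ * ⟨c, hc⟩)).1
      (by simp only [map_mul, map_inv, e]; group))))
  · exact Or.inr (Or.inr (Or.inr ((h2 ((⟨a, ha⟩ * ⟨b, hb⟩ * ⟨a, ha⟩⁻¹)⁻¹ * ⟨c, hc⟩)).1
      (by simp only [map_mul, map_inv, e]; group))))

theorem tv_braid [Finite X] {M V : Subgroup X} (hM : Group.IsSolvable M)
    (hV : IsElementaryAbelian 2 V) (hMV : M ≤ normalizer (V : Set X)) (hred : Reduced 2 M V)
    {a b z w : X} (ha : a ∈ M) (h : Tv V a z) (hb : b ∈ M) (h' : Tv V b w)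
    (hn : a * w * a⁻¹ ≠ w) : b * z * b⁻¹ = z * w ∧ (a * b) ^ 3 ∈ centralizer (V : Set X) := by
  obtain ⟨Y, _, _, ι, f, F, h1, h2, H⟩ := exists_model hM hV hMV hred
  obtain ⟨e1, e2⟩ := H.braid ⟨⟨a, ha⟩, rfl⟩ ((tv_model hMV H.norm h1 ⟨a, ha⟩ ⟨z, h.mem⟩).2 h)
    ⟨⟨b, hb⟩, rfl⟩ ((tv_model hMV H.norm h1 ⟨b, hb⟩ ⟨w, h'.mem⟩).2 h') fun e => hn ((h1 _ _ _).1 e)
  exact ⟨(h1 _ _ (⟨z, h.mem⟩ * ⟨w, h'.mem⟩)).1 (by rw [e1, map_mul]),
    (h2 ((⟨a, ha⟩ * ⟨b, hb⟩) ^ 3)).1 (by rw [map_pow, map_mul, e2])⟩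

/-- Thompson subgroup -/
def jt (T : Subgroup X) : Subgroup X := sSup {A | MaxEA 2 T A}

/-- Baumann subgroup -/
def bm (T : Subgroup X) : Subgroup X := T ⊓ centralizer (oz (jt T) : Set X)

section JB

variable {T R A : Subgroup X}

theorem le_jt (h : MaxEA 2 T A) : A ≤ jt T := le_sSup h

theorem jt_le_iff {K : Subgroup X} : jt T ≤ K ↔ ∀ A, MaxEA 2 T A → A ≤ K := sSup_le_iff

theorem jt_le : jt T ≤ T := jt_le_iff.2 fun _ h => h.1

theorem bm_le : bm T ≤ T := inf_le_left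

theorem jt_le_bm : jt T ≤ bm T := le_inf jt_le (le_centralizer_iff.1 (oz_le_centralizer _))

theorem maxEA_iff (h : MaxEA 2 T A) (h1 : A ≤ R) (h2 : R ≤ T) {B : Subgroup X} :
    MaxEA 2 R B ↔ MaxEA 2 T B ∧ B ≤ R :=
  ⟨fun e => ⟨⟨e.1.trans h2, e.2.1, fun C h3 h4 => (h.2.2 C h3 h4).trans (e.2.2 A h1 h.2.1)⟩, e.1⟩,
    fun e => ⟨e.2, e.1.2.1, fun C h3 h4 => e.1.2.2 C (h3.trans h2) h4⟩⟩

theorem le_normalizer_oz {K : Subgroup X} (h : K ≤ normalizer (T : Set X)) :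
    K ≤ normalizer (oz T : Set X) :=
  le_normalizer_iff.2 fun g hg x hx => mem_oz.2 ⟨conj_mem_of_le_normalizer h hg (oz_le _ hx),
    conj_mem_of_le_normalizer (le_normalizer_centralizer h) hg (oz_le_centralizer _ hx), by
      rw [conj_mul, (mem_oz.1 hx).2.2, mul_one, mul_inv_cancel]⟩

theorem le_normalizer_jt {K : Subgroup X} (h : K ≤ normalizer (T : Set X)) :
    K ≤ normalizer (jt T : Set X) :=
  le_normalizer_iff.2 fun g hg _ hx => (jt_le_iff.2 fun _ hA => map_le_iff_le_comap.1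
    (le_jt (hA.map_conj (h hg))) : jt T ≤ (jt T).comap (MulAut.conj g).toMonoidHom) hx

theorem le_normalizer_bm {K : Subgroup X} (h : K ≤ normalizer (T : Set X)) :
    K ≤ normalizer (bm T : Set X) :=
  le_normalizer_inf_centralizer h (le_normalizer_oz (le_normalizer_jt h))

variable [Finite X]

theorem jt_le_jt (h : MaxEA 2 T A) (h1 : A ≤ R) (h2 : R ≤ T) : jt R ≤ jt T :=
  jt_le_iff.2 fun _ e => le_jt ((maxEA_iff h h1 h2).1 e).1

theorem jt_eq_of_le (h1 : jt T ≤ R) (h2 : R ≤ T) : jt R = jt T := by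
  obtain ⟨A, hA⟩ := exists_maxEA 2 T
  have h3 := (le_jt hA).trans h1
  exact le_antisymm (jt_le_jt hA h3 h2) (jt_le_iff.2 fun B e =>
    le_jt ((maxEA_iff hA h3 h2).2 ⟨e, (le_jt e).trans h1⟩))

theorem jt_bm : jt (bm T) = jt T := jt_eq_of_le jt_le_bm bm_le

theorem mem_maxEA (h : MaxEA 2 T A) {x : X} (h1 : x ∈ T) (h2 : x * x = 1)
    (h3 : x ∈ centralizer (A : Set X)) : x ∈ A :=
  h.inf_centralizer_le (F := zpowers x) (isElementaryAbelian_two_of_sq fun y hy => by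
    obtain ⟨k, rfl⟩ := mem_zpowers_iff.1 hy
    rw [← zpow_natCast, ← zpow_mul, mul_comm, zpow_mul, zpow_natCast, sq, h2, one_zpow])
    (zpowers_le_of_mem h1) ⟨mem_zpowers x, h3⟩

theorem mem_oz_jt {x : X} (h1 : x ∈ T) (h2 : x * x = 1) (h3 : x ∈ centralizer (jt T : Set X)) :
    x ∈ oz (jt T) := by
  obtain ⟨A, hA⟩ := exists_maxEA 2 T
  exact mem_oz.2 ⟨le_jt hA (mem_maxEA hA h1 h2 (centralizer_le (le_jt hA) h3)), h3, h2⟩

theorem oz_jt_le (h : MaxEA 2 T A) : oz (jt T) ≤ A := fun _ hx =>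
  mem_maxEA h (jt_le (oz_le _ hx)) (mem_oz.1 hx).2.2
    (centralizer_le (le_jt h) (oz_le_centralizer _ hx))

theorem oz_bm : oz (bm T) = oz (jt T) :=
  le_antisymm (fun _ hx => mem_oz_jt (bm_le (oz_le _ hx)) (mem_oz.1 hx).2.2
    (centralizer_le jt_le_bm (oz_le_centralizer _ hx))) fun x hx =>
      mem_oz.2 ⟨jt_le_bm (oz_le _ hx), fun _ hb => (hb.2 x hx).symm, (mem_oz.1 hx).2.2⟩

theorem bm_le_bm (h : MaxEA 2 T A) (h1 : A ≤ R) (h2 : R ≤ T) : bm R ≤ bm T :=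
  inf_le_inf h2 (centralizer_le fun _ hx => mem_oz_jt (h1 (oz_jt_le h hx)) (mem_oz.1 hx).2.2
    (centralizer_le (jt_le_jt h h1 h2) (oz_le_centralizer _ hx)))

theorem bm_bm : bm (bm T) = bm T :=
  le_antisymm bm_le (le_inf le_rfl (by rw [jt_bm]; exact inf_le_right))

theorem jt_ne_bot (hT : IsPGroup 2 T) (h : T ≠ ⊥) : jt T ≠ ⊥ := fun e => by
  have := Fact.mk Nat.prime_two
  obtain ⟨t, ht, h1⟩ := exists_involution_mem hT h
  exact ne_one_of_orderOf h1 (mem_bot.1 (e ▸ oz_le _ (mem_oz_jt ht (mul_self_of_orderOf h1)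
    (by simp [e, mem_centralizer_iff]))))

theorem maxEA_swap (h : MaxEA 2 T A) {a v : X} (ha : a ∈ A) (hv : v ∈ T) (h1 : v * v = 1)
    (h2 : ∀ x ∈ A, x ∈ centralizer {v} ∨ x * a ∈ centralizer {v}) (h3 : a ∉ centralizer {v}) :
    MaxEA 2 T (A ⊓ centralizer {v} ⊔ zpowers v) := by
  have h4 : v ∉ A ⊓ centralizer {v} := fun e =>
    h3 (mem_centralizer_singleton_iff.2 (ea_comm h.2.1 ha e.1))
  have h5 : A ⊓ centralizer {v} < A ⊓ centralizer {v} ⊔ zpowers v :=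
    left_lt_sup.2 fun e => h4 (e (mem_zpowers v))
  have h6 := card_le_two_mul_of_sup_zpowers (a := a) h.2.1 (inf_le_left (b := centralizer {v}))
    (le_antisymm (sup_le inf_le_left (zpowers_le_of_mem ha)) fun x hx => (h2 x hx).elim
      (fun e => mem_sup_left ⟨hx, e⟩) fun e => (mul_mem_cancel_right (mem_sup_right
        (mem_zpowers a))).1 (mem_sup_left ⟨A.mul_mem hx ha, e⟩))
  obtain ⟨k, hk⟩ := card_dvd_of_le h5.le
  have h7 : Nat.card ↥(A ⊓ centralizer {v}) < Nat.card ↥(A ⊓ centralizer {v} ⊔ zpowers v) :=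
    lt_of_le_of_ne (card_le_of_le h5.le) fun e => h5.ne (eq_of_le_of_card_ge h5.le e.ge)
  refine ⟨sup_le (inf_le_left.trans h.1) (zpowers_le_of_mem hv),
    isElementaryAbelian_two_of_sq fun x hx => ?_, fun C e1 e2 => (h.2.2 C e1 e2).trans ?_⟩
  · rcases mem_sup_zpowers_of_sq_mem (K := A ⊓ centralizer {v}) (centralizer_le_normalizer _ fun y hy =>
      mem_centralizer_singleton_iff.1 hy.2) (h1 ▸ one_mem _) hx with e | e
    · exact h.2.1.2 x e.1
    · have e1 := ea_sq h.2.1 e.1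
      have e2 := mem_centralizer_singleton_iff.1 e.2
      rw [mul_assoc x v v, h1, mul_one] at e2
      rwa [mul_assoc, ← e2, ← sq] at e1
  · rcases k with _ | _ | k <;> nlinarith

end JB

/-- a `2`-local subgroup in a group with property `Z` -/
structure Loc (L T : Subgroup X) : Prop where
  sol : Group.IsSolvable L
  char : CharIn 2 L
  syl : IsSylowIn 2 T L
  cent : L ⊓ centralizer (oz T : Set X) ≤ normalizer (T : Set X)

theorem sq_eq_one_of_inv {Y : Type*} [Group Y] {a b d c : Y} (h1 : a * d * a⁻¹ = d⁻¹)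
    (h2 : a * b = b * a) (h3 : c = d⁻¹ * b * d * b⁻¹) (h4 : a * c = c * a) (h5 : d * c = c * d) :
    c * c = 1 := by
  have e1 : a * (d * c) * a⁻¹ = d⁻¹ * c := by rw [← conj_mul, h1, h4, mul_inv_cancel_right]
  have e2 : a * (d * c) * a⁻¹ = (d * c)⁻¹ := by
    rw [h3, show a * (d * (d⁻¹ * b * d * b⁻¹)) * a⁻¹ = a * b * d * (a * b)⁻¹ by group, h2,
      show b * a * d * (b * a)⁻¹ = b * (a * d * a⁻¹) * b⁻¹ by group, h1]
    group
  rw [e1, h5, mul_inv_rev, mul_right_inj] at e2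
  exact mul_eq_one_iff_eq_inv.2 e2

namespace Loc

variable [Finite X] {L T : Subgroup X} (H : Loc L T)
include H

theorem Q_le : pCoreOf 2 L ≤ T := haveI := Fact.mk Nat.prime_two; pCoreOf_le_sylow H.syl

theorem V_cent : conjClosure (oz T) L ≤ centralizer (pCoreOf 2 L : Set X) :=
  conjClosure_le ((oz_le_centralizer T).trans (centralizer_le H.Q_le))
    (le_normalizer_centralizer (le_normalizer_pCoreOf L))

theorem V_le : conjClosure (oz T) L ≤ pCoreOf 2 L :=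
  (le_inf (conjClosure_le_of_le ((oz_le T).trans H.syl.le)) H.V_cent).trans H.char

theorem ea : IsElementaryAbelian 2 (conjClosure (oz T) L) :=
  isElementaryAbelian_of_le (oz_elem (pCoreOf 2 L)) (conjClosure_le (fun _ hx => mem_oz.2
    ⟨H.V_le (le_conjClosure _ _ hx), H.V_cent (le_conjClosure _ _ hx), (mem_oz.1 hx).2.2⟩)
    (le_normalizer_oz (le_normalizer_pCoreOf L)))

theorem red : Reduced 2 L (conjClosure (oz T) L) := by
  have := Fact.mk Nat.prime_two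
  rintro K hK hKn ⟨j, hj⟩
  have hT := H.syl.inf_of_le_normalizer hK (H.syl.le.trans hKn)
  have h1 := hT.sup_eq_of_relIndex_eq_pow (N := K ⊓ centralizer (conjClosure (oz T) L : Set X))
    inf_le_left (by rwa [relIndex_inf_self])
  have h2 : oz T ≤ centralizer (K : Set X) := by
    rw [← h1, centralizer_sup']
    exact le_inf ((le_conjClosure _ _).trans (le_centralizer_iff.1 inf_le_right))
      ((oz_le_centralizer T).trans (centralizer_le inf_le_left))
  exact le_centralizer_iff.1 (conjClosure_le h2 (le_normalizer_centralizer hKn))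

theorem C_le : L ⊓ centralizer (conjClosure (oz T) L : Set X) ≤ normalizer (T : Set X) :=
  (inf_le_inf_left _ (centralizer_le (le_conjClosure _ _))).trans H.cent

theorem inf_cent : T ⊓ centralizer (conjClosure (oz T) L : Set X) = pCoreOf 2 L := by
  refine le_antisymm ?_ (le_inf H.Q_le (le_centralizer_iff.1 H.V_cent))
  refine (le_pCoreOf (M := L ⊓ centralizer (conjClosure (oz T) L : Set X))
    (inf_le_inf_right _ H.syl.le) (le_normalizer_inf H.C_le (inf_le_right.trans le_normalizer))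
    H.syl.isPGroup.to_inf_left).trans (pCoreOf_le_of_le_normalizer inf_le_left
      (le_normalizer_inf_centralizer le_normalizer (le_normalizer_conjClosure _ _)))

theorem maxEA_le {A : Subgroup X} (h : MaxEA 2 T A) :
    A ≤ A ⊓ centralizer (conjClosure (oz T) L : Set X) ⊔
      closure {a | a ∈ A ∧ ∃ z, Tv (conjClosure (oz T) L) a z} :=
  le_sup_closure_tv H.sol H.ea (le_normalizer_conjClosure _ _) H.red h.2.1 (h.1.trans H.syl.le)
    (h.relIndex_le H.ea (H.V_le.trans H.Q_le))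

theorem tv_fix {a b z w : X} (ha : a ∈ T) (h : Tv (conjClosure (oz T) L) a z) (hb : b ∈ T)
    (h' : Tv (conjClosure (oz T) L) b w) : a * w * a⁻¹ = w := by
  by_contra hn
  obtain ⟨k, hk⟩ := H.syl.isPGroup ⟨a * b, mul_mem ha hb⟩
  have h1 := FrobNPC.mem_of_pow_mem_of_coprime
    (coprime_orderOf_of_pow (p := 2) (q := 3) (by norm_num) (congrArg Subtype.val hk))
    (tv_braid H.sol H.ea (le_normalizer_conjClosure _ _) H.red (H.syl.le ha) h (H.syl.le hb) h' hn).2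
  have h2 := conj_eq_of_cent (a := a) (b := b) (by
    simpa [mul_assoc] using mul_mem (inv_mem (h.sq_mem H.ea)) h1) h'.mem
  exact hn (h2.trans (h'.fix H.ea))

theorem tv_mem {a z : X} (ha : a ∈ T) (h : Tv (conjClosure (oz T) L) a z) : z ∈ oz (jt T) := by
  refine mem_oz_jt (H.Q_le (H.V_le h.mem)) (ea_sq H.ea h.mem) fun x hx => ?_
  refine mem_centralizer_singleton_iff.1 ((jt_le_iff.2 fun A hA => (H.maxEA_le hA).trans
    (sup_le (fun y hy => mem_centralizer_singleton_iff.2 (hy.2 z h.mem).symm)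
      ((closure_le _).2 ?_)) : jt T ≤ centralizer {z}) hx)
  rintro y ⟨hy, w, hw⟩
  exact mem_centralizer_singleton_iff.2 (mul_inv_eq_iff_eq_mul.1 (H.tv_fix (hA.1 hy) hw ha h))

theorem mem_of_sq {c : X} (h1 : c ∈ L) (h2 : c ∈ normalizer (T : Set X)) (h3 : c * c ∈ T) :
    c ∈ T := by
  have := Fact.mk Nat.prime_two
  obtain ⟨k, hk⟩ := H.syl.isPGroup ⟨_, h3⟩
  have h4 := H.syl.eq_of_le (isPGroup_sup_of_le_normalizer (isPGroup_zpowers_of_pow (x := c)
    (k := k + 1) (by rw [pow_succ', pow_mul, sq]; exact congrArg Subtype.val hk)) H.syl.isPGroup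
    (zpowers_le_of_mem h2)) le_sup_right (sup_le (zpowers_le_of_mem h1) H.syl.le)
  exact h4 ▸ mem_sup_left (mem_zpowers c)

theorem eq_one {d : X} (h1 : d ∈ T) (h2 : (orderOf d).Coprime 2) : d = 1 := by
  obtain ⟨k, hk⟩ := H.syl.isPGroup ⟨_, h1⟩
  exact orderOf_eq_one_iff.1 (Nat.eq_one_of_dvd_coprimes (h2.pow_right k) dvd_rfl
    (orderOf_dvd_of_pow_eq_one (congrArg Subtype.val hk)))

theorem commutator_mem {a b c d : X} (ha : a ∈ T) (hb : b ∈ T) (hc : c ∈ L)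
    (hd : d ∈ zpowers (a * (c * a * c⁻¹))) (h1 : a * d * a⁻¹ = d⁻¹)
    (h2 : a⁻¹ * (b * a * b⁻¹) ∈ centralizer (conjClosure (oz T) L : Set X))
    (h3 : d⁻¹ * (b * d * b⁻¹) ∈ centralizer (conjClosure (oz T) L : Set X)) :
    d⁻¹ * (b * d * b⁻¹) ∈ T := by
  have haL := H.syl.le ha
  have hbL := H.syl.le hb
  have hdL : d ∈ L := zpowers_le_of_mem (mul_mem haL (mul_mem (mul_mem hc haL) (inv_mem hc))) hd
  have hn : ((pCoreOf 2 L).subgroupOf L).Normal :=
    (normal_subgroupOf_iff_le_normalizer (pCoreOf_le L)).2 (le_normalizer_pCoreOf L)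
  set π := QuotientGroup.mk' ((pCoreOf 2 L).subgroupOf L) with hπ
  have hk : ∀ x y : L, (x : X)⁻¹ * y ∈ T → (x : X)⁻¹ * y ∈
      centralizer (conjClosure (oz T) L : Set X) → π x = π y := fun x y e1 e2 =>
    QuotientGroup.eq.2 (show (x : X)⁻¹ * y ∈ pCoreOf 2 L from H.inf_cent ▸ ⟨e1, e2⟩)
  have hC := le_normalizer_centralizer (le_normalizer_conjClosure (oz T) L)
  have k1 : ∀ x y : L, (x : X) ∈ T → (y : X) ∈ centralizer (conjClosure (oz T) L : Set X) →
      π x * π y = π y * π x := fun x y hx hy => by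
    rw [← map_mul, ← map_mul]
    refine hk _ _ ?_ ?_
    · simpa [mul_assoc] using mul_mem ((mem_normalizer_iff''.1 (H.C_le ⟨y.2, hy⟩) _).1
        (inv_mem hx)) hx
    · simpa [mul_assoc] using mul_mem (inv_mem hy) (conj_mem_of_le_normalizer' hC x.2 hy)
  have h4 : d⁻¹ * (b * d * b⁻¹) ∈ L :=
    mul_mem (inv_mem hdL) (mul_mem (mul_mem hbL hdL) (inv_mem hbL))
  have k2 : π ⟨d, hdL⟩ ∈ centralizer {π ⟨_, h4⟩} := by
    have e1 : π ⟨a, haL⟩ ∈ centralizer {π ⟨_, h4⟩} :=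
      mem_centralizer_singleton_iff.2 (k1 _ _ ha h3)
    have e2 : π (⟨c, hc⟩ * ⟨a, haL⟩ * ⟨c, hc⟩⁻¹) ∈ centralizer {π ⟨_, h4⟩} := by
      have := k1 ⟨a, haL⟩ (⟨c, hc⟩⁻¹ * ⟨_, h4⟩ * ⟨c, hc⟩) ha (conj_mem_of_le_normalizer' hC hc h3)
      simp only [map_mul, map_inv, mem_centralizer_singleton_iff] at this ⊢
      rw [← mul_inv_eq_iff_eq_mul] at this
      rw [← mul_inv_eq_iff_eq_mul]
      generalize π ⟨_, h4⟩ = y at this
      rw [show y = π ⟨c, hc⟩ * ((π ⟨c, hc⟩)⁻¹ * y * π ⟨c, hc⟩) * (π ⟨c, hc⟩)⁻¹ by group]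
      conv_rhs => rw [← this]
      group
    obtain ⟨n, rfl⟩ := mem_zpowers_iff.1 hd
    have := zpow_mem (mul_mem e1 e2) n
    rwa [← map_mul, ← map_zpow] at this
  have k3 := sq_eq_one_of_inv (a := π ⟨a, haL⟩) (b := π ⟨b, hbL⟩) (d := π ⟨d, hdL⟩) (c := π ⟨_, h4⟩)
    (by rw [← map_inv, ← map_inv, ← map_mul, ← map_mul]; exact congrArg _ (Subtype.ext h1))
    (by
      rw [← mul_inv_eq_iff_eq_mul.1 (show π ⟨b, hbL⟩ * π ⟨a, haL⟩ * (π ⟨b, hbL⟩)⁻¹ = π ⟨a, haL⟩ by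
        rw [← map_inv, ← map_mul, ← map_mul]
        exact (hk _ _ (mul_mem (inv_mem ha) (mul_mem (mul_mem hb ha) (inv_mem hb))) h2).symm)])
    (by rw [← map_inv, ← map_inv, ← map_mul, ← map_mul, ← map_mul]
        exact congrArg _ (Subtype.ext (by simp [mul_assoc])))
    (k1 _ _ ha h3) (mem_centralizer_singleton_iff.1 k2)
  rw [← map_mul, hπ, QuotientGroup.mk'_apply, QuotientGroup.eq_one_iff] at k3
  exact H.mem_of_sq h4 (H.C_le ⟨h4, h3⟩) (H.Q_le k3)

theorem fix_of_tri {a c b z w : X} (ha : a ∈ L) (h : Tv (conjClosure (oz T) L) a z) (hc : c ∈ L)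
    (h' : Tv (conjClosure (oz T) L) c w) (hn : a * w * a⁻¹ ≠ w) (hb : b ∈ L)
    (h1 : b * z * b⁻¹ = z) : a⁻¹ * (b * a * b⁻¹) ∈ centralizer (conjClosure (oz T) L : Set X) ∧
      ((b * w * b⁻¹ = w ∧ c⁻¹ * (b * c * b⁻¹) ∈ centralizer (conjClosure (oz T) L : Set X)) ∨
        b * w * b⁻¹ = z * w) := by
  have hN := le_normalizer_conjClosure (oz T) L
  have h2 := (h.conj w h'.mem).resolve_left hn
  have h3 := (tv_braid H.sol H.ea hN H.red ha h hc h' hn).1
  have h4 : z ≠ w := fun e => hn (e ▸ h.fix H.ea)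
  have h5 := h2 ▸ h'.map_conj h.norm
  have t1 := h1 ▸ h.map_conj (hN hb)
  have t2 := h'.map_conj (hN hb)
  have k1 : a⁻¹ * (b * a * b⁻¹) ∈ centralizer (conjClosure (oz T) L : Set X) := by
    rcases tv_tri H.sol H.ea hN H.red ha h hc h' (mul_mem (mul_mem hb ha) (inv_mem hb)) t1 hn with
      e | e | e | e
    · exact absurd (mul_eq_left.1 (h3.symm.trans e.2.2.2)) h'.ne
    · exact e
    · exact absurd (t1.unique (h'.congr e)) h4
    · exact absurd (mul_eq_left.1 (t1.unique (h5.congr e)).symm) h'.ne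
  refine ⟨k1, ?_⟩
  rcases tv_tri H.sol H.ea hN H.red ha h hc h' (mul_mem (mul_mem hb hc) (inv_mem hb)) t2 hn with
    e | e | e | e
  · refine absurd ?_ hn
    have := (conj_eq_of_cent k1 t2.mem).symm.trans e.2.2.1
    rw [show b * a * b⁻¹ * (b * w * b⁻¹) * (b * a * b⁻¹)⁻¹ = b * (a * w * a⁻¹) * b⁻¹ by group] at this
    exact mul_left_cancel (mul_right_cancel this)
  · have := t2.unique (h.congr e)
    rw [← h1] at this
    exact absurd (mul_left_cancel (mul_right_cancel this)).symm h4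
  · exact Or.inl ⟨t2.unique (h'.congr e), e⟩
  · exact Or.inr (t2.unique (h5.congr e))

theorem exists_par {A : Subgroup X} (hA : MaxEA 2 T A) {a c z w : X} (ha : a ∈ A)
    (h : Tv (conjClosure (oz T) L) a z) (hc : c ∈ L) (h' : Tv (conjClosure (oz T) L) c w)
    (hn : a * w * a⁻¹ ≠ w) : ∃ d ∈ L, ∃ v, Par (bm T) d z v ∧
      c ∈ L ⊓ centralizer (conjClosure (oz T) L : Set X) ⊔ (bm T ⊔ zpowers d) := by
  have hN := le_normalizer_conjClosure (oz T) L
  have hC := le_normalizer_centralizer hN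
  have hV := H.ea
  have haT := hA.1 ha
  have haL := H.syl.le haT
  have a2 := ea_sq hA.2.1 ha
  have a3 := inv_eq_of_mul_eq_one_right a2
  have b1 := (tv_braid H.sol hV hN H.red haL h hc h' hn).1
  obtain ⟨a₁, ha₁⟩ : ∃ a₁, a₁ = c * a * c⁻¹ := ⟨_, rfl⟩
  obtain ⟨v, hv⟩ : ∃ v, v = z * w := ⟨_, rfl⟩
  have t1 : Tv (conjClosure (oz T) L) a₁ v := by rw [ha₁, hv, ← b1]; exact h.map_conj h'.norm
  have a1L : a₁ ∈ L := ha₁ ▸ mul_mem (mul_mem hc haL) (inv_mem hc)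
  have n1 : a * v * a⁻¹ ≠ v := fun e => hn (by
    rwa [hv, ← conj_mul, h.fix hV, mul_right_inj] at e)
  have n2 := (h.conj v t1.mem).resolve_left n1
  obtain ⟨b2, b3⟩ := tv_braid H.sol hV hN H.red haL h a1L t1 n1
  obtain ⟨k, hk⟩ := PRes.exists_pow_pow_coprime Nat.prime_two (a * a₁)
  obtain ⟨d, hd⟩ : ∃ d, d = ((a * a₁) ^ 2 ^ k) ^ 2 ^ k := ⟨_, rfl⟩
  have d0 : d ∈ zpowers (a * a₁) := hd ▸ pow_mem (pow_mem (mem_zpowers _) _) _
  have dL : d ∈ L := zpowers_le_of_mem (mul_mem haL a1L) d0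
  have d1 : (orderOf d).Coprime 2 := hd ▸ hk.coprime_dvd_left (orderOf_pow_dvd _)
  have d2 : (a * a₁)⁻¹ * d ∈ centralizer (conjClosure (oz T) L : Set X) := by
    obtain ⟨m, hm⟩ : ∃ m, 2 ^ k * 2 ^ k = 1 + 3 * m := by
      rw [← mul_pow]
      exact ⟨4 ^ k / 3, by have := Nat.pow_mod 4 k 3; norm_num at this ⊢; omega⟩
    rw [hd, ← pow_mul, hm, pow_add, pow_one, inv_mul_cancel_left, pow_mul]
    exact pow_mem b3 m
  have d3 : a * d * a⁻¹ = d⁻¹ := inv_conj_of_mem_zpowers (by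
    rw [← mul_assoc, a2, one_mul, mul_inv_rev, ha₁, conj_inv, a3]) d0
  have dz : d * z * d⁻¹ = v := by
    rw [← conj_eq_of_cent d2 h.mem, show a * a₁ * z * (a * a₁)⁻¹ = a * (a₁ * z * a₁⁻¹) * a⁻¹ by group,
      b2, ← conj_mul, h.fix hV, n2, ← mul_assoc, ea_sq hV h.mem, one_mul]
  have dv : d * v * d⁻¹ = z * v := by
    rw [← conj_eq_of_cent d2 t1.mem,
      show a * a₁ * v * (a * a₁)⁻¹ = a * (a₁ * v * a₁⁻¹) * a⁻¹ by group, t1.fix hV, n2]
  have d4 : d * d * d = 1 := by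
    obtain ⟨n, rfl⟩ := mem_zpowers_iff.1 d0
    have e1 : ((a * a₁) ^ n) ^ 3 ∈ centralizer (conjClosure (oz T) L : Set X) := by
      rw [← zpow_natCast, ← zpow_mul, mul_comm, zpow_mul, zpow_natCast]
      exact zpow_mem b3 n
    have e2 := mul_mem ((mem_normalizer_iff.1 (H.C_le ⟨pow_mem dL 3, e1⟩) _).1 haT) (inv_mem haT)
    generalize (a * a₁) ^ n = d at d1 d3 e2
    rw [mul_assoc, mul_assoc, ← mul_assoc a, ← inv_pow, ← conj_pow, ← conj_inv, d3, inv_inv,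
      ← pow_add] at e2
    have e3 := orderOf_dvd_of_pow_eq_one (H.eq_one e2 (d1.coprime_dvd_left (orderOf_pow_dvd _)))
    simpa [pow_succ] using orderOf_dvd_iff_pow_eq_one.1
      (d1.dvd_of_dvd_mul_right (show orderOf d ∣ 3 * 2 from e3))
  have zW := H.tv_mem haT h
  have hz : ∀ b ∈ bm T, b * z * b⁻¹ = z := fun b hb => mul_inv_eq_iff_eq_mul.2 (hb.2 z zW).symm
  set Q := T ⊓ centralizer {z} ⊓ centralizer {v} with hQ
  have dQ : d ∈ normalizer (Q : Set X) := by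
    refine inv_mem_iff.1 (mem_normalizer_fintype fun b hb => ?_)
    have e1 := mul_inv_eq_iff_eq_mul.2 (mem_centralizer_singleton_iff.1 hb.1.2)
    have e2 := mul_inv_eq_iff_eq_mul.2 (mem_centralizer_singleton_iff.1 hb.2)
    have bL := H.syl.le hb.1.1
    obtain ⟨e3, e4⟩ := H.fix_of_tri haL h a1L t1 n1 bL e1
    replace e4 := (e4.resolve_right fun e => h.ne (mul_eq_right.1 (e.symm.trans e2))).2
    have e5 : d⁻¹ * (b * d * b⁻¹) ∈ centralizer (conjClosure (oz T) L : Set X) := by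
      have := mul_mem (mul_mem (mul_mem (inv_mem d2) (conj_mem_of_le_normalizer' hC a1L e3)) e4)
        (conj_mem_of_le_normalizer hC bL d2)
      convert this using 1
      group
    have e6 := H.commutator_mem haT hb.1.1 hc (ha₁ ▸ d0) d3 e3 e5
    rw [show d⁻¹ * b * d⁻¹⁻¹ = d⁻¹ * (b * d * b⁻¹) * b by group]
    exact ⟨⟨T.mul_mem e6 hb.1.1, mul_mem (mem_centralizer_singleton_iff.2 (e5 z h.mem).symm) hb.1.2⟩,
      mul_mem (mem_centralizer_singleton_iff.2 (e5 v t1.mem).symm) hb.2⟩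
  have hAB := (le_jt hA).trans jt_le_bm
  have hv' : ∀ b ∈ bm T, b * v * b⁻¹ = v ∨ b * v * b⁻¹ = z * v := fun b hb =>
    (H.fix_of_tri haL h a1L t1 n1 (H.syl.le (bm_le hb)) (hz b hb)).2.imp_left And.left
  have vT := H.Q_le (H.V_le t1.mem)
  have A1 := maxEA_swap hA ha vT (ea_sq hV t1.mem) (fun x hx => (hv' x (hAB hx)).imp
    (fun e => mem_centralizer_singleton_iff.2 (mul_inv_eq_iff_eq_mul.1 e)) fun e =>
      mem_centralizer_singleton_iff.2 (mul_inv_eq_iff_eq_mul.1 (by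
        rw [show x * a * v * (x * a)⁻¹ = x * (a * v * a⁻¹) * x⁻¹ by group, n2, ← conj_mul,
          hz x (hAB hx), e, ← mul_assoc, ea_sq hV h.mem, one_mul])))
    fun e => n1 (mul_inv_eq_iff_eq_mul.2 (mem_centralizer_singleton_iff.1 e))
  have vB : v ∈ bm T := jt_le_bm (le_jt A1 (mem_sup_right (mem_zpowers v)))
  have BQ : bm T ⊓ centralizer {v} ≤ Q := inf_le_inf_right _ fun b hb =>
    ⟨hb.1, mem_centralizer_singleton_iff.2 (mul_inv_eq_iff_eq_mul.1 (hz b hb))⟩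
  have A2 : A ⊓ centralizer {v} ⊔ zpowers v ≤ Q := le_trans (sup_le (inf_le_inf_right _ hAB)
    (zpowers_le_of_mem ⟨vB, mem_centralizer_singleton_iff.2 rfl⟩)) BQ
  have QT : Q ≤ T := inf_le_left.trans inf_le_left
  have W1 : oz (jt T) ≤ oz (jt Q) := fun x hx => mem_oz_jt (A2 (oz_jt_le A1 hx)) (mem_oz.1 hx).2.2
    (centralizer_le (jt_le_jt A1 A2 QT) (oz_le_centralizer _ hx))
  have W2 : oz (jt Q) ≤ A ⊓ centralizer {v} ⊔ zpowers v :=
    oz_jt_le ((maxEA_iff A1 A2 QT).2 ⟨A1, A2⟩)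
  have dW := mem_normalizer_iff.1 (le_normalizer_oz (le_normalizer_jt (zpowers_le_of_mem dQ))
    (mem_zpowers d))
  have hW := oz_elem (jt Q)
  have P0 : ∀ x ∈ oz (jt Q), a * x * a⁻¹ = x ∨ a * x * a⁻¹ = z * x := fun x hx => by
    rcases mem_sup_zpowers_of_sq_mem (K := A ⊓ centralizer {v}) (centralizer_le_normalizer _
      fun y hy => mem_centralizer_singleton_iff.1 hy.2) (ea_sq hV t1.mem ▸ one_mem _) (W2 hx) with
      e | e
    · exact Or.inl (mul_inv_eq_iff_eq_mul.2 (ea_comm hA.2.1 ha e.1))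
    · right
      have e1 := mul_inv_eq_iff_eq_mul.2 (ea_comm hA.2.1 ha e.1)
      rw [← conj_mul, n2, ← mul_assoc, mul_left_inj] at e1
      rw [← ea_comm hW hx (W1 zW)]
      conv_rhs => rw [← e1, mul_assoc, ea_sq hV h.mem, mul_one]
  have d5 : ∀ x, d * (d * x * d⁻¹) * d⁻¹ = d⁻¹ * x * d := fun x => by
    rw [show d * (d * x * d⁻¹) * d⁻¹ = d * d * x * (d * d)⁻¹ by group,
      ← inv_eq_of_mul_eq_one_left d4, inv_inv]
  have P1 : ∀ x ∈ oz (jt T), ∃ n ∈ oz (jt T), d * n * d⁻¹ = n ∧ (x = n ∨ x = z * n) := by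
    intro x hx
    have x1 := W1 hx
    have x2 := (dW _).1 x1
    have x3 := (dW _).1 x2
    have e0 : a * x * a⁻¹ = x := mul_inv_eq_iff_eq_mul.2 (oz_le_centralizer _ hx a (le_jt hA ha))
    have e1 : a * (d * x * d⁻¹) * a⁻¹ = d * (d * x * d⁻¹) * d⁻¹ := by
      rw [d5, ← conj_mul, ← conj_mul, e0, d3, ← conj_inv, d3, inv_inv]
    rcases P0 _ x2 with e | e <;> rw [e1] at e
    · exact ⟨x, hx, mul_left_cancel (mul_right_cancel e), Or.inl rfl⟩
    · refine ⟨z * x, mul_mem zW hx, ?_, Or.inr (by rw [← mul_assoc, ea_sq hV h.mem, one_mul])⟩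
      have e2 : d * (d * (d * x * d⁻¹) * d⁻¹) * d⁻¹ = x := by rw [d5 x]; group
      rw [e, ← conj_mul, dz, e] at e2
      rw [← conj_mul, dz]
      conv_rhs => rw [← e2, ← mul_assoc, ← mul_assoc, ea_comm hV h.mem t1.mem, mul_assoc v,
        ea_sq hV h.mem, mul_one]
  refine ⟨d, dL, v, ⟨d4, h.ne, ea_sq hV h.mem, jt_le_bm (oz_le _ zW), hz, dz, dv, vB, hv', ?_,
    A, a, (maxEA_iff hA hAB bm_le).2 ⟨hA, hAB⟩, ha, d3⟩, ?_⟩
  · refine mem_normalizer_fintype fun q hq => ?_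
    have q1 := (mem_normalizer_iff.1 dQ q).1 (BQ hq)
    refine ⟨⟨q1.1.1, fun x hx => ?_⟩, q1.2⟩
    obtain ⟨n, n1, n2, n3⟩ := P1 x hx
    have q2 : n * (d * q * d⁻¹) = d * q * d⁻¹ * n := by
      conv_lhs => rw [← n2]
      conv_rhs => rw [← n2]
      rw [conj_mul, conj_mul, hq.1.2 n n1]
    rcases n3 with rfl | rfl
    · exact q2
    · rw [mul_assoc, q2, ← mul_assoc, ← mem_centralizer_singleton_iff.1 q1.1.2, mul_assoc]
  · set K := L ⊓ centralizer (conjClosure (oz T) L : Set X) ⊔ (bm T ⊔ zpowers d) with hK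
    have k0 : ∀ x ∈ K, x ∈ L → x⁻¹ * c ∈ centralizer (conjClosure (oz T) L : Set X) → c ∈ K :=
      fun x h1 h2 h3 => (mul_mem_cancel_left (inv_mem h1)).1
        (mem_sup_left ⟨L.mul_mem (L.inv_mem h2) hc, h3⟩)
    have k1 : a ∈ K := mem_sup_right (mem_sup_left (hAB ha))
    have k2 : a₁ ∈ K := by
      have := mul_mem (mul_mem (inv_mem k1) (mem_sup_right (mem_sup_right (mem_zpowers d))))
        (inv_mem (mem_sup_left (mem_inf.2 ⟨mul_mem (inv_mem (mul_mem haL a1L)) dL, d2⟩)))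
      simpa [mul_assoc] using this
    rcases tv_tri H.sol hV hN H.red haL h a1L t1 hc h' n1 with e | e | e | e
    · exact absurd e.2.2.1 hn
    · exact k0 _ k1 haL e
    · exact k0 _ k2 a1L e
    · exact k0 _ (mul_mem (mul_mem k1 k2) (inv_mem k1)) (mul_mem (mul_mem haL a1L) (inv_mem haL)) e

/-- Generation of a `2`-local subgroup by `N(J)` and `S₃`-parabolics over `B(T)`. -/
theorem le_of_par {K : Subgroup X} (h1 : L ⊓ normalizer (jt T : Set X) ≤ K)
    (h2 : ∀ d ∈ L, ∀ z v, Par (bm T) d z v → d ∈ K) : L ≤ K := by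
  have := Fact.mk Nat.prime_two
  have hN := le_normalizer_conjClosure (oz T) L
  set V := conjClosure (oz T) L with hV
  have hC : L ⊓ centralizer (V : Set X) ≤ K :=
    (le_inf inf_le_left (le_normalizer_jt H.C_le)).trans h1
  have hT : T ≤ K := (le_inf H.syl.le (le_normalizer_jt le_normalizer)).trans h1
  set E := L ⊓ centralizer (V : Set X) ⊔ closure {c | c ∈ L ∧ ∃ w, Tv V c w} with hE
  have hEL : E ≤ L := sup_le inf_le_left ((closure_le _).2 fun c hc => hc.1)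
  have hLE : L ≤ normalizer (E : Set X) := le_normalizer_sup
    (le_normalizer_inf_centralizer le_normalizer hN) (le_normalizer_iff.2 fun g hg x hx =>
      ((closure_le _).2 (by
        rintro c ⟨hc, w, hw⟩
        exact subset_closure ⟨mul_mem (mul_mem hg hc) (inv_mem hg), _, hw.map_conj (hN hg)⟩) :
        closure {c | c ∈ L ∧ ∃ w, Tv V c w} ≤ (closure {c | c ∈ L ∧ ∃ w, Tv V c w}).comap
          (MulAut.conj g).toMonoidHom) hx)
  have hJE : jt T ≤ E := jt_le_iff.2 fun A hA => (H.maxEA_le hA).trans (sup_le_sup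
    (inf_le_inf_right _ (hA.1.trans H.syl.le))
    (closure_mono fun c hc => ⟨H.syl.le (hA.1 hc.1), hc.2⟩))
  refine ((H.syl.inf_of_le_normalizer hEL (H.syl.le.trans hLE)).frattini_le hEL hLE).trans
    (sup_le (sup_le hC ((closure_le _).2 ?_)) (le_trans (inf_le_inf_left _ ?_) h1))
  swap
  · rw [← jt_eq_of_le (le_inf jt_le hJE) inf_le_left]
    exact le_normalizer_jt le_rfl
  rintro c ⟨hc, w, hw⟩
  by_cases h3 : ∃ A, MaxEA 2 T A ∧ ∃ a ∈ A, ∃ z, Tv V a z ∧ a * w * a⁻¹ ≠ w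
  · obtain ⟨A, hA, a, ha, z, hz, h3⟩ := h3
    obtain ⟨d, hd, v, h4, h5⟩ := H.exists_par hA ha hz hc hw h3
    exact (sup_le hC (sup_le (bm_le.trans hT) (zpowers_le_of_mem (h2 d hd z v h4))) : _ ≤ K) h5
  push Not at h3
  set D := jt T ⊔ L ⊓ centralizer (V : Set X) with hD
  have h4 : c ∈ normalizer (D : Set X) := by
    have e1 : L ⊓ centralizer (V : Set X) ≤ D.comap (MulAut.conj c).toMonoidHom := fun x hx =>
      mem_sup_right (conj_mem_of_le_normalizer (le_normalizer_inf_centralizer le_normalizer hN) hc hx)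
    have : D ≤ D.comap (MulAut.conj c).toMonoidHom := sup_le (jt_le_iff.2 fun A hA =>
      (H.maxEA_le hA).trans (sup_le ((inf_le_inf_right _ (hA.1.trans H.syl.le)).trans e1)
        ((closure_le _).2 (by
          rintro a ⟨ha, z, hz⟩
          have haL := H.syl.le (hA.1 ha)
          have e2 := h3 A hA a ha z hz
          have e3 : c * z * c⁻¹ = z := by_contra fun e => hz.ne (mul_eq_left.1
            ((tv_braid H.sol H.ea hN H.red hc hw haL hz e).1.symm.trans e2))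
          have e5 := mul_mem (mem_sup_left (le_jt hA ha) : a ∈ D) (mem_sup_right (mem_inf.2
            ⟨mul_mem (inv_mem haL) (mul_mem (mul_mem hc haL) (inv_mem hc)),
              conj_mem_of_le_normalizer (le_normalizer_centralizer hN) hc (hz.comm hw H.ea e2 e3)
                |> fun x => by convert x using 1; group⟩))
          simpa using e5)))) e1
    exact mem_normalizer_fintype fun x hx => this hx
  have h5 : jt (pCoreOf 2 D) = jt T := by
    have hDL : D ≤ L := sup_le (jt_le.trans H.syl.le) inf_le_left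
    have e1 : D ≤ normalizer (T : Set X) := sup_le (jt_le.trans le_normalizer) H.C_le
    refine jt_eq_of_le (le_trans (le_inf jt_le le_sup_left) (le_pCoreOf inf_le_right
      (le_normalizer_inf e1 le_normalizer) H.syl.isPGroup.to_inf_left)) ?_
    exact le_sup_left.trans (H.syl.eq_of_le (isPGroup_sup_of_le_normalizer (pCoreOf_isPGroup D)
      H.syl.isPGroup ((pCoreOf_le D).trans e1)) le_sup_right
      (sup_le ((pCoreOf_le D).trans hDL) H.syl.le)).le
  exact h1 ⟨hc, h5 ▸ le_normalizer_jt (normalizer_le_normalizer_pCoreOf D) h4⟩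

theorem mem_Q_of_par {d z v : X} (h : Par (bm T) d z v) (hd : d ∈ L) {x : X} (h1 : x ∈ bm T)
    (h2 : x ∈ pCoreOf 2 L) : x ∈ bm T ⊓ centralizer {v} := by
  refine h.mem_Q h1 ((h.v_conj x h1).resolve_right fun e => h.d_notMem ?_)
  have e1 := bm_le (h.conj_d h1 e).1
  have e2 := H.Q_le (mul_mem (conj_mem_of_le_normalizer' (le_normalizer_pCoreOf L) hd h2)
    (inv_mem h2))
  have e3 : d * d ∈ T := by simpa [mul_assoc] using mul_mem e1 (inv_mem e2)
  rw [← h.d_inv, inv_mem_iff] at e3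
  exact H.eq_one e3 (coprime_orderOf_of_pow (p := 3) (k := 1) (by norm_num)
    (by simpa [pow_succ] using h.d3)) ▸ one_mem _

theorem exists_tv_of_par {d z v : X} (h : Par (bm T) d z v) (hd : d ∈ L) :
    ∃ a ∈ bm T, Tv (conjClosure (oz T) L) a z ∧ a * v * a⁻¹ = z * v := by
  have hN := le_normalizer_conjClosure (oz T) L
  obtain ⟨A, a₀, hA, ha₀, h0⟩ := h.ex
  obtain ⟨A', hA'⟩ := exists_maxEA 2 T
  have hAT := ((maxEA_iff hA' ((le_jt hA').trans jt_le_bm) bm_le).1 hA).1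
  obtain ⟨a, ha, y, hy, h1⟩ : ∃ a ∈ A, ∃ y, Tv (conjClosure (oz T) L) a y ∧ a ∉ centralizer {v} := by
    by_contra hn
    push Not at hn
    have : A ≤ centralizer {v} := (H.maxEA_le hAT).trans (sup_le (fun x hx =>
      (H.mem_Q_of_par h hd (hA.1 hx.1) (H.inf_cent ▸ ⟨hAT.1 hx.1, hx.2⟩)).2)
      ((closure_le _).2 fun x hx => hx.2.elim (hn x hx.1)))
    exact h.zv_ne ((h.inv_conj (hA.1 ha₀) h0).symm.trans
      (mul_inv_eq_iff_eq_mul.2 (mem_centralizer_singleton_iff.1 (this ha₀))))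
  have haB := hA.1 ha
  have haT := bm_le haB
  have haL := H.syl.le haT
  have h2 := (h.v_conj a haB).resolve_left fun e => h1 (h.mem_Q haB e).2
  have a2 := ea_sq hA.2.1 ha
  have hc := hy.map_conj (hN hd)
  have cL := mul_mem (mul_mem hd haL) (inv_mem hd)
  have d1 : (orderOf d).Coprime 2 :=
    coprime_orderOf_of_pow (p := 3) (k := 1) (by norm_num) (by simpa [pow_succ] using h.d3)
  have q0 := h.conj_d haB h2
  have h3 : a * (d * y * d⁻¹) * a⁻¹ ≠ d * y * d⁻¹ := fun e2 => by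
    have e3 : d * a * d⁻¹ * y * (d * a * d⁻¹)⁻¹ = y := by_contra fun e => hy.ne (mul_eq_left.1
      ((tv_braid H.sol H.ea hN H.red cL hc haL hy e).1.symm.trans e2))
    have e4 := H.C_le ⟨L.mul_mem (L.inv_mem (mul_mem haL cL)) (mul_mem cL haL),
      hy.comm hc H.ea e2 e3⟩
    have e5 : d ∈ normalizer (T : Set X) := by
      have f1 := le_normalizer (bm_le ((mem_normalizer_iff.1 h.norm _).1 (inv_mem q0)).1)
      refine (mul_mem_cancel_left (mul_mem f1 (le_normalizer (bm_le (inv_mem q0).1)))).1 ?_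
      have f2 : ∀ x, d⁻¹ * (d⁻¹ * x) = d * x := fun x => by
        rw [← mul_assoc, ← mul_inv_rev, ← h.d_inv, inv_inv]
      convert e4 using 1
      simp only [mul_inv_rev, inv_inv, inv_eq_of_mul_eq_one_right a2, mul_assoc, f2,
        inv_mul_cancel, mul_one]
    have e6 := mul_mem ((mem_normalizer_iff''.1 e5 _).1 haT) (inv_mem haT)
    have e3 : d * d ∈ T := by simpa [mul_assoc] using mul_mem (bm_le q0.1) (inv_mem e6)
    rw [← h.d_inv, inv_mem_iff] at e3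
    exact h.d_notMem (H.eq_one e3 d1 ▸ one_mem _)
  have yW := H.tv_mem haT hy
  have h4 : ∀ q ∈ bm T ⊓ centralizer {v}, q ∈ centralizer {d * y * d⁻¹} := fun q hq => by
    have := ((mem_normalizer_iff''.1 h.norm _).1 hq).1.2 y yW
    rw [mem_centralizer_singleton_iff,
      show q * (d * y * d⁻¹) = d * (d⁻¹ * q * d * y) * d⁻¹ by group, ← this]
    group
  have h5 : d * y * d⁻¹ ∈ bm T := ⟨H.Q_le (H.V_le hc.mem), fun x hx =>
    mem_centralizer_singleton_iff.1 (h4 x ⟨jt_le_bm (oz_le _ hx),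
      mem_centralizer_singleton_iff.2 (h.v_mem.2 x hx)⟩)⟩
  have A1 := maxEA_swap hA ha h.v_mem h.v_sq (fun x hx => (h.v_conj x (hA.1 hx)).imp
    (fun e => (h.mem_Q (hA.1 hx) e).2) fun e => (h.mul_mem_Q (hA.1 hx) haB e h2).2) h1
  have h6 := mem_maxEA A1 h5 (ea_sq H.ea hc.mem) fun x hx => mem_centralizer_singleton_iff.1
    (h4 x ((sup_le (inf_le_inf_right _ hA.1) (zpowers_le_of_mem
      ⟨h.v_mem, mem_centralizer_singleton_iff.2 rfl⟩) : _ ≤ bm T ⊓ centralizer {v}) hx))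
  refine ⟨a, haB, ?_, h2⟩
  rcases mem_sup_zpowers_of_sq_mem (K := A ⊓ centralizer {v}) (centralizer_le_normalizer _
    fun y hy => mem_centralizer_singleton_iff.1 hy.2) (h.v_sq ▸ one_mem _) h6 with e | e
  · exact absurd (mul_inv_eq_iff_eq_mul.2 (ea_comm hA.2.1 ha e.1)) h3
  · have e1 := mul_inv_eq_iff_eq_mul.2 (ea_comm hA.2.1 ha e.1)
    rw [← conj_mul, h2, (hy.conj _ hc.mem).resolve_left h3, ← mul_assoc, mul_left_inj,
      ea_comm H.ea hy.mem hc.mem, mul_assoc, mul_eq_left] at e1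
    rwa [eq_inv_of_mul_eq_one_left e1, inv_eq_of_mul_eq_one_right h.z_sq] at hy

theorem conj_mem_of_par {d z v d' z' v' : X} (h : Par (bm T) d z v) (hd : d ∈ L)
    (h' : Par (bm T) d' z' v') (hd' : d' ∈ L) {u : X} (hu : u = z ∨ u = v) :
    d'⁻¹ * u * d' ∈ zpowers z ⊔ zpowers v ⊔ (zpowers z' ⊔ zpowers v') := by
  have hN := le_normalizer_conjClosure (oz T) L
  obtain ⟨a, ha, t1, n1⟩ := H.exists_tv_of_par h hd
  obtain ⟨a', ha', t1', n1'⟩ := H.exists_tv_of_par h' hd'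
  have haL := H.syl.le (bm_le ha)
  have haL' := H.syl.le (bm_le ha')
  have t2 := h.dz ▸ t1.map_conj (hN hd)
  have t2' := h'.dz ▸ t1'.map_conj (hN hd')
  obtain ⟨c, hc, t⟩ : ∃ c ∈ L, Tv (conjClosure (oz T) L) c u := by
    rcases hu with rfl | rfl
    exacts [⟨a, haL, t1⟩, ⟨_, mul_mem (mul_mem hd haL) (inv_mem hd), t2⟩]
  have hu1 : u ∈ zpowers z ⊔ zpowers v := by
    rcases hu with rfl | rfl
    exacts [mem_sup_left (mem_zpowers _), mem_sup_right (mem_zpowers _)]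
  have key : u ∈ zpowers z' ⊔ zpowers v' →
      d'⁻¹ * u * d' ∈ zpowers z ⊔ zpowers v ⊔ (zpowers z' ⊔ zpowers v') := fun e =>
    mem_sup_right (conj_mem_of_le_normalizer' h'.le_normalizer_four
      (mem_sup_right (mem_zpowers d')) e)
  have m1 : z' ∈ zpowers z' ⊔ zpowers v' := mem_sup_left (mem_zpowers _)
  have m2 : v' ∈ zpowers z' ⊔ zpowers v' := mem_sup_right (mem_zpowers _)
  rcases tv_tri H.sol H.ea hN H.red haL' t1' (mul_mem (mul_mem hd' haL') (inv_mem hd')) t2' hc t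
    (fun e => h'.zv_ne (n1'.symm.trans e)) with e | e | e | e
  · have q0 := ((mem_normalizer_iff.1 h'.norm _).1 (h'.conj_d ha' n1')).1
    have := conj_mem_of_le_normalizer h.le_normalizer_four (mem_sup_left q0) hu1
    refine mem_sup_left ?_
    convert this using 1
    have e1 : (d' * a' * d'⁻¹)⁻¹ * u * (d' * a' * d'⁻¹) = u := by
      conv_lhs => rw [← e.2.2.2]
      group
    conv_lhs => rw [← e.2.2.1, ← e1]
    rw [← mul_assoc d' d', ← h'.d_inv]
    group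
  · exact key (t.unique (t1'.congr e) ▸ m1)
  · exact key (t.unique (t2'.congr e) ▸ m2)
  · exact key (t.unique ((n1' ▸ t2'.map_conj t1'.norm).congr e) ▸ mul_mem m1 m2)

end Loc

end CfsgLib.Sig
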