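import Cfsg.Agent.Lib.Sig.SigOdd

/-!
# Largest invariant `q`-subgroups and variants of Bender's lemma
-/

set_option autoImplicit false

namespace CfsgLib.Sig

open Subgroup Cfsg CfsgLib.Cop CfsgLib.H1
open scoped commutatorElement

variable {X : Type*} [Group X]

/-- the centre of a subgroup -/
abbrev zc (P : Subgroup X) : Subgroup X := P ⊓ centralizer (P : Set X)

theorem zc_comm (P : Subgroup X) : zc P ≤ centralizer (zc P : Set X) :=
  inf_le_right.trans (centralizer_le inf_le_left)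

theorem le_normalizer_zc {H P : Subgroup X} (h : H ≤ normalizer (P : Set X)) :
    H ≤ normalizer (zc P : Set X) := le_normalizer_inf_centralizer h h

theorem commutator_le_centralizer_left {A B C : Subgroup X} (h1 : A ≤ centralizer (C : Set X))
    (h2 : B ≤ normalizer (C : Set X)) : ⁅A, B⁆ ≤ centralizer (C : Set X) :=
  (commutator_mono h1 le_rfl).trans
    (commutator_le_left_of_le_normalizer (le_normalizer_centralizer h2))

theorem commutator_le_centralizer_right {A B C : Subgroup X} (h1 : B ≤ centralizer (C : Set X))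
    (h2 : A ≤ normalizer (C : Set X)) : ⁅A, B⁆ ≤ centralizer (C : Set X) :=
  commutator_comm A B ▸ commutator_le_centralizer_left h1 h2

variable [Finite X]

theorem le_centralizer_of_primes {p q : ℕ} [Fact p.Prime] [Fact q.Prime] (hpq : p ≠ q)
    {A B P Q : Subgroup X} (hP : IsPGroup p P) (hQ : IsPGroup q Q) (h1 : A ≤ P) (h2 : B ≤ Q)
    (h3 : B ≤ normalizer (P : Set X)) (h4 : A ≤ normalizer (Q : Set X)) :
    A ≤ centralizer (B : Set X) := by
  rw [← commutator_eq_bot_iff_le_centralizer, eq_bot_iff,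
    ← (IsPGroup.disjoint_of_ne p q hpq _ _ hP hQ).eq_bot]
  exact le_inf ((commutator_mono h1 le_rfl).trans (commutator_le_left_of_le_normalizer h3))
    ((commutator_mono le_rfl h2).trans (commutator_le_of_le_normalizer h4))

theorem zc_ne_bot {p : ℕ} [Fact p.Prime] {P : Subgroup X} (hP : IsPGroup p P) (h : P ≠ ⊥) :
    zc P ≠ ⊥ := inf_centralizer_ne_bot_of_isNilpotent hP.isNilpotent le_rfl le_normalizer h

theorem inf_centralizer_ne_bot_of_isPGroup {p : ℕ} [Fact p.Prime] {P Q : Subgroup X}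
    (hP : IsPGroup p P) (hQ : IsPGroup p Q) (hn : Q ≤ normalizer (P : Set X)) (h : P ≠ ⊥) :
    P ⊓ centralizer (Q : Set X) ≠ ⊥ :=
  ne_bot_of_le_ne_bot (inf_centralizer_ne_bot_of_isNilpotent
    (isPGroup_sup_of_le_normalizer hQ hP hn).isNilpotent le_sup_right (sup_le hn le_normalizer) h)
    (inf_le_inf_left _ (centralizer_le (le_sup_left : Q ≤ Q ⊔ P)))

/-- the odd part of the Fitting subgroup -/
def oddF (M : Subgroup X) : Subgroup X := piCoreOf {2}ᶜ (fittingOf M)

theorem oddF_isPi (M : Subgroup X) : IsPiSubgroup {2}ᶜ (oddF M) := piCoreOf_isPi _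

omit [Finite X] in
theorem oddF_le (M : Subgroup X) : oddF M ≤ M := (piCoreOf_le _).trans (fittingOf_le M)

theorem normalizer_le_normalizer_oddF (M : Subgroup X) :
    normalizer (M : Set X) ≤ normalizer (oddF M : Set X) :=
  (normalizer_le_normalizer_fittingOf M).trans (normalizer_le_normalizer_piCoreOf _)

theorem le_normalizer_oddF (M : Subgroup X) : M ≤ normalizer (oddF M : Set X) :=
  le_normalizer.trans (normalizer_le_normalizer_oddF M)

theorem isPi_of_ne_two {p : ℕ} [hp : Fact p.Prime] (h : p ≠ 2) {P : Subgroup X}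
    (hP : IsPGroup p P) : IsPiSubgroup {2}ᶜ P := fun t ht hd h2 =>
  h ((isPGroup_iff_isPiSubgroup.1 hP t ht hd).symm.trans h2)

theorem pCoreOf_le_oddF {p : ℕ} [Fact p.Prime] (h : p ≠ 2) (M : Subgroup X) :
    pCoreOf p M ≤ oddF M :=
  le_piCoreOf (pCoreOf_le_fittingOf p M) ((fittingOf_le M).trans (le_normalizer_pCoreOf M))
    (isPi_of_ne_two h (pCoreOf_isPGroup M))

theorem le_oddF {M Y : Subgroup X} (h : Y ≤ fittingOf M) (hY : IsPiSubgroup {2}ᶜ Y) :
    Y ≤ oddF M := le_piCoreOf_of_subnormalIn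
      (subnormalIn_of_le_fittingOf (by rwa [fittingOf_eq_self (fittingOf_isNilpotent M)])) hY

theorem oddF_le_of_forall {M K : Subgroup X}
    (h : ∀ (p : ℕ) [Fact p.Prime], p ≠ 2 → pCoreOf p M ≤ K) : oddF M ≤ K := by
  have h1 : Group.IsNilpotent (oddF M) :=
    haveI := fittingOf_isNilpotent M
    Group.nilpotent_of_mulEquiv (subgroupOfEquivOfLe (piCoreOf_le (fittingOf M)))
  rw [← fittingOf_eq_self h1]
  refine fittingOf_le_of_forall fun p _ => ?_
  by_cases hp : p = 2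
  · subst hp
    exact (le_inf le_rfl (pCoreOf_le _)).trans ((disjoint_of_isPiSubgroup disjoint_compl_right
      (isPGroup_iff_isPiSubgroup.1 (pCoreOf_isPGroup _)) (oddF_isPi M)).le.trans bot_le)
  · exact (pCoreOf_le_of_le_normalizer (oddF_le M) (le_normalizer_oddF M)).trans (h p hp)

theorem exists_of_oddF_ne_bot {M : Subgroup X} (h : oddF M ≠ ⊥) :
    ∃ p, p.Prime ∧ p ≠ 2 ∧ pCoreOf p M ≠ ⊥ := by
  by_contra h1
  push Not at h1
  exact h (eq_bot_iff.2 (oddF_le_of_forall fun p hp h2 => (h1 p hp.out h2).le))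

theorem fittingOf_le_of_two {M K : Subgroup X} (h1 : pCoreOf 2 M ≤ K) (h2 : oddF M ≤ K) :
    fittingOf M ≤ K := fittingOf_le_of_forall fun p _ => by
  by_cases hp : p = 2
  · exact hp ▸ h1
  · exact (pCoreOf_le_oddF hp M).trans h2

theorem le_centralizer_of_two {A B P Q : Subgroup X} (hP : IsPiSubgroup {2}ᶜ P)
    (hQ : IsPGroup 2 Q) (h1 : A ≤ P) (h2 : B ≤ Q) (h3 : B ≤ normalizer (P : Set X))
    (h4 : A ≤ normalizer (Q : Set X)) : A ≤ centralizer (B : Set X) := by
  have := Fact.mk Nat.prime_two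
  rw [← commutator_eq_bot_iff_le_centralizer, eq_bot_iff,
    ← disjoint_of_isPiSubgroup disjoint_compl_left hP (isPGroup_iff_isPiSubgroup.1 hQ)]
  exact le_inf ((commutator_mono h1 le_rfl).trans (commutator_le_left_of_le_normalizer h3))
    ((commutator_mono le_rfl h2).trans (commutator_le_of_le_normalizer h4))

namespace SF

/-- the largest `q`-subgroup that is a `θ`-subgroup normalized by `H` -/
def big (S : SF X) (q : ℕ) (H : Subgroup X) : Subgroup X :=
  sSup {V | S.IsTh V ∧ IsPGroup q V ∧ H ≤ normalizer (V : Set X)}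

variable {S : SF X} {q : ℕ}

omit [Finite X] in
theorem IsTh.le_big {V H : Subgroup X} (h : S.IsTh V) (hq : IsPGroup q V)
    (hn : H ≤ normalizer (V : Set X)) : V ≤ S.big q H := le_sSup ⟨h, hq, hn⟩

omit [Finite X] in
theorem big_anti {H K : Subgroup X} (h : H ≤ K) : S.big q K ≤ S.big q H :=
  sSup_le_sSup fun _ hV => ⟨hV.1, hV.2.1, h.trans hV.2.2⟩

omit [Finite X] in
theorem le_normalizer_big (H : Subgroup X) : H ≤ normalizer (S.big q H : Set X) :=
  le_normalizer_sSup fun _ hV => hV.2.2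

theorem IsTh.oddF {M : Subgroup X} (h : S.IsTh M) : S.IsTh (oddF M) :=
  h.of_le (oddF_le M) (h.norm.trans (normalizer_le_normalizer_oddF M))

omit [Finite X] in
theorem IsTh.zc {P : Subgroup X} (h : S.IsTh P) : S.IsTh (zc P) := h.inf_centralizer h.norm

theorem IsTh.le_fitting {M Y : Subgroup X} (h : S.IsTh M) (hY : Y ≤ M)
    (h1 : Y ≤ centralizer (Cfsg.pCoreOf 2 M : Set X)) (h2 : Y ≤ centralizer (Sig.oddF M : Set X)) :
    Y ≤ fittingOf M :=
  (le_inf hY (le_centralizer_iff.1 (fittingOf_le_of_two (le_centralizer_iff.1 h1)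
    (le_centralizer_iff.1 h2)))).trans h.centralizer_fitting_le

theorem IsTh.charIn_two {M : Subgroup X} (h : S.IsTh M) (h0 : Sig.oddF M = ⊥) : CharIn 2 M :=
  haveI := Fact.mk Nat.prime_two
  (h.charIn_or 2).resolve_right fun ⟨_, hs, h1, h2⟩ =>
    haveI := Fact.mk hs
    h2 (eq_bot_iff.2 ((pCoreOf_le_oddF h1.symm M).trans h0.le))

theorem complete_of_lines {b : X} (hb : S.Pt b) {H : Subgroup X} (hH : S.IsTh H)
    (h : ∀ E, S.Hyp E → b ∉ E → S.th E ≤ H) : S.Complete := by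
  refine complete_of_commutator_le hb hH fun d hd => hd.isTh.commutator_le hb.zpowers_le
    (hH.norm' hb.zpowers_le) fun E hE => ?_
  by_cases h1 : b ∈ E
  · rw [commutator_eq_bot_iff_le_centralizer.2
      (inf_le_right.trans (centralizer_le (zpowers_le_of_mem h1)))]
    exact bot_le
  · exact (commutator_mono ((hd.isTh.le_th hE.1).trans (h E hE h1)) le_rfl).trans
      (commutator_le_left_of_le_normalizer (hH.norm' hb.zpowers_le))

theorem Ctx.exists_two (hS : S.Ctx) {H D : Subgroup X} (hH : S.IsTh H) (hD : S.Hyp D) :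
    ∃ b c, S.Pt b ∧ S.Pt c ∧ b ∈ D ∧ c ∈ D ∧ c ∉ zpowers b ∧ ¬ S.θ b ≤ H ∧ ¬ S.θ c ≤ H := by
  by_contra h
  push Not at h
  refine hS.nc (complete_of_pt hH hD fun b hb hbD => ?_)
  by_contra h1
  refine hS.nc (complete_of_lines hb hH fun E hE h2 => ?_)
  obtain ⟨d, hd, h3, h4⟩ := hD.exists_pt hE
  exact (th_le hd h4).trans (h b d hb hd hbD h3
    (fun h5 => h2 (hb.mem_of_mem_zpowers h5 hd.2 h4)) h1)

theorem Hyp.le_centralizer [Fact (S.k = 3)] {D Y : Subgroup X} (hD : S.Hyp D) {b c : X}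
    (hb : S.Pt b) (hc : S.Pt c) (h1 : b ∈ D) (h2 : c ∈ D) (h3 : c ∉ zpowers b)
    (h4 : Y ≤ centralizer (zpowers b : Set X)) (h5 : Y ≤ centralizer (zpowers c : Set X)) :
    Y ≤ centralizer (D : Set X) := by
  rw [← hD.eq_sup hb hc h1 h2 h3, centralizer_sup']
  exact le_inf h4 h5

theorem Hyp.le_centralizer_A {D Y : Subgroup X} (hD : S.Hyp D) {b : X} (hb : S.Pt b) (h1 : b ∉ D)
    (h4 : Y ≤ centralizer (D : Set X)) (h5 : Y ≤ centralizer (zpowers b : Set X)) :
    Y ≤ centralizer (S.A : Set X) := by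
  rw [← hD.sup_eq hb h1, centralizer_sup']
  exact le_inf h4 h5

variable [hq : Fact q.Prime]

theorem MaxQ.big_le {Q H : Subgroup X} (hQ : S.MaxQ q Q) (hH : S.th S.A ≤ H) : S.big q H ≤ Q :=
  sSup_le fun _ hV => hQ.le_of_normalized hV.1 hV.2.1 (hH.trans hV.2.2)

theorem isTh_big {H : Subgroup X} (hH : S.th S.A ≤ H) : S.IsTh (S.big q H) :=
  let ⟨_, hQ⟩ := S.exists_maxQ q
  hQ.isTh.of_le (hQ.big_le hH) (le_normalizer_sSup fun _ hV => hV.1.norm)

theorem isPGroup_big {H : Subgroup X} (hH : S.th S.A ≤ H) : IsPGroup q (S.big q H) :=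
  let ⟨_, hQ⟩ := S.exists_maxQ q
  hQ.isPGroup.to_le (hQ.big_le hH)

/-- `F(M) ⊓ N` is self-centralizing in `F(M)` -/
def Arr (M N : Subgroup X) : Prop :=
  ∀ (t : ℕ) [Fact t.Prime], pCoreOf t M ⊓ centralizer ((pCoreOf t M ⊓ N : Subgroup X) : Set X) ≤ N

omit hq in
theorem arr_of_le {M N : Subgroup X} (h : fittingOf M ≤ N) : Arr M N :=
  fun t _ => inf_le_left.trans ((pCoreOf_le_fittingOf t M).trans h)

theorem Ctrl.arr {M N Y : Subgroup X} (h : S.Ctrl N Y) (hM : S.IsTh M) (hN : S.IsTh N)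
    (hY : S.IsTh Y) (h1 : Y ≤ pCoreOf q M) : Arr M N := fun t _ => by
  by_cases ht : t = q
  · subst ht
    exact h.le_of_centralizer ((hM.pCoreOf t).inf_centralizer ((hM.pCoreOf t).inf hN.norm).norm)
      (inf_le_right.trans (centralizer_le (le_inf h1 (h Y hY le_normalizer))))
  · exact inf_le_left.trans ((h.center_le hM h1 t).2 ht)

omit [Finite X] in
theorem Arr.zc_le {M N : Subgroup X} (h : Arr M N) : zc (pCoreOf q M) ≤ N :=
  (inf_le_inf_left _ (centralizer_le inf_le_left)).trans (h q)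

theorem Arr.inf_eq_bot {M N : Subgroup X} (h : Arr M N) (hM : S.IsTh M) (h0 : pCoreOf q M = ⊥) :
    pCoreOf q N ⊓ M = ⊥ := by
  have hV := (pCoreOf_isPGroup (p := q) N).to_inf_left (K := M)
  rw [eq_bot_iff, ← h0]
  refine le_pCoreOf_of_le_fittingOf (le_trans (le_inf inf_le_right (le_centralizer_iff.1
    (fittingOf_le_of_forall fun t _ => ?_))) hM.centralizer_fitting_le) hV
  by_cases ht : t = q
  · rw [ht, h0]
    exact bot_le
  refine commutator_eq_bot_iff_le_centralizer.1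
    (commutator_eq_bot_of_nilpotent_of_centralizer_le (C := pCoreOf t M ⊓ N)
      (inf_le_right.trans (le_normalizer_pCoreOf M)) (coprime_card_of_isPGroup
        (coprime_card_of_isPGroup_of_ne (Ne.symm ht) hV) (pCoreOf_isPGroup M))
      (pCoreOf_isPGroup M).isNilpotent inf_le_left ?_ (le_inf inf_le_left (h t)))
  exact commutator_eq_bot_iff_le_centralizer.2 (le_centralizer_of_primes ht (pCoreOf_isPGroup M)
    (pCoreOf_isPGroup N) inf_le_left inf_le_left (inf_le_right.trans (le_normalizer_pCoreOf M))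
    (inf_le_right.trans (le_normalizer_pCoreOf N)))

theorem Ctx.pCoreOf_le (hS : S.Ctx) {M N : Subgroup X} (hM : S.Max M) (hN : S.IsTh N) {p : ℕ}
    [Fact p.Prime] (hpq : p ≠ q) (h1 : pCoreOf p M ≠ ⊥) (h2 : pCoreOf q M ≠ ⊥)
    (h3 : zc (pCoreOf p M) ≤ N) (h4 : zc (pCoreOf q M) ≤ N) : pCoreOf p N ≤ M :=
  (hS.ctrl_center hM h2).le_of_centralizer (hN.pCoreOf p)
    (le_centralizer_iff.1 (hS.center_le_centralizer hM hN hpq h1 h3 h4))

theorem Ctx.eq_of_primes (hS : S.Ctx) {M N : Subgroup X} (hM : S.Max M) (hN : S.Max N) {p : ℕ}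
    [Fact p.Prime] (hpq : p ≠ q) (h1 : pCoreOf p M ≠ ⊥) (h2 : pCoreOf q M ≠ ⊥)
    (hZ : ∀ (t : ℕ) [Fact t.Prime], zc (pCoreOf t M) ≤ N)
    (hπ : ∀ (t : ℕ) [Fact t.Prime], pCoreOf t M = ⊥ → pCoreOf t N = ⊥) : M = N := by
  have k0 : ∀ (u : ℕ), ∃ v, v.Prime ∧ u ≠ v ∧ pCoreOf v M ≠ ⊥ := fun u => by
    by_cases h : u = q
    · exact ⟨p, Fact.out, h ▸ hpq.symm, h1⟩
    · exact ⟨q, hq.out, h, h2⟩
  have k1 : fittingOf N ≤ M := fittingOf_le_of_forall fun u _ => by
    by_cases h : pCoreOf u M = ⊥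
    · rw [hπ u h]
      exact bot_le
    obtain ⟨v, hv, h3, h4⟩ := k0 u
    have := Fact.mk hv
    exact hS.pCoreOf_le hM hN.1 h3 h h4 (hZ u) (hZ v)
  have k2 : ∀ (v : ℕ) [Fact v.Prime], pCoreOf v M ≠ ⊥ → pCoreOf v N ≠ ⊥ := fun v _ h h' => by
    refine zc_ne_bot (pCoreOf_isPGroup M) h (eq_bot_iff.2 (h' ▸ le_pCoreOf_of_le_fittingOf
      (le_trans (le_inf (hZ v) (le_centralizer_iff.1 (fittingOf_le_of_forall fun u _ => ?_)))
        hN.1.centralizer_fitting_le) (pCoreOf_isPGroup M).to_inf_left))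
    by_cases h3 : pCoreOf u M = ⊥
    · rw [hπ u h3]
      exact bot_le
    by_cases h4 : u = v
    · rw [h4, h']
      exact bot_le
    exact le_centralizer_iff.1 (hS.center_le_centralizer hM hN.1 h4 h3 (hZ u) (hZ v))
  refine hS.eq_of_fitting_le hM hN (fittingOf_le_of_forall fun u _ => ?_) k1 h1 h2 hpq
  by_cases h : pCoreOf u M = ⊥
  · rw [h]
    exact bot_le
  obtain ⟨v, hv, h3, h4⟩ := k0 u
  have := Fact.mk hv
  exact hS.pCoreOf_le hN hM.1 h3 (k2 u h) (k2 v h4)
    (inf_le_left.trans ((pCoreOf_le_fittingOf u N).trans k1))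
    (inf_le_left.trans ((pCoreOf_le_fittingOf v N).trans k1))

end SF

end CfsgLib.Sig
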