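import Cfsg.Agent.Lib.Sig.SigOdd
import Cfsg.Agent.Lib.H9Free
import Cfsg.Agent.Lib.FT.U4b

/-!
# Abelian substitutes for the lemma on `C(a)`-invariant subgroups when `r` is a Fermat prime
-/

set_option autoImplicit false

namespace CfsgLib.Sig

open Subgroup Cfsg CfsgLib.Cop CfsgLib.H1
open scoped commutatorElement

variable {X : Type*} [Group X] [Finite X]

section BarTools
open CfsgLib.FT.U4

omit [Finite X] in
theorem bar_zpowers {N : Subgroup X} {a : X} (ha : a ∈ normalizer (N : Set X)) :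
    bar N (zpowers a) = zpowers (QuotientGroup.mk' (N.subgroupOf (normalizer (N : Set X)))
      ⟨a, ha⟩) := by
  rw [← MonoidHom.map_zpowers, bar]
  congr 1
  ext x
  rw [mem_subgroupOf, ← coe_subtype, ← mem_map_iff_mem (subtype_injective _),
    MonoidHom.map_zpowers]
  rfl

omit [Finite X] in
theorem isPGroup_bar {p : ℕ} {N P : Subgroup X} (h : IsPGroup p P) : IsPGroup p (bar N P) :=
  (h.comap_of_injective _ (subtype_injective _)).map _

omit [Finite X] in
theorem bar_le_cent_self {N P : Subgroup X} (hP : P ≤ normalizer (N : Set X)) (h : ⁅P, P⁆ ≤ N) :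
    bar N P ≤ centralizer (bar N P : Set _) := (bar_le_cent_iff hP hP).2 h

theorem pCoreOf_bar_eq_bot {p : ℕ} [Fact p.Prime] (H : Subgroup X) :
    pCoreOf p (bar (pCoreOf p H) H) = ⊥ := by
  set N := pCoreOf p H with hN
  have hHN : H ≤ normalizer (N : Set X) := le_normalizer_pCoreOf H
  set f := QuotientGroup.mk' (N.subgroupOf (normalizer (N : Set X))) with hf
  set K := ((pCoreOf p (bar N H)).comap f).map (normalizer (N : Set X)).subtype with hK
  have hKp : IsPGroup p K := by
    refine IsPGroup.map ((pCoreOf_isPGroup _).comap_of_ker_isPGroup f ?_) _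
    rw [hf, QuotientGroup.ker_mk']
    exact (pCoreOf_isPGroup H).comap_of_injective _ (subtype_injective _)
  have hKH : K ≤ H := by
    rintro _ ⟨x, hx, rfl⟩
    obtain ⟨y, hy, e⟩ := pCoreOf_le _ hx
    have h1 : y⁻¹ * x ∈ N.subgroupOf (normalizer (N : Set X)) := QuotientGroup.eq.1 e
    have h2 := mul_mem (mem_subgroupOf.1 hy) (pCoreOf_le H (mem_subgroupOf.1 h1))
    simpa using h2
  have hn : H ≤ normalizer (K : Set X) := fun h hh => mem_normalizer_fintype (by
    rintro _ ⟨x, hx, rfl⟩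
    refine ⟨⟨h, hHN hh⟩ * x * ⟨h, hHN hh⟩⁻¹, ?_, rfl⟩
    rw [SetLike.mem_coe, mem_comap, map_mul, map_mul, map_inv]
    exact conj_mem_of_mem_normalizer (le_normalizer_pCoreOf _
      (mem_map_of_mem f (mem_subgroupOf.2 hh))) hx)
  have hKN : K ≤ N := le_pCoreOf hKH hn hKp
  rw [eq_bot_iff]
  intro y hy
  obtain ⟨x, rfl⟩ := QuotientGroup.mk'_surjective _ y
  exact (QuotientGroup.eq_one_iff x).2 (hKN ⟨x, hy, rfl⟩)

end BarTools

omit [Finite X] in
theorem comm_of_le_of_le_centralizer {P Q : Subgroup X} (h : P ≤ centralizer (P : Set X))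
    (hQ : Q ≤ P) : IsMulCommutative Q :=
  ⟨⟨fun x y => Subtype.ext (h (hQ y.2) x (hQ x.2))⟩⟩

omit [Finite X] in
theorem card_zpowers_dvd {a : X} {r : ℕ} (ha : a ^ r = 1) : Nat.card (zpowers a) ∣ r :=
  Nat.card_zpowers a ▸ orderOf_dvd_of_pow_eq_one ha

/-- Sketch: pass to `N(N₀) / N₀`, `N₀ = K ⊓ C(V)`, and use `commutator_zpowers_le_centralizer`
(the image of `K` is abelian). -/
theorem frob_mod {q r : ℕ} [Fact q.Prime] (hr : r.Prime) {V K : Subgroup X} {e : X}
    (he : e ^ r = 1) (hK : IsPGroup q K) (hKr : (Nat.card K).Coprime r)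
    (hVq : (Nat.card V).Coprime q) (hVr : (Nat.card V).Coprime r)
    (hKV : K ≤ normalizer (V : Set X)) (heV : zpowers e ≤ normalizer (V : Set X))
    (heK : zpowers e ≤ normalizer (K : Set X)) (hf : V ⊓ centralizer (zpowers e : Set X) = ⊥)
    (hab : ⁅K, K⁆ ≤ centralizer (V : Set X)) : ⁅K, zpowers e⁆ ≤ centralizer (V : Set X) := by
  set N := K ⊓ centralizer (V : Set X) with hN
  have hKN : K ≤ normalizer (N : Set X) := le_normalizer_inf_centralizer le_normalizer hKV
  have heN : zpowers e ≤ normalizer (N : Set X) := le_normalizer_inf_centralizer heK heV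
  have hVN : V ≤ normalizer (N : Set X) :=
    (le_centralizer_iff.1 inf_le_right).trans (centralizer_le_normalizer _)
  have hUK : ⁅K, zpowers e⁆ ≤ K := commutator_le_left_of_le_normalizer heK
  have hz := bar_zpowers (heN (mem_zpowers e))
  have h1 := commutator_zpowers_le_centralizer (q := q) hr (T := FT.U4.bar N V)
    (P := FT.U4.bar N K) (a := QuotientGroup.mk' (N.subgroupOf (normalizer (N : Set X)))
      ⟨e, heN (mem_zpowers e)⟩)
    (by rw [← map_pow, show (⟨e, heN (mem_zpowers e)⟩ : normalizer (N : Set X)) ^ r = 1 from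
      Subtype.ext he, map_one])
    (isPGroup_bar hK) (hKr.coprime_dvd_left (FT.U4.card_bar_dvd hKN))
    (hVq.coprime_dvd_left (FT.U4.card_bar_dvd hVN)) (hVr.coprime_dvd_left (FT.U4.card_bar_dvd hVN))
    (FT.U4.bar_le_norm hKV) (hz ▸ FT.U4.bar_le_norm heV) (hz ▸ FT.U4.bar_le_norm heK)
    (by
      rw [← hz, FT.U4.bar_inf_cent heN hVN heV ((hKr.symm.coprime_dvd_left
        (card_zpowers_dvd he)).coprime_dvd_right (card_dvd_of_le inf_le_left))
        (solvable_of_isPGroup hK.to_inf_left), hf, (FT.U4.bar_eq_bot_iff bot_le).2 bot_le]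
      exact bot_le)
    fun _ _ _ Q hQ _ => comm_of_le_of_le_centralizer
      (bar_le_cent_self hKN (le_inf (commutator_le_self K) hab)) hQ
  rw [← hz, ← FT.U4.bar_comm hKN heN, FT.U4.bar_le_cent_iff (hUK.trans hKN) hVN] at h1
  rw [← commutator_eq_bot_iff_le_centralizer, eq_bot_iff,
    ← (disjoint_of_coprime_natCard (coprime_card_of_isPGroup hVq hK)).eq_bot]
  exact le_inf (commutator_le_of_le_normalizer (hUK.trans hKV)) (h1.trans inf_le_left)

/-- Sketch: take `V₁ ≤ V` minimal `K⟨e⟩`-invariant with `[V₁,K] ≰ W`. With `C = C_K(V₁) < K` and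
`Z = K ⊓ centMod K C > C`, `frob_mod` gives `[Z,e] ≤ C`, so some `z ∈ C_Z(e)` is outside `C`;
`V₁ = [V₁,z] × C_{V₁}(z)` with both factors `K⟨e⟩`-invariant and `[V₁,z] ≤ W`. -/
theorem commutator_le_of_fpf {q r : ℕ} [Fact q.Prime] (hr : r.Prime) {V K W : Subgroup X} {e : X}
    (he : e ^ r = 1) (hK : IsPGroup q K) (hKr : (Nat.card K).Coprime r)
    (hVq : (Nat.card V).Coprime q) (hVr : (Nat.card V).Coprime r)
    (hab : V ≤ centralizer (V : Set X))
    (hKV : K ≤ normalizer (V : Set X)) (heV : zpowers e ≤ normalizer (V : Set X))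
    (heK : zpowers e ≤ normalizer (K : Set X)) (hf : V ⊓ centralizer (zpowers e : Set X) = ⊥)
    (h : ⁅V, K ⊓ centralizer (zpowers e : Set X)⁆ ≤ W) : ⁅V, K⁆ ≤ W := by
  induction V using WellFoundedLT.induction with
  | ind V ih =>
  by_cases h0 : K ≤ centralizer (V : Set X)
  · rw [commutator_eq_bot_iff_le_centralizer'.2 h0]
    exact bot_le
  obtain ⟨Z, hZK, heZ, hKZ, hZ, hc⟩ := H9.exists_central_sec hK.isNilpotent heK h0
  have hZq := hK.to_le hZK
  have hZr := hKr.coprime_dvd_left (card_dvd_of_le hZK)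
  have hZV := hZK.trans hKV
  have h1 := frob_mod hr he hZq hZr hVq hVr hZV heV heZ hf
    ((commutator_mono le_rfl hZK).trans hc)
  have h2 : ⁅V, Z⁆ ≤ W := by
    have h3 : ⁅V, Z ⊓ centralizer (zpowers e : Set X)⁆ ≤ V :=
      commutator_le_left_of_le_normalizer (inf_le_left.trans hZV)
    conv_lhs => rw [← commutator_sup_centralizer heZ (hZr.symm.coprime_dvd_left
      (card_zpowers_dvd he)) (Or.inr (solvable_of_isPGroup hZq))]
    refine (commutator_sup_le (N := ⁅V, Z ⊓ centralizer (zpowers e : Set X)⁆)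
      ((h1.trans (centralizer_le h3)).trans (centralizer_le_normalizer _))
      (normalizer_commutator_ge_right _ _) ?_ le_rfl).trans
      ((commutator_mono le_rfl (inf_le_inf_right _ hZK)).trans h)
    rw [commutator_eq_bot_iff_le_centralizer'.2 h1]
    exact bot_le
  have hlt : V ⊓ centralizer (Z : Set X) < V := lt_of_le_of_ne inf_le_left fun e =>
    hZ (le_centralizer_iff.1 (inf_eq_left.1 e))
  have hd := card_dvd_of_le hlt.le
  have h3 := ih _ hlt (hVq.coprime_dvd_left hd) (hVr.coprime_dvd_left hd)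
    (inf_le_left.trans (hab.trans (centralizer_le inf_le_left)))
    (le_normalizer_inf_centralizer hKV hKZ) (le_normalizer_inf_centralizer heV heZ)
    (eq_bot_iff.2 ((inf_le_inf_right _ inf_le_left).trans hf.le))
    ((commutator_mono inf_le_left le_rfl).trans h)
  have hVK : ⁅V, K⁆ ≤ V := commutator_le_left_of_le_normalizer hKV
  have hn : V ≤ normalizer ((W ⊓ V : Subgroup X) : Set X) :=
    (hab.trans (centralizer_le inf_le_right)).trans (centralizer_le_normalizer _)
  have h4 : ⁅V, Z⁆ ≤ V := commutator_le_left_of_le_normalizer hZV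
  rw [commutator_comm]
  conv_lhs => rw [← commutator_sup_centralizer hZV (coprime_card_of_isPGroup hVq hZq).symm
    (Or.inl (solvable_of_isPGroup hZq))]
  refine (commutator_sup_le (N := W ⊓ V) (h4.trans hn) (inf_le_left.trans hn) ?_ ?_).trans
    inf_le_left
  · exact (commutator_le_of_le_normalizer (le_normalizer_commutator hKV hKZ)).trans (le_inf h2 h4)
  · rw [commutator_comm]
    exact le_inf h3 ((commutator_mono inf_le_left le_rfl).trans hVK)

/-- Sketch: modulo `O_q(H)` apply `commutator_zpowers_le_centralizer` with `T = F(H̄)`. -/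
theorem commutator_zpowers_le_pCoreOf_of_comm {q r : ℕ} [Fact q.Prime] (hr : r.Prime)
    {H P : Subgroup X} {a : X} (ha : a ^ r = 1) (hH : Group.IsSolvable H)
    (hHr : (Nat.card H).Coprime r) (haH : zpowers a ≤ normalizer (H : Set X)) (hP : IsPGroup q P)
    (hPH : P ≤ H) (haP : zpowers a ≤ normalizer (P : Set X))
    (hC : H ⊓ centralizer (zpowers a : Set X) ≤ normalizer (P : Set X))
    (hab : P ≤ centralizer (P : Set X)) : ⁅P, zpowers a⁆ ≤ pCoreOf q H := by
  have hT := ppOf_le (π := {q}) H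
  have haT := haH.trans (normalizer_le_normalizer_ppOf (π := {q}) H)
  have hTq := isPiNum_relIndex_ppOf (π := {q}) H
  have key := le_piCoreOf_of_centMod (π := {q}) hH
    ((commutator_le_left_of_le_normalizer haP).trans hPH)
    (isPGroup_iff_isPiSubgroup.1 (hP.to_le (commutator_le_left_of_le_normalizer haP)))
  rw [← pCoreOf_eq_piCoreOf] at hTq key
  set T := ppOf {q} H with hTdef
  have hPT : P ≤ normalizer (T : Set X) := hPH.trans (le_normalizer_ppOf H)
  have haN := haH.trans (normalizer_le_normalizer_pCoreOf (p := q) H)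
  have hHN : H ≤ normalizer (pCoreOf q H : Set X) := le_normalizer_pCoreOf H
  have hNq := pCoreOf_isPGroup (p := q) H
  have hNH := pCoreOf_le (p := q) H
  set N := pCoreOf q H with hN
  have hz := bar_zpowers (haN (mem_zpowers a))
  have hTq' : (Nat.card (FT.U4.bar N T)).Coprime q := by
    rw [FT.U4.card_bar (hT.trans hHN), Nat.coprime_comm, (Fact.out : q.Prime).coprime_iff_not_dvd]
    exact fun h => hTq q Fact.out h rfl
  have h1 := commutator_zpowers_le_centralizer (q := q) hr (T := FT.U4.bar N T)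
    (P := FT.U4.bar N P) (a := QuotientGroup.mk' (N.subgroupOf (normalizer (N : Set X)))
      ⟨a, haN (mem_zpowers a)⟩)
    (by rw [← map_pow, show (⟨a, haN (mem_zpowers a)⟩ : normalizer (N : Set X)) ^ r = 1 from
      Subtype.ext ha, map_one])
    (isPGroup_bar hP)
    (hHr.coprime_dvd_left ((FT.U4.card_bar_dvd (hPH.trans hHN)).trans (card_dvd_of_le hPH))) hTq'
    (hHr.coprime_dvd_left ((FT.U4.card_bar_dvd (hT.trans hHN)).trans (card_dvd_of_le hT)))
    (FT.U4.bar_le_norm hPT) (hz ▸ FT.U4.bar_le_norm haT) (hz ▸ FT.U4.bar_le_norm haP)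
    (by
      have h2 : FT.U4.bar N T ⊓ centralizer (FT.U4.bar N (zpowers a) : Set _) ≤
          normalizer (FT.U4.bar N P : Set _) := by
        rw [FT.U4.bar_inf_cent haN (hT.trans hHN) haT ((hHr.symm.coprime_dvd_left
          (card_zpowers_dvd ha)).coprime_dvd_right (card_dvd_of_le hNH)) (solvable_of_isPGroup hNq)]
        exact FT.U4.bar_le_norm ((inf_le_inf_right _ hT).trans hC)
      rw [← hz, ← commutator_eq_bot_iff_le_centralizer', eq_bot_iff, ← (disjoint_of_coprime_natCard
        (coprime_card_of_isPGroup hTq' (isPGroup_bar (N := N) hP))).eq_bot]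
      exact le_inf ((commutator_mono le_rfl inf_le_left).trans (commutator_le_of_le_normalizer
        (FT.U4.bar_le_norm hPT))) (commutator_le_left_of_le_normalizer h2))
    fun _ _ _ Q hQ _ => comm_of_le_of_le_centralizer (bar_le_cent_self (hPH.trans hHN)
      (by rw [commutator_eq_bot_iff_le_centralizer.2 hab]; exact bot_le)) hQ
  rw [← hz, ← FT.U4.bar_comm (hPH.trans hHN) haN, FT.U4.bar_le_cent_iff
    (((commutator_le_left_of_le_normalizer haP).trans hPH).trans hHN) (hT.trans hHN)] at h1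
  exact key (le_centMod_iff.2 ⟨hT.trans hHN, h1⟩)

theorem eq_zero_of_fix_normOp {k V G : Type*} [Field k] [AddCommGroup V] [Module k V] [Group G]
    [Finite G] {ρ : G →* Module.End k V} {Z R : Subgroup G} {ψ : G → k} {v : V} {y : G}
    (hv : v ∈ H9.weightSpace ρ Z ψ) (hR : R ≤ normalizer (Z : Set G))
    (hy : y ∈ normalizer (Z : Set G)) (hf : ∀ r ∈ R, r ≠ 1 → ∃ z ∈ Z, ψ (r⁻¹ * z * r) ≠ ψ z)
    (hg : ∀ r ∈ R, ∃ z ∈ Z, ψ ((y * r)⁻¹ * z * (y * r)) ≠ ψ z)
    (h0 : ρ y (H9.normOp ρ R v) = H9.normOp ρ R v) : v = 0 := by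
  classical
  have := Fintype.ofFinite R
  rw [H9.normOp_eq, LinearMap.sum_apply, map_sum] at h0
  have := H9.eq_zero_of_sum_weight (ρ := ρ) (Z := Z)
    (Sum.elim (fun (r : R) z => ψ ((r : G)⁻¹ * z * r))
      fun (r : R) z => ψ ((y * r)⁻¹ * z * (y * r))) (Sum.inl 1) Finset.univ
    (Sum.elim (fun r : R => ρ r v) fun r : R => -ρ (y * r) v) (by
      rintro (r | r) -
      · exact H9.rho_mem_weightSpace_conj hv (hR r.2)
      · exact neg_mem (H9.rho_mem_weightSpace_conj hv (mul_mem hy (hR r.2))))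
    (Finset.mem_univ _) (by
      rintro (r | r) - hr
      · simpa using hf r r.2 fun h => hr (congrArg Sum.inl (Subtype.ext h))
      · simpa using hg r r.2)
    (by
      rw [Fintype.sum_sum_type]
      simp only [Sum.elim_inl, Sum.elim_inr, Finset.sum_neg_distrib, map_mul, Module.End.mul_apply]
      rw [h0, add_neg_cancel])
  simpa using this

/-- Sketch: WLOG `R` minimal (`minimal_action` for `B = T ⊔ ⟨a⟩ ⊔ ⟨z⟩`), `C_R(T) = R'`. Take
`H9.exists_secRep l L.subtype R R'`, a weight vector `v ≠ 0` of `T` not fixed by `T`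
(`H9.exists_central_weight`). `ρ z` fixes `normOp ⟨a⟩ v` (`exists_normOp_eq`), so
`∑ ρ(a^i) v - ∑ ρ(z a^i) v = 0`; all weights except that of `v` differ from it
(`fixed_of_weight_conj`, `C_T(z a^i) ≤ C_T(z^r) = 1`), so `v = 0` (`eq_zero_of_sum_weight`). -/
theorem u2_core {l r : ℕ} [Fact l.Prime] (hr : r.Prime) {T R : Subgroup X} {a z : X}
    (ha : a ^ r = 1) (hz : (orderOf z).Coprime r) (hza : Commute z a) (hR : IsPGroup l R)
    (hlr : l ≠ r) (hTl : (Nat.card T).Coprime l) (hab : T ≤ centralizer (T : Set X))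
    (hTR : T ≤ normalizer (R : Set X)) (haR : a ∈ normalizer (R : Set X))
    (hzR : z ∈ normalizer (R : Set X)) (haT : a ∈ normalizer (T : Set X))
    (hzT : z ∈ normalizer (T : Set X)) (h1 : T ⊓ centralizer ({z} : Set X) = ⊥)
    (h2 : T ⊓ centralizer ({a} : Set X) = ⊥)
    (h3 : ∀ x ∈ R, Commute x a → ⁅x, z⁆ ∈ centralizer (T : Set X)) :
    T ≤ centralizer (R : Set X) := by
  rw [← commutator_eq_bot_iff_le_centralizer']
  by_contra h0
  set B := T ⊔ (zpowers a ⊔ zpowers z) with hB
  have hBT : B ≤ normalizer (T : Set X) :=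
    sup_le le_normalizer (sup_le (zpowers_le.2 haT) (zpowers_le.2 hzT))
  obtain ⟨M, hMR, hBM, h4, h5⟩ := exists_minimal_action (B := B)
    (sup_le hTR (sup_le (zpowers_le.2 haR) (zpowers_le.2 hzR))) h0
  have hM := hR.to_le hMR
  obtain ⟨-, k2, k3, -⟩ := minimal_action hM hBM le_sup_left hBT hTl h4 h5
  have hBN : B ≤ normalizer ((⁅M, M⁆ : Subgroup X) : Set X) := le_normalizer_commutator hBM hBM
  have hNM := commutator_le_self M
  have hN := hM.to_le hNM
  have haB : a ∈ B := mem_sup_right (mem_sup_left (mem_zpowers a))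
  have hzB : z ∈ B := mem_sup_right (mem_sup_right (mem_zpowers z))
  obtain ⟨W, _, _, _, ρ, ι, S⟩ := H9.exists_secRep l B.subtype M ⁅M, M⁆ hNM (fun g => hBM g.2)
    (fun g => hBN g.2) le_rfl fun x hx => k3 ▸ pow_mem_frattini_map hM hx
  have hfix : ∀ v : W, (∀ g ∈ T.subgroupOf B, ρ g v = v) → v = 0 := by
    refine (H9.normOp_eq_zero_iff ?_).1 (S.normOp_eq_zero _ fun m hm h => ?_)
    · rw [card_subgroupOf_of_le le_sup_left, Ne, CharP.cast_eq_zero_iff _ l]
      exact (Fact.out : l.Prime).coprime_iff_not_dvd.1 hTl.symm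
    · obtain ⟨n, hn, c, hc, rfl⟩ := exists_mul_centralizer_of_commutator_mem (A := T) (g := m)
        (le_sup_left.trans hBN) (coprime_card_of_isPGroup hTl hN)
        (Or.inr (solvable_of_isPGroup hN)) fun t ht => by
          rw [← commutatorElement_inv]
          exact inv_mem (h ⟨t, mem_sup_left ht⟩ ht)
      exact mul_mem hn (k2 ▸ mem_inf.2 ⟨(mul_mem_cancel_left (hNM hn)).1 hm, hc⟩)
  have htop : (⊤ : Submodule (AlgebraicClosure (ZMod l)) W) ≠ ⊥ := fun h =>
    (frattini_map_lt fun h' => h4 (by rw [h', commutator_bot_left])).not_ge (k3 ▸ fun m hm =>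
      (S.eq_zero_iff m hm).1 ((Submodule.eq_bot_iff _).1 h _ Submodule.mem_top))
  obtain ⟨U, ψ, -, hU, -, hUψ⟩ := H9.exists_central_weight (ρ := ρ) (K := T.subgroupOf B)
    (Z := T.subgroupOf B) le_rfl htop (fun _ _ _ _ => Submodule.mem_top) (by
      rw [commutator_eq_bot_iff_le_centralizer.2 fun x hx y hy => Subtype.ext (hab hx y hy)]
      exact bot_le)
  obtain ⟨v, hv, hv0⟩ := (Submodule.ne_bot_iff U).1 hU
  have hnT : ∀ y : B, y ∈ normalizer ((T.subgroupOf B : Subgroup B) : Set B) := fun y =>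
    (normalizer_eq_top_iff.2 ((normal_subgroupOf_iff_le_normalizer le_sup_left).2 hBT)).ge
      (mem_top y)
  have hw : ∀ y : B, T ⊓ centralizer ({(y : X)} : Set X) = ⊥ →
      ∃ t ∈ T.subgroupOf B, ψ (y⁻¹ * t * y) ≠ ψ t := fun y hy => by
    by_contra hc
    push Not at hc
    exact hv0 (hfix v (H9.fixed_of_weight_conj (hUψ hv) (hnT y) (fun t ht e => Subtype.ext
      (mem_bot.1 (hy ▸ mem_inf.2 ⟨ht, mem_centralizer_singleton_iff'.2 (congrArg Subtype.val e)⟩)))
      hc))
  have hpow : ∀ (x y : X), y ∈ zpowers x → T ⊓ centralizer ({y} : Set X) = ⊥ →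
      T ⊓ centralizer ({x} : Set X) = ⊥ := fun x y hy h => by
    rw [eq_bot_iff, ← h, ← centralizer_zpowers_eq x]
    exact inf_le_inf_left _ (centralizer_le (Set.singleton_subset_iff.2 hy))
  have hza' : ∀ b : B, b ∈ zpowers (⟨a, haB⟩ : B) → (b : X) ∈ zpowers a := by
    rintro _ ⟨n, rfl⟩
    exact ⟨n, by simp⟩
  refine hv0 (eq_zero_of_fix_normOp (R := zpowers (⟨a, haB⟩ : B)) (y := ⟨z, hzB⟩) (hUψ hv)
    (fun y _ => hnT y) (hnT _) (fun b hb hb1 => hw b (hpow _ a ?_ h2))
    (fun b hb => hw _ (hpow _ z ?_ h1)) ?_)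
  · have hb' := hza' b hb
    have hd : orderOf (b : X) ∣ orderOf a := orderOf_dvd_of_mem_zpowers hb'
    have hd' := orderOf_dvd_of_pow_eq_one ha
    have e : orderOf (b : X) = r := ((Nat.dvd_prime hr).1 (hd.trans hd')).resolve_left
      fun h => hb1 (Subtype.ext (orderOf_eq_one_iff.1 h))
    rw [eq_of_le_of_card_le (zpowers_le.2 hb') (by
      rw [Nat.card_zpowers, Nat.card_zpowers, e]; exact Nat.le_of_dvd hr.pos hd')]
    exact mem_zpowers a
  · obtain ⟨n, hn⟩ := hza' b hb
    have e : (z * (b : X)) ^ r = z ^ r := by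
      rw [← hn, (hza.zpow_right n).mul_pow, ← zpow_natCast, ← zpow_natCast, ← zpow_mul, mul_comm n,
        zpow_mul, zpow_natCast a, ha, one_zpow, mul_one]
    refine zpowers_le.2 (e ▸ pow_mem (mem_zpowers (z * (b : X))) r) ?_
    rw [mem_zpowers_pow_iff, Nat.gcd_comm]
    exact hz
  · have h6 := S.range_normOp_le (zpowers (⟨a, haB⟩ : B))
      (U := H9.fixSpace ρ (zpowers (⟨z, hzB⟩ : B))) fun m hm h => by
        obtain ⟨n, hn, c, hc, rfl⟩ := exists_mul_centralizer_of_commutator_mem (A := zpowers a)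
          (g := m) (zpowers_le.2 (hBN haB)) (coprime_card_of_isPGroup
            (((Nat.coprime_primes hr Fact.out).2 hlr.symm).coprime_dvd_left (card_zpowers_dvd ha))
              hN) (Or.inr (solvable_of_isPGroup hN)) fun b hb =>
            commutatorElement_mem_of_zpowers (hBN haB) (by
              rw [← commutatorElement_inv]
              exact inv_mem (h _ (mem_zpowers _))) hb
        have hcM := (mul_mem_cancel_left (hNM hn)).1 hm
        have h7 : ⁅z, c⁆ ∈ ⁅M, M⁆ := by
          rw [← k2]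
          refine mem_inf.2 ⟨S.commutator_mem ⟨z, hzB⟩ hcM, ?_⟩
          rw [← commutatorElement_inv]
          exact inv_mem (h3 c (hMR hcM) (hc a (mem_zpowers a)).symm)
        have h8 := S.map_commutator ⟨z, hzB⟩ hcM
        rw [(S.eq_zero_iff _ (S.commutator_mem _ hcM)).2 h7, eq_comm, sub_eq_zero] at h8
        rw [S.map_mul n (hNM hn) c hcM, (S.eq_zero_iff n (hNM hn)).2 hn, zero_add]
        exact fun g hg => (zpowers_le (H := H9.fixSub ρ (Submodule.span _ {ι c}))).2
          (fun w hw => by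
            obtain ⟨s, rfl⟩ := Submodule.mem_span_singleton.1 hw
            rw [map_smul, h8]) hg _ (Submodule.mem_span_singleton_self _)
    exact h6 ⟨v, rfl⟩ _ (mem_zpowers _)

theorem u2_bot {q s r : ℕ} [Fact q.Prime] [Fact s.Prime] (hr : r.Prime) (hqs : q ≠ s)
    {H P V : Subgroup X} {a z : X} (ha : a ^ r = 1) (hH : Group.IsSolvable H)
    (hHr : (Nat.card H).Coprime r) (haH : zpowers a ≤ normalizer (H : Set X)) (hP : IsPGroup q P)
    (hPH : P ≤ H) (hC : H ⊓ centralizer (zpowers a : Set X) ≤ normalizer (P : Set X))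
    (hV : IsPGroup s V) (hVH : V ≤ H) (hab : V ≤ centralizer (V : Set X))
    (hPV : P ≤ normalizer (V : Set X)) (haV : zpowers a ≤ normalizer (V : Set X)) (hz : z ∈ P)
    (hza : Commute z a) (h0 : pCoreOf s H = ⊥) : ⁅V, zpowers z⁆ = ⊥ := by
  have hzP := zpowers_le.2 hz
  have hTV : ⁅V, zpowers z⁆ ≤ V := commutator_le_left_of_le_normalizer (hzP.trans hPV)
  have hVP : V ⊓ P = ⊥ := (IsPGroup.disjoint_of_ne s q hqs.symm V P hV hP).eq_bot
  have h1 : ⁅V, zpowers z⁆ ⊓ centralizer ({z} : Set X) = ⊥ := by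
    rw [← centralizer_zpowers_eq]
    exact commutator_inf_centralizer_eq_bot (hzP.trans hPV)
      (coprime_card_of_isPGroup (coprime_card_of_isPGroup_of_ne hqs (hP.to_le hzP)) hV)
      (comm_of_le_of_le_centralizer hab le_rfl)
  have h2 : ⁅V, zpowers z⁆ ⊓ centralizer ({a} : Set X) = ⊥ := by
    rw [eq_bot_iff, ← h1, ← centralizer_zpowers_eq a]
    refine le_inf inf_le_left (((inf_le_inf_right _ hTV).trans ?_).trans
      (centralizer_le (Set.singleton_subset_iff.2 hz)))
    rw [← commutator_eq_bot_iff_le_centralizer', eq_bot_iff, ← hVP]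
    exact le_inf ((commutator_mono le_rfl inf_le_left).trans (commutator_le_of_le_normalizer hPV))
      (commutator_le_left_of_le_normalizer ((inf_le_inf_right _ hVH).trans hC))
  have h3 : ⁅V, zpowers z⁆ ≤ centralizer (fittingOf H : Set X) := by
    refine le_centralizer_iff.1 (fittingOf_le_of_forall fun l _ => ?_)
    by_cases hl : pCoreOf l H = ⊥
    · rw [hl]
      exact bot_le
    have hls : l ≠ s := fun e => hl (e ▸ h0)
    have hR := pCoreOf_isPGroup (p := l) H
    have hn := le_normalizer_pCoreOf (p := l) H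
    have hlr : l ≠ r := fun e => hl (card_eq_one.1 ((IsPGroup.card_eq_or_dvd hR).resolve_right
      fun hd => hr.coprime_iff_not_dvd.1 hHr.symm
        (e ▸ hd.trans (card_dvd_of_le (pCoreOf_le H)))))
    refine le_centralizer_iff.1 (u2_core hr ha (hHr.coprime_dvd_left
      (H.orderOf_dvd_natCard (hPH hz))) hza hR hlr
      (coprime_card_of_isPGroup_of_ne hls.symm (hV.to_le hTV))
      (hTV.trans (hab.trans (centralizer_le hTV))) ((hTV.trans hVH).trans hn)
      ((haH.trans (normalizer_le_normalizer_pCoreOf H)) (mem_zpowers a)) (hn (hPH hz))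
      (le_normalizer_commutator haV ((zpowers_le.2 ?_).trans (centralizer_le_normalizer _))
        (mem_zpowers a))
      (normalizer_commutator_ge_right _ _ (mem_zpowers z)) h1 h2 fun x hx hxa => ?_)
    · rw [centralizer_zpowers_eq]
      exact mem_centralizer_singleton_iff'.2 hza
    · have h4 : pCoreOf l H ⊓ P ≤ centralizer (V : Set X) := by
        rw [← commutator_eq_bot_iff_le_centralizer', eq_bot_iff,
          ← (IsPGroup.disjoint_of_ne s l hls.symm V _ hV hR).eq_bot]
        exact le_inf (commutator_le_left_of_le_normalizer (inf_le_right.trans hPV))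
          ((commutator_mono le_rfl inf_le_left).trans
            (commutator_le_of_le_normalizer (hVH.trans hn)))
      refine centralizer_le hTV (h4 ⟨commutatorElement_mem_left hx (hn (hPH hz)),
        commutatorElement_mem_right (hC ⟨pCoreOf_le H hx, ?_⟩) hz⟩)
      rw [SetLike.mem_coe, centralizer_zpowers_eq]
      exact mem_centralizer_singleton_iff'.2 hxa.symm
  rw [eq_bot_iff, ← h0]
  exact le_pCoreOf_of_le_fittingOf ((le_inf (hTV.trans hVH) h3).trans
    (inf_centralizer_fittingOf_le (layerIn_eq_bot_of_isSolvable hH))) (hV.to_le hTV)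

/-- Sketch: modulo `O_s(H)`: `T = [V,z]` has `C_T(a) ≤ C_T(z) = 1`; for `l ≠ s` and `R = O_l(H)`,
`[C_R(a), z] ≤ R ⊓ P` and `[R ⊓ P, T] ≤ R ⊓ V = 1`; so `T` centralizes `F(H)` by `u2_core`. -/
theorem u2 {q s r : ℕ} [Fact q.Prime] [Fact s.Prime] (hr : r.Prime) (hqs : q ≠ s)
    {H P V : Subgroup X} {a z : X} (ha : a ^ r = 1) (hH : Group.IsSolvable H)
    (hHr : (Nat.card H).Coprime r) (haH : zpowers a ≤ normalizer (H : Set X)) (hP : IsPGroup q P)
    (hPH : P ≤ H) (hC : H ⊓ centralizer (zpowers a : Set X) ≤ normalizer (P : Set X))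
    (hV : IsPGroup s V) (hVH : V ≤ H) (hab : V ≤ centralizer (V : Set X))
    (hPV : P ≤ normalizer (V : Set X)) (haV : zpowers a ≤ normalizer (V : Set X)) (hz : z ∈ P)
    (hza : Commute z a) : ⁅V, zpowers z⁆ ≤ pCoreOf s H := by
  have h0 := pCoreOf_bar_eq_bot (p := s) H
  have haN := haH.trans (normalizer_le_normalizer_pCoreOf (p := s) H)
  have hHN : H ≤ normalizer (pCoreOf s H : Set X) := le_normalizer_pCoreOf H
  have hNq := pCoreOf_isPGroup (p := s) H
  have hNH := pCoreOf_le (p := s) H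
  set N := pCoreOf s H with hN
  have hzN := hHN (hPH hz)
  have ea := bar_zpowers (haN (mem_zpowers a))
  have ez := bar_zpowers hzN
  have h1 := u2_bot (q := q) (s := s) hr hqs (H := FT.U4.bar N H) (P := FT.U4.bar N P)
    (V := FT.U4.bar N V) (a := QuotientGroup.mk' (N.subgroupOf (normalizer (N : Set X)))
      ⟨a, haN (mem_zpowers a)⟩) (z := QuotientGroup.mk' (N.subgroupOf (normalizer (N : Set X)))
      ⟨z, hzN⟩)
    (by rw [← map_pow, show (⟨a, haN (mem_zpowers a)⟩ : normalizer (N : Set X)) ^ r = 1 from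
      Subtype.ext ha, map_one])
    (isSolvable_map (isSolvable_subgroupOf hH _) _) (hHr.coprime_dvd_left (FT.U4.card_bar_dvd hHN))
    (ea ▸ FT.U4.bar_le_norm haH) (isPGroup_bar hP) (FT.U4.bar_mono hPH)
    (by
      rw [← ea, FT.U4.bar_inf_cent haN hHN haH ((hHr.symm.coprime_dvd_left
        (card_zpowers_dvd ha)).coprime_dvd_right (card_dvd_of_le hNH)) (solvable_of_isPGroup hNq)]
      exact FT.U4.bar_le_norm hC)
    (isPGroup_bar hV) (FT.U4.bar_mono hVH) (bar_le_cent_self (hVH.trans hHN)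
      (by rw [commutator_eq_bot_iff_le_centralizer.2 hab]; exact bot_le))
    (FT.U4.bar_le_norm hPV) (ea ▸ FT.U4.bar_le_norm haV) (mem_map_of_mem _ (mem_subgroupOf.2 hz))
    (Commute.map (Subtype.ext hza.eq) _) h0
  rwa [← ez, ← FT.U4.bar_comm (hVH.trans hHN) (zpowers_le.2 hzN), FT.U4.bar_eq_bot_iff
    ((commutator_le_left_of_le_normalizer ((zpowers_le.2 hz).trans hPV)).trans
      (hVH.trans hHN))] at h1

namespace SF

variable {S : SF X} {q s : ℕ} [Fact q.Prime] [Fact s.Prime] {P V : Subgroup X} {a : X}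

/-- As `IsTh.commutator_le_W`, with `commutator_zpowers_le_pCoreOf_of_comm`. -/
theorem IsTh.commutator_le_W_of_comm (hP : S.IsTh P) (hq : IsPGroup q P) (ha : S.Pt a)
    (hn : S.θ a ≤ normalizer (P : Set X)) (hab : P ≤ centralizer (P : Set X)) :
    ⁅P, zpowers a⁆ ≤ S.W q := by
  refine hP.commutator_le ha.zpowers_le (ha.zpowers_le.trans A_le_normalizer_W) fun D hD =>
    le_iSup₂_of_le D hD (le_Δ hD.1 fun d hd hdD => ?_)
  have h1 := ha.zpowers_le.trans hd.A_le_normalizer_centralizer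
  rw [← pCoreOf_eq_piCoreOf]
  exact (commutator_mono (inf_le_inf_left _ (centralizer_le (Set.singleton_subset_iff.2 hdD)))
    le_rfl).trans (commutator_zpowers_le_pCoreOf_of_comm S.prime (S.elem.2 a ha.1) hd.isTh.solv
      hd.isTh.cop (hd.isTh.norm' ha.zpowers_le) hq.to_inf_left (hP.le d hd)
      (le_normalizer_inf (hP.norm' ha.zpowers_le) h1) (le_normalizer_inf
        ((hd.isTh.le' ha).trans hn) (inf_le_left.trans (hd.le_cent.trans le_normalizer)))
      (inf_le_left.trans (hab.trans (centralizer_le inf_le_left))))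

/-- For each hyperplane `D`, `d ∈ D#`, `z ∈ C_P(A)`: `u2` in `θ d` with `C_P(d)`, `C_V(d)` gives
`[C_V(D), z] ≤ Δ_s(D)`; `V` is abelian and generated by the `C_V(D)`. -/
theorem IsTh.commutator_fix_le_W (hqs : q ≠ s) (hP : S.IsTh P) (hq : IsPGroup q P) (ha : S.Pt a)
    (hn : S.θ a ≤ normalizer (P : Set X)) (hV : S.IsTh V) (hs : IsPGroup s V)
    (hab : V ≤ centralizer (V : Set X)) (hPV : P ≤ normalizer (V : Set X)) :
    ⁅V, P ⊓ centralizer (S.A : Set X)⁆ ≤ S.W s := by
  have hVn : V ≤ normalizer ((S.W s ⊓ V : Subgroup X) : Set X) :=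
    (hab.trans (centralizer_le inf_le_right)).trans (centralizer_le_normalizer _)
  rw [commutator_comm]
  refine (le_centMod_iff.1 (hV.le_of_hyp (K := centMod _ (S.W s ⊓ V)) fun D hD =>
    le_centMod_iff.2 ⟨inf_le_left.trans hVn, le_inf ?_ ((commutator_mono inf_le_left
      inf_le_left).trans (commutator_le_of_le_normalizer hPV))⟩)).2.trans inf_le_left
  refine le_iSup₂_of_le D hD (le_Δ hD.1 fun d hd hdD => ?_)
  have h1 := ha.zpowers_le.trans hd.A_le_normalizer_centralizer
  rw [← pCoreOf_eq_piCoreOf, commutator_comm]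
  refine Subgroup.commutator_le.2 fun v hv z hz => ?_
  have hzd : z ∈ centralizer ({d} : Set X) := centralizer_le (Set.singleton_subset_iff.2 hd.1) hz.2
  exact u2 (P := P ⊓ centralizer {d}) (V := V ⊓ centralizer {d}) S.prime hqs (S.elem.2 a ha.1)
    hd.isTh.solv hd.isTh.cop (hd.isTh.norm' ha.zpowers_le) hq.to_inf_left (hP.le d hd)
    (le_normalizer_inf ((hd.isTh.le' ha).trans hn)
      (inf_le_left.trans (hd.le_cent.trans le_normalizer))) hs.to_inf_left (hV.le d hd)
    (inf_le_left.trans (hab.trans (centralizer_le inf_le_left)))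
    (le_normalizer_inf (inf_le_left.trans hPV) (inf_le_right.trans le_normalizer))
    (le_normalizer_inf (hV.norm' ha.zpowers_le) h1) ⟨hz.1, hzd⟩ (hz.2 a ha.1).symm
    (commutator_mem_commutator ⟨hv.1, centralizer_le (Set.singleton_subset_iff.2 hdD) hv.2⟩
      (mem_zpowers z))

/-- `V₀ = [V,U]`, `U = [P,a]`, has `C_{V₀}(a) = 1`; for hyperplanes `D ∌ a` apply
`commutator_le_of_fpf` to `K = C_P(D)`; then `IsTh.commutator_le` into `centMod V₀ (V₀ ⊓ W s)`. -/
theorem IsTh.commutator_commutator_le_W (hqs : q ≠ s) (hP : S.IsTh P) (hq : IsPGroup q P)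
    (ha : S.Pt a) (hn : S.θ a ≤ normalizer (P : Set X)) (hV : S.IsTh V) (hs : IsPGroup s V)
    (hab : V ≤ centralizer (V : Set X)) (hPV : P ≤ normalizer (V : Set X)) :
    ⁅V, ⁅P, zpowers a⁆⁆ ≤ S.W s := by
  have hfix := hP.commutator_fix_le_W hqs hq ha hn hV hs hab hPV
  have hU := hP.commutator ha.zpowers_le
  have hUP : ⁅P, zpowers a⁆ ≤ P := commutator_le_left_of_le_normalizer (hP.norm' ha.zpowers_le)
  have hPU : P ≤ normalizer ((⁅P, zpowers a⁆ : Subgroup X) : Set X) :=
    normalizer_commutator_ge_left _ _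
  set U := ⁅P, zpowers a⁆ with hUdef
  have hVq : (Nat.card V).Coprime q := coprime_card_of_isPGroup_of_ne hqs.symm hs
  have hcop : (Nat.card U).Coprime (Nat.card V) :=
    (coprime_card_of_isPGroup hVq (hq.to_le hUP)).symm
  have h0 : ⁅V, U⁆ ≤ V := commutator_le_left_of_le_normalizer (hUP.trans hPV)
  have hA0 := le_normalizer_commutator hV.norm hU.norm
  have hP0 := le_normalizer_commutator hPV hPU
  have hf : ⁅V, U⁆ ⊓ centralizer (zpowers a : Set X) = ⊥ := by
    rw [eq_bot_iff, ← commutator_inf_centralizer_eq_bot (hUP.trans hPV) hcop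
      (comm_of_le_of_le_centralizer hab le_rfl)]
    refine le_inf inf_le_left (((inf_le_inf_right _ h0).trans ?_).trans (centralizer_le hUP))
    rw [← commutator_eq_bot_iff_le_centralizer', eq_bot_iff,
      ← (IsPGroup.disjoint_of_ne s q hqs.symm V P hs hq).eq_bot]
    exact le_inf ((commutator_mono le_rfl inf_le_left).trans (commutator_le_of_le_normalizer hPV))
      (commutator_le_left_of_le_normalizer ((hV.le' ha).trans hn))
  rw [← commutator_commutator_eq (hUP.trans hPV) hcop]
  refine (le_centMod_iff.1 (hP.commutator_le (K := centMod ⁅V, U⁆ (S.W s ⊓ ⁅V, U⁆)) ha.zpowers_le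
    (ha.zpowers_le.trans (le_normalizer_centMod hA0 (le_normalizer_inf A_le_normalizer_W hA0)))
    fun D hD => ?_)).2.trans inf_le_left
  have hK := hP.inf_centralizer (A_le_normalizer_of_le hD.1)
  by_cases haD : a ∈ D
  · rw [commutator_eq_bot_iff_le_centralizer.2
      (inf_le_right.trans (centralizer_le (zpowers_le.2 haD)))]
    exact bot_le
  have hd := card_dvd_of_le h0
  have h1 : ⁅⁅V, U⁆, P ⊓ centralizer (D : Set X)⁆ ≤ S.W s ⊓ ⁅V, U⁆ := le_inf
    (commutator_le_of_fpf S.prime (S.elem.2 a ha.1) hq.to_inf_left hK.cop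
      (hVq.coprime_dvd_left hd) (hV.cop.coprime_dvd_left hd)
      (h0.trans (hab.trans (centralizer_le h0))) (inf_le_left.trans hP0)
      (ha.zpowers_le.trans hA0) (hK.norm' ha.zpowers_le) hf
      ((commutator_mono h0 (by rw [inf_assoc, ← centralizer_sup', hD.sup_eq ha haD])).trans hfix))
    (commutator_le_left_of_le_normalizer (inf_le_left.trans hP0))
  exact (commutator_le_left_of_le_normalizer (hK.norm' ha.zpowers_le)).trans
    (le_centMod_iff.2 ⟨le_normalizer_of_commutator_le h1 inf_le_right, h1⟩)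

end SF

end CfsgLib.Sig
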