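import Cfsg.Agent.Lib.Sig.Q3
import Cfsg.Agent.Lib.Sig.F1

/-!
# Points acting trivially on the odd part of the Fitting subgroup
-/

set_option autoImplicit false

namespace CfsgLib.Sig

open Subgroup Cfsg CfsgLib.Cop CfsgLib.H1
open scoped commutatorElement

variable {X : Type*} [Group X]

namespace SF

/-- the largest `θ(e) A`-invariant `2`-subgroup -/
abbrev P2 (S : SF X) (e : X) : Subgroup X := S.big 2 (S.θ e)

/-- The data attached to a point. -/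
structure PD (S : SF X) (e : X) (M : Subgroup X) : Prop where
  pt : S.Pt e
  max : S.Max M
  ctrl : S.Ctrl M ⁅S.P2 e, zpowers e⁆
  ne : ⁅pCoreOf 2 M, zpowers e⁆ ≠ ⊥
  cent : oddF M ≤ centralizer (zpowers e : Set X)

/-- no nontrivial subgroup of some `W p`, `p` odd, is normalized by `A` and `Θ` -/
def Valid (S : SF X) (Θ : Subgroup X) : Prop :=
  ∀ p, p.Prime → p ≠ 2 → ∀ Y ≤ S.W p, S.A ≤ normalizer (Y : Set X) →
    Θ ≤ normalizer (Y : Set X) → Y = ⊥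

variable {S : SF X} [Finite X] [h2 : Fact (Nat.Prime 2)]

theorem Pt.isTh_P2 {e : X} (h : S.Pt e) : S.IsTh (S.P2 e) := isTh_big h.thA_le

theorem Pt.isPGroup_P2 {e : X} (h : S.Pt e) : IsPGroup 2 (S.P2 e) := isPGroup_big h.thA_le

theorem Pt.isTh_U {e : X} (h : S.Pt e) : S.IsTh ⁅S.P2 e, zpowers e⁆ :=
  h.isTh_P2.commutator h.zpowers_le

omit [Finite X] h2 in
theorem Pt.le_normalizer_U {e : X} (h : S.Pt e) :
    S.θ e ≤ normalizer ((⁅S.P2 e, zpowers e⁆ : Subgroup X) : Set X) :=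
  le_normalizer_commutator (le_normalizer_big _) h.le_normalizer_zpowers

theorem Ctx.exists_pd (hS : S.Ctx) {e : X} (he : S.Pt e)
    (h : ∀ p, p.Prime → p ≠ 2 → ∀ Y ≤ S.W p, S.A ≤ normalizer (Y : Set X) →
      S.θ e ≤ normalizer (Y : Set X) → Y = ⊥) : ∃ M, S.PD e M := by
  have h1 : ∀ M, S.IsTh M → S.θ e ≤ M → ∀ (p : ℕ) [Fact p.Prime], p ≠ 2 →
      ⁅pCoreOf p M, zpowers e⁆ = ⊥ := fun M hM k p hp hp2 =>
    h p hp.out hp2 _ (hM.commutator_le_W he k fun _ _ _ => hp2)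
      ((hM.pCoreOf p).commutator he.zpowers_le).norm
      (le_normalizer_commutator (k.trans (le_normalizer_pCoreOf M)) he.le_normalizer_zpowers)
  have h3 : ∀ M, S.Max M → S.θ e ≤ M → ⁅pCoreOf 2 M, zpowers e⁆ ≠ ⊥ := fun M hM k k1 => by
    obtain ⟨t, ht, k2⟩ := hS.exists_commutator_ne_bot hM he
    have := Fact.mk ht
    by_cases k3 : t = 2
    · exact k2 (k3 ▸ k1)
    · exact k2 (h1 M hM.1 k t k3)
  obtain ⟨M, hM, k⟩ := he.isTh.exists_max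
  obtain ⟨N, hN, k1⟩ := hS.exists_ctrl he.isTh_U (ne_bot_of_le_ne_bot (h3 M hM k)
    (commutator_mono ((hM.1.pCoreOf 2).le_big (pCoreOf_isPGroup M)
      (k.trans (le_normalizer_pCoreOf M))) le_rfl))
  have k2 := k1 _ he.isTh he.le_normalizer_U
  exact ⟨N, he, hN, k1, h3 N hN k2, oddF_le_of_forall fun p _ hp =>
    commutator_eq_bot_iff_le_centralizer.1 (h1 N hN.1 k2 p hp)⟩

omit h2 in
theorem Valid.mono {Θ Θ' : Subgroup X} (h : S.Valid Θ) (h1 : Θ ≤ Θ') : S.Valid Θ' :=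
  fun p hp hp2 Y k1 k2 k3 => h p hp hp2 Y k1 k2 (h1.trans k3)

namespace PD

variable {e : X} {M : Subgroup X} (h : S.PD e M)
include h

omit [Finite X] h2 in
theorem θ_le : S.θ e ≤ M := h.ctrl _ h.pt.isTh h.pt.le_normalizer_U

theorem thA_le : S.th S.A ≤ M := h.pt.thA_le.trans h.θ_le

theorem P_le : S.P2 e ≤ M := h.ctrl _ h.pt.isTh_P2 (normalizer_commutator_ge_left _ _)

theorem O_le : pCoreOf 2 M ≤ S.P2 e :=
  (h.max.1.pCoreOf 2).le_big (pCoreOf_isPGroup M) (h.θ_le.trans (le_normalizer_pCoreOf M))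

omit [Finite X] h2 in
theorem O_ne : pCoreOf 2 M ≠ ⊥ := fun h1 => h.ne (by rw [h1, commutator_bot_left])

theorem U_ne : ⁅S.P2 e, zpowers e⁆ ≠ ⊥ := ne_bot_of_le_ne_bot h.ne (commutator_mono h.O_le le_rfl)

theorem T_le : oddF M ≤ S.θ e := (le_inf le_rfl h.cent).trans (h.max.1.oddF.le' h.pt)

theorem T_cent : oddF M ≤ centralizer (S.P2 e : Set X) :=
  le_centralizer_of_two (oddF_isPi M) h.pt.isPGroup_P2 le_rfl le_rfl
    (h.P_le.trans (le_normalizer_oddF M)) (h.T_le.trans (le_normalizer_big _))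

theorem H_cent : ⁅M, zpowers e⁆ ≤ centralizer (oddF M : Set X) :=
  commutator_le_centralizer_right (le_centralizer_iff.1 h.cent) (le_normalizer_oddF M)

theorem F_le {N : Subgroup X} (h1 : S.P2 e ≤ N) (h3 : oddF M ≤ N) : fittingOf M ≤ N :=
  fittingOf_le_of_two (h.O_le.trans h1) h3

theorem commutator_le_F {Y : Subgroup X} (hY : S.IsTh Y) (h1 : Y ≤ M)
    (h3 : Y ≤ centralizer (pCoreOf 2 M : Set X)) : ⁅Y, zpowers e⁆ ≤ fittingOf M :=
  h.max.1.le_fitting ((commutator_le_left_of_le_normalizer (hY.norm' h.pt.zpowers_le)).trans h1)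
    ((commutator_le_left_of_le_normalizer (hY.norm' h.pt.zpowers_le)).trans h3)
    ((commutator_mono h1 le_rfl).trans h.H_cent)

theorem le_θ {Y : Subgroup X} (hY : S.IsTh Y) (h0 : IsPiSubgroup {2}ᶜ Y) (h1 : Y ≤ M)
    (h3 : Y ≤ centralizer (pCoreOf 2 M : Set X)) : Y ≤ S.θ e := by
  have h4 := hY.norm' h.pt.zpowers_le
  refine (le_inf le_rfl (commutator_eq_bot_iff_le_centralizer.1
    (commutator_eq_bot_of_commutator_commutator_eq_bot h4 (hY.coprime h.pt.zpowers_le)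
      (commutator_eq_bot_iff_le_centralizer.2 ?_)))).trans (hY.le' h.pt)
  exact (le_oddF (h.commutator_le_F hY h1 h3)
    (isPiSubgroup_of_le h0 (commutator_le_left_of_le_normalizer h4))).trans h.cent

theorem le_θ_two (hb : ⁅zc (pCoreOf 2 M), zpowers e⁆ = ⊥) {Y : Subgroup X} (hY : S.IsTh Y)
    (h0 : IsPGroup 2 Y) (h1 : Y ≤ M) (h3 : Y ≤ centralizer (pCoreOf 2 M : Set X)) :
    Y ≤ centralizer (zpowers e : Set X) := by
  have h4 := hY.norm' h.pt.zpowers_le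
  have h5 := commutator_le_left_of_le_normalizer h4
  refine commutator_eq_bot_iff_le_centralizer.1
    (commutator_eq_bot_of_commutator_commutator_eq_bot h4 (hY.coprime h.pt.zpowers_le)
      (eq_bot_iff.2 (le_trans (commutator_mono ?_ le_rfl) hb.le)))
  exact le_inf (le_pCoreOf_of_le_fittingOf (h.commutator_le_F hY h1 h3) (h0.to_le h5))
    (h5.trans h3)

variable {p : ℕ} [hp : Fact p.Prime]

theorem i2 {Θ V : Subgroup X} (hΘ : S.Valid Θ) (h1 : Θ ≤ S.θ e) (hp2 : p ≠ 2) (hV : S.IsTh V)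
    (hVp : IsPGroup p V) (hab : V ≤ centralizer (V : Set X))
    (hP : S.P2 e ≤ normalizer (V : Set X)) (hn : Θ ≤ normalizer (V : Set X)) :
    V ≤ S.θ e ∧ V ≤ centralizer (S.P2 e : Set X) := by
  have k1 := hΘ p hp.out hp2 _ (h.pt.isTh_P2.commutator_commutator_le_W hp2.symm h.pt.isPGroup_P2
    h.pt (le_normalizer_big _) hV hVp hab hP) (le_normalizer_commutator hV.norm h.pt.isTh_U.norm)
    (le_normalizer_commutator hn (h1.trans h.pt.le_normalizer_U))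
  have k2 := h.ctrl.le_of_centralizer hV (commutator_eq_bot_iff_le_centralizer.1 k1)
  have k3 := h.le_θ hV (isPi_of_ne_two hp2 hVp) k2 (le_centralizer_of_primes hp2 hVp
    (pCoreOf_isPGroup M) le_rfl le_rfl (h.O_le.trans hP) (k2.trans (le_normalizer_pCoreOf M)))
  exact ⟨k3, le_centralizer_of_primes hp2 hVp h.pt.isPGroup_P2 le_rfl le_rfl hP
    (k3.trans (le_normalizer_big _))⟩

theorem i3 {Θ N : Subgroup X} (hΘ : S.Valid Θ) (h1 : Θ ≤ S.θ e) (hp2 : p ≠ 2) (hN : S.IsTh N)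
    (hP : S.P2 e ≤ N) (hn : Θ ≤ N) :
    zc (pCoreOf p N) ≤ S.θ e ∧ zc (pCoreOf p N) ≤ centralizer (S.P2 e : Set X) :=
  h.i2 hΘ h1 hp2 (hN.pCoreOf p).zc (pCoreOf_isPGroup N).to_inf_left (zc_comm _)
    (le_normalizer_zc (hP.trans (le_normalizer_pCoreOf N)))
    (le_normalizer_zc (hn.trans (le_normalizer_pCoreOf N)))

theorem eq_bot_of_char {Θ N : Subgroup X} (hΘ : S.Valid Θ) (h1 : Θ ≤ S.θ e) (hp2 : p ≠ 2)
    (hN : S.IsTh N) (hP : S.P2 e ≤ N) (hn : Θ ≤ N) (h0 : oddF M = ⊥) : pCoreOf p N = ⊥ := by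
  by_contra k
  have k1 := h.i3 hΘ h1 hp2 hN hP hn
  exact zc_ne_bot (pCoreOf_isPGroup N) k ((IsPGroup.disjoint_of_ne p 2 hp2 _ _
    (pCoreOf_isPGroup N).to_inf_left (pCoreOf_isPGroup M)).eq_bot_of_le
      ((le_inf (k1.1.trans h.θ_le) (k1.2.trans (centralizer_le h.O_le))).trans
        (h.max.1.charIn_two h0)))

omit hp in
theorem star (hS : S.Ctx) {N : Subgroup X} (hN : S.Max N) (h0 : oddF M ≠ ⊥) (hP : S.P2 e ≤ N)
    (ha : Arr M N) (hne : M ≠ N) : ∃ u, u.Prime ∧ u ≠ 2 ∧ zc (pCoreOf u N) ≠ ⊥ ∧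
      zc (pCoreOf u N) ⊓ M = ⊥ ∧ zc (pCoreOf u N) ≤ S.W u := by
  obtain ⟨p, hp, hp2, k1⟩ := exists_of_oddF_ne_bot h0
  have := Fact.mk hp
  by_contra k
  refine hne (hS.eq_of_primes h.max hN hp2 k1 h.O_ne (fun _ _ => ha.zc_le) fun u hu k2 => ?_)
  by_contra k3
  have k4 : u ≠ 2 := fun k4 => h.O_ne (k4 ▸ k2)
  have k5 : zc (pCoreOf u N) ⊓ M = ⊥ :=
    eq_bot_iff.2 ((inf_le_inf_right _ inf_le_left).trans (ha.inf_eq_bot h.max.1 k2).le)
  refine k ⟨u, hu.out, k4, zc_ne_bot (pCoreOf_isPGroup N) k3, k5, ?_⟩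
  have hV := (hN.1.pCoreOf u).zc
  have hVp := (pCoreOf_isPGroup (p := u) N).to_inf_left (K := centralizer (pCoreOf u N : Set X))
  have k6 := le_normalizer_zc (hP.trans (le_normalizer_pCoreOf (p := u) N))
  have k7 := commutator_le_left_of_le_normalizer (h.pt.isTh_P2.norm' h.pt.zpowers_le)
  rw [← commutator_sup_centralizer (k7.trans k6) (coprime_card_of_isPGroup
    (coprime_card_of_isPGroup_of_ne k4.symm (h.pt.isPGroup_P2.to_le k7)) hVp) (Or.inr hV.solv)]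
  refine sup_le (h.pt.isTh_P2.commutator_commutator_le_W k4.symm h.pt.isPGroup_P2
    h.pt (le_normalizer_big _) hV hVp (zc_comm _) k6) (le_trans (le_inf inf_le_left ?_)
      (k5.le.trans bot_le))
  exact h.ctrl.le_of_centralizer (hV.inf_centralizer h.pt.isTh_U.norm) inf_le_right

omit hp in
theorem eq (hS : S.Ctx) {Θ N : Subgroup X} (hΘ : S.Valid Θ) (hN : S.Max N) (h0 : oddF M ≠ ⊥)
    (hP : S.P2 e ≤ N) (hn : Θ ≤ N) (ha : Arr M N) : M = N := by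
  by_contra k
  obtain ⟨u, hu, k1, k2, -, k3⟩ := h.star hS hN h0 hP ha k
  exact k2 (hΘ u hu k1 _ k3 (hN.1.pCoreOf u).zc.norm
    (le_normalizer_zc (hn.trans (le_normalizer_pCoreOf N))))

omit hp in
theorem ctrl_of_F (hS : S.Ctx) {Θ Y : Subgroup X} (hΘ : S.Valid Θ) (h0 : oddF M ≠ ⊥)
    (hY : S.IsTh Y) (hY0 : Y ≠ ⊥) (hP : S.P2 e ≤ normalizer (Y : Set X))
    (hT : oddF M ≤ normalizer (Y : Set X)) (h1 : S.IsTh Θ) (hn : Θ ≤ normalizer (Y : Set X)) :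
    S.Ctrl M Y := by
  obtain ⟨N, hN, k⟩ := hS.exists_ctrl hY hY0
  have k1 := k _ h.pt.isTh_P2 hP
  rwa [h.eq hS hΘ hN h0 k1 (k _ h1 hn) (arr_of_le (h.F_le k1 (k _ h.max.1.oddF hT)))]

theorem ctrl_of_le (hS : S.Ctx) {Θ Y : Subgroup X} (hΘ : S.Valid Θ) (hp2 : p ≠ 2)
    (hY : S.IsTh Y) (hY0 : Y ≠ ⊥) (hle : Y ≤ pCoreOf p M) (h1 : S.IsTh Θ)
    (hn : Θ ≤ normalizer (Y : Set X)) : S.Ctrl M Y := by
  obtain ⟨N, hN, k⟩ := hS.exists_ctrl hY hY0
  have k1 := hle.trans (pCoreOf_le_oddF hp2 M)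
  rwa [h.eq hS hΘ hN (ne_bot_of_le_ne_bot hY0 k1) (k.le_of_centralizer h.pt.isTh_P2
    (le_centralizer_iff.1 (k1.trans h.T_cent))) (k _ h1 hn) (k.arr h.max.1 hN.1 hY hle)]

omit hp in
theorem oddF_le_θ (hS : S.Ctx) {Θ N : Subgroup X} {c : X} (hc : S.PD c N) (hΘ : S.Valid Θ)
    (h1 : S.IsTh Θ) (h3 : Θ ≤ S.θ e) (h4 : Θ ≤ S.θ c) (hP : S.P2 c ≤ M) (h0 : oddF N ≠ ⊥)
    (h5 : ⁅S.P2 c, zpowers e⁆ ≠ ⊥) : oddF M ≤ S.θ c := by
  have k1 : M ≤ normalizer ((⁅M, zpowers e⁆ : Subgroup X) : Set X) :=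
    normalizer_commutator_ge_left _ _
  have k2 := hc.ctrl_of_F hS hΘ h0 (hc.pt.isTh_P2.inf (h.max.1.commutator h.pt.zpowers_le).norm)
    (ne_bot_of_le_ne_bot h5 (le_inf (commutator_le_left_of_le_normalizer
      (hc.pt.isTh_P2.norm' h.pt.zpowers_le)) (commutator_mono hP le_rfl)))
    (le_normalizer_inf le_normalizer (hP.trans k1))
    ((hc.T_cent.trans (centralizer_le inf_le_left)).trans (centralizer_le_normalizer _)) h1
    (le_normalizer_inf (h4.trans (le_normalizer_big _)) ((h3.trans h.θ_le).trans k1))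
  have k3 := k2.le_of_centralizer h.max.1.oddF
    (le_centralizer_iff.1 (inf_le_right.trans h.H_cent))
  exact hc.le_θ h.max.1.oddF (oddF_isPi M) k3 (le_centralizer_of_two (oddF_isPi M)
    (pCoreOf_isPGroup N) le_rfl le_rfl ((hc.O_le.trans hP).trans (le_normalizer_oddF M))
    (k3.trans (le_normalizer_pCoreOf N)))

omit hp in
theorem commutator_eq_bot (hS : S.Ctx) {Θ N : Subgroup X} {c : X} (hc : S.PD c N)
    (hΘ : S.Valid Θ) (h1 : S.IsTh Θ) (h3 : Θ ≤ S.θ e) (h4 : Θ ≤ S.θ c) (hP : S.P2 c ≤ M)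
    (hP' : S.P2 e ≤ N) (h0 : oddF N ≠ ⊥) (h0' : oddF M ≠ ⊥) (hne : M ≠ N) :
    ⁅S.P2 c, zpowers e⁆ = ⊥ := by
  by_contra k
  exact hne (h.eq hS hΘ hc.max h0' hP' (h4.trans hc.θ_le) (arr_of_le (h.F_le hP'
    ((h.oddF_le_θ hS hc hΘ h1 h3 h4 hP h0 k).trans hc.θ_le))))

end PD

end SF

end CfsgLib.Sig
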