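import Cfsg.Agent.Lib.Sig.F2

/-!
# The signalizer functor theorem in rank three: some `W t`, `t` odd, is nontrivial
-/

set_option autoImplicit false

namespace CfsgLib.Sig

open Subgroup Cfsg CfsgLib.Cop CfsgLib.H1
open scoped commutatorElement

variable {X : Type*} [Group X]

theorem le_normalizer_conjClosure_left {V L P : Subgroup X} (h1 : P ≤ normalizer (V : Set X))
    (h2 : L ≤ normalizer (P : Set X)) : P ≤ normalizer (conjClosure V L : Set X) := by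
  have : conjClosure V L = ⨆ g, ⨆ _ : g ∈ L, V.map (MulAut.conj g).toMonoidHom :=
    le_antisymm (conjClosure_le_iff.2 fun g hg => le_iSup₂_of_le g hg le_rfl)
      (iSup₂_le fun _ hg => map_conj_le_conjClosure V hg)
  rw [this]
  exact le_normalizer_iSup₂ fun g hg =>
    (map_conj_eq_of_mem_normalizer (h2 hg)).ge.trans (map_normalizer_le' h1 _)

theorem le_normalizer_conjClosure_right {V L P : Subgroup X} (h1 : P ≤ normalizer (V : Set X))
    (h2 : P ≤ normalizer (L : Set X)) : P ≤ normalizer (conjClosure V L : Set X) :=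
  fun _ hg => mem_normalizer_of_map_conj_eq (by
    rw [map_conjClosure, map_conj_eq_of_mem_normalizer (h1 hg),
      map_conj_eq_of_mem_normalizer (h2 hg)])

namespace SF

/-- `M` controls all the nontrivial `θ(A) A`-invariant subgroups of the `W p` -/
def Star (S : SF X) (M : Subgroup X) : Prop :=
  S.Max M ∧ ∀ p, p.Prime → ∀ Y ≤ S.W p, Y ≠ ⊥ → S.A ≤ normalizer (Y : Set X) →
    S.th S.A ≤ normalizer (Y : Set X) → S.Ctrl M Y

variable {S : SF X} [Finite X]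

theorem W_le_big {q : ℕ} [Fact q.Prime] : S.W q ≤ S.big q (S.th S.A) :=
  isTh_W.le_big isPGroup_W thA_le_normalizer_W

theorem Ctx.exists_star (hS : S.Ctx) (hr2 : S.r ≠ 2) : ∃ M, S.Star M := by
  have key : ∀ (q : ℕ) [Fact q.Prime] (M : Subgroup X), S.Max M → S.Ctrl M (zc (S.W q)) →
      ∀ Y ≤ S.W q, Y ≠ ⊥ → S.A ≤ normalizer (Y : Set X) → S.th S.A ≤ normalizer (Y : Set X) →
        S.Ctrl M Y := fun q _ M hM h Y hY h0 h1 h2 => by
    have h5 := ZW_ne_bot (ne_bot_of_le_ne_bot h0 hY)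
    by_cases hc : CharIn q M
    · refine hS.ctrl_of_le_W (hS.cu hr2 fun L hL k1 _ => ?_) hM h hY h0 h1 h2
      refine (hL.1.charIn_or q).resolve_right fun ⟨s, hs, k2, k3⟩ => ?_
      have := Fact.mk hs
      exact hS.not_charIn hL hM h (inf_le_left.trans
        ((le_inf le_rfl (W_le_big.trans k1)).trans hL.1.W_inf_le)) h5 k3 k2 hc
    obtain ⟨N, hN, h3⟩ := hS.exists_ctrl (isTh_W.of_le hY h1) h0
    have h4 := h3.le_of_centralizer isTh_ZW (inf_le_right.trans (centralizer_le hY))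
    rcases hS.eq_or_charIn hM hN h ((le_inf inf_le_left h4).trans hN.1.W_inf_le) h5 h3
      (hY.trans (h.W_le hM.1 q)) h0 with rfl | h5
    · exact h3
    · exact absurd h5.1 hc
  by_cases h : ∃ q, q.Prime ∧ S.W q ≠ ⊥
  · obtain ⟨q, hq, h1⟩ := h
    have := Fact.mk hq
    obtain ⟨M, hM, h2⟩ := hS.exists_ctrl isTh_ZW (ZW_ne_bot h1)
    refine ⟨M, hM, fun p hp Y hY h0 => ?_⟩
    have := Fact.mk hp
    refine key p M hM ?_ Y hY h0
    by_cases hqp : q = p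
    · exact hqp ▸ h2
    · have k := ne_bot_of_le_ne_bot h0 hY
      obtain ⟨N, hN, h5⟩ := hS.exists_ctrl isTh_ZW (ZW_ne_bot k)
      rwa [hS.eq_of_ctrl_W hqp hM h2 hN h5 h1 k]
  · push Not at h
    obtain ⟨M, hM, -⟩ := S.isTh_bot.exists_max
    exact ⟨M, hM, fun p hp Y hY h0 => absurd (eq_bot_iff.2 (hY.trans (h p hp).le)) h0⟩

theorem Star.eq_bot {M₀ H Y : Subgroup X} (h : S.Star M₀) (hH : S.IsTh H) (h1 : S.th S.A ≤ H)
    (h3 : ¬ H ≤ M₀) {p : ℕ} (hp : p.Prime) (hY : Y ≤ S.W p) (h4 : S.A ≤ normalizer (Y : Set X))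
    (h5 : H ≤ normalizer (Y : Set X)) : Y = ⊥ := by
  by_contra k
  exact h3 (h.2 p hp Y hY k h4 (h1.trans h5) H hH h5)

variable [h2 : Fact (Nat.Prime 2)]

theorem Star.exists_pd {M₀ : Subgroup X} (h : S.Star M₀) (hS : S.Ctx) {e : X} (he : S.Pt e)
    (hb : ¬ S.θ e ≤ M₀) : ∃ M, S.PD e M :=
  hS.exists_pd he fun _ hp _ _ => h.eq_bot he.isTh he.thA_le hb hp

theorem Star.commutator_zc {M₀ M : Subgroup X} (h : S.Star M₀) {e : X} (he : S.PD e M)
    (hb : ¬ S.θ e ≤ M₀) : ⁅zc (pCoreOf 2 M), zpowers e⁆ = ⊥ := by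
  have h1 := (he.max.1.pCoreOf 2).zc
  have h3 := le_normalizer_zc (he.θ_le.trans (le_normalizer_pCoreOf (p := 2) M))
  exact h.eq_bot he.pt.isTh he.pt.thA_le hb h2.out (h1.commutator_le_W_of_comm
    (pCoreOf_isPGroup M).to_inf_left he.pt h3 (zc_comm _)) (h1.commutator he.pt.zpowers_le).norm
    (le_normalizer_commutator h3 he.pt.le_normalizer_zpowers)

theorem PD.le_of_zc {b : X} {M Θ P V : Subgroup X} (hb : S.PD b M) (hS : S.Ctx) (hΘ : S.Valid Θ)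
    (h1 : S.IsTh Θ) (h3 : Θ ≤ S.θ b) (h0 : oddF M ≠ ⊥) (hP : S.IsTh P) (hP2 : IsPGroup 2 P)
    (h4 : S.P2 b ≤ P) (h5 : P ≤ M) (h6 : Θ ≤ normalizer (P : Set X)) (hV : S.IsTh V)
    (h7 : V ≤ centralizer (zc P : Set X)) : V ≤ M := by
  have k1 := commutator_le_left_of_le_normalizer (hP.norm' hb.pt.zpowers_le)
  exact (hb.ctrl_of_F hS hΘ h0 (Y := zc P ⊓ centralizer (oddF M : Set X))
    (hP.zc.inf_centralizer hb.max.1.oddF.norm) (ne_bot_of_le_ne_bot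
      (inf_centralizer_ne_bot_of_isNilpotent hP2.isNilpotent k1 (normalizer_commutator_ge_left _ _)
        (ne_bot_of_le_ne_bot hb.U_ne (commutator_mono h4 le_rfl)))
      (le_inf (inf_le_inf_right _ k1) (inf_le_left.trans
        ((commutator_mono h5 le_rfl).trans hb.H_cent))))
    (le_normalizer_inf_centralizer (le_normalizer_zc (h4.trans le_normalizer))
      (hb.P_le.trans (le_normalizer_oddF M)))
    ((le_centralizer_iff.1 inf_le_right).trans (centralizer_le_normalizer _)) h1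
    (le_normalizer_inf_centralizer (le_normalizer_zc h6)
      ((h3.trans hb.θ_le).trans (le_normalizer_oddF M)))).le_of_centralizer hV
    (h7.trans (centralizer_le inf_le_left))

theorem Ctx.pair [Fact (S.k = 3)] (hS : S.Ctx) {D M N : Subgroup X} (hD : S.Hyp D)
    (hΘ : S.Valid (S.th D)) {b c : X} (hb : S.PD b M) (hc : S.PD c N) (h1 : b ∈ D) (h3 : c ∈ D)
    (h4 : c ∉ zpowers b) (hb2 : ⁅zc (pCoreOf 2 M), zpowers b⁆ = ⊥)
    (hc2 : ⁅zc (pCoreOf 2 N), zpowers c⁆ = ⊥) (hM : oddF M ≠ ⊥) (hN : oddF N ≠ ⊥)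
    (h5 : S.P2 b ≤ N) (h6 : S.P2 c ≤ M) : M = N := by
  by_contra hne
  have kA : S.th S.A ≤ S.th D := th_anti hD.1
  have kb := th_le hb.pt h1
  have kc := th_le hc.pt h3
  set P := S.big 2 (S.th D)
  have hP : S.IsTh P := isTh_big kA
  have hP2 : IsPGroup 2 P := isPGroup_big kA
  set R := P ⊓ (M ⊓ N)
  have hR : S.IsTh R := hP.inf (hb.max.1.inf hc.max.1.norm).norm
  have kMN : S.th D ≤ M ⊓ N := le_inf (kb.trans hb.θ_le) (kc.trans hc.θ_le)
  have kR : S.th D ≤ normalizer (R : Set X) :=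
    le_normalizer_inf (le_normalizer_big _) (kMN.trans le_normalizer)
  have k1 : S.P2 b ≤ R := le_inf (big_anti kb) (le_inf hb.P_le h5)
  have k2 : S.P2 c ≤ R := le_inf (big_anti kc) (le_inf h6 hc.P_le)
  have kM : R ≤ M := inf_le_right.trans inf_le_left
  have kN : R ≤ N := inf_le_right.trans inf_le_right
  have k3 : zc R ≤ centralizer (D : Set X) := hD.le_centralizer hb.pt hc.pt h1 h3 h4
    (hb.le_θ_two hb2 hR.zc hP2.to_inf_left.to_inf_left (inf_le_left.trans kM)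
      (inf_le_right.trans (centralizer_le (hb.O_le.trans k1))))
    (hc.le_θ_two hc2 hR.zc hP2.to_inf_left.to_inf_left (inf_le_left.trans kN)
      (inf_le_right.trans (centralizer_le (hc.O_le.trans k2))))
  have k4 : P ≤ M ⊓ N := by
    by_contra k
    refine (lt_inf_normalizer_of_isNilpotent hP2.isNilpotent
      (lt_of_le_of_ne inf_le_left fun k' => k (inf_eq_left.1 k') : R < P)).not_ge
      (le_inf inf_le_left ?_)
    have k5 := hP.inf_normalizer hR.norm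
    have k6 := commutator_le_centralizer_right (le_centralizer_iff.1 k3)
      (le_normalizer_zc (inf_le_right : P ⊓ normalizer (R : Set X) ≤ _))
    rw [← k5.commutator_sup hD.1]
    exact sup_le (le_inf
      (hb.le_of_zc hS hΘ hD.isTh kb hM hR hP2.to_inf_left k1 kM kR (k5.commutator hD.1) k6)
      (hc.le_of_zc hS hΘ hD.isTh kc hN hR hP2.to_inf_left k2 kN kR (k5.commutator hD.1) k6))
      ((k5.le_th hD.1).trans kMN)
  have heD := D.mul_mem h1 h3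
  have k7 : b * c ∉ zpowers b := fun k => h4 ((mul_mem_cancel_left (mem_zpowers b)).1 k)
  have k8 : b * c ∉ zpowers c := fun k => h4 (hc.pt.mem_of_mem_zpowers
    ((mul_mem_cancel_right (mem_zpowers c)).1 k) hb.pt.2 (mem_zpowers b))
  have he := hD.pt heD fun k => k7 (k ▸ one_mem _)
  have ke := th_le he heD
  obtain ⟨L, hL⟩ := hS.exists_pd he (hΘ.mono ke)
  have k9 : S.P2 (b * c) ≤ M ⊓ N := (big_anti ke).trans k4
  have k10 : oddF L ≠ ⊥ := fun k => hM (eq_bot_iff.2 (oddF_le_of_forall fun p _ hp =>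
    (hL.eq_bot_of_char hΘ ke hp hb.max.1 (k9.trans inf_le_left) (kMN.trans inf_le_left) k).le))
  have key : ∀ {x y : X} {M N : Subgroup X}, S.PD x M → S.PD y N → x ∈ D → y ∈ D →
      b * c ∉ zpowers x → oddF M ≠ ⊥ → S.P2 x ≤ N → S.P2 (b * c) ≤ M → M ≠ N →
      S.P2 (b * c) ≤ centralizer (zpowers x : Set X) := by
    intro x y M N hx hy l1 l2 l3 l4 l5 l6 l7
    by_contra k
    have l8 := hx.oddF_le_θ hS hL hΘ hD.isTh (th_le hx.pt l1) ke l6 k10
      fun k' => k (commutator_eq_bot_iff_le_centralizer.1 k')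
    have l9 := (th_le hy.pt l2).trans hy.θ_le
    exact l7 (hx.eq hS hΘ hy.max l4 l5 l9 (arr_of_le (hx.F_le l5 (((le_inf le_rfl
      (hD.le_centralizer hx.pt he l1 heD l3 hx.cent (l8.trans he.le_cent'))).trans
        (hx.max.1.oddF.le_th hD.1)).trans l9))))
  exact hL.U_ne (commutator_eq_bot_iff_le_centralizer.2 ((hD.le_centralizer hb.pt hc.pt h1 h3 h4
    (key hb hc h1 h3 k7 hM h5 (k9.trans inf_le_left) hne)
    (key hc hb h3 h1 k8 hN h6 (k9.trans inf_le_right) (Ne.symm hne))).trans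
      (centralizer_le (zpowers_le_of_mem heD))))

/-- nice pairs -/
structure Nice (S : SF X) (M : Subgroup X) (u : ℕ) (E : Subgroup X) : Prop where
  odd : u ≠ 2
  hyp : S.Hyp E
  ne : zc (pCoreOf u M) ≠ ⊥
  le : zc (pCoreOf u M) ≤ S.W u
  cent : zc (pCoreOf u M) ≤ centralizer (E : Set X)
  fix : zc (pCoreOf u M) ⊓ centralizer (S.A : Set X) = ⊥

omit h2 in
theorem Star.ctrl_inf {M₀ M : Subgroup X} (h : S.Star M₀) (hM : S.IsTh M) (h1 : S.th S.A ≤ M)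
    {t : ℕ} (ht : t.Prime) (h0 : S.W t ⊓ M ≠ ⊥) : S.Ctrl M₀ (S.W t ⊓ M) :=
  h.2 t ht _ inf_le_left h0 (le_normalizer_inf A_le_normalizer_W hM.norm)
    (le_normalizer_inf thA_le_normalizer_W (h1.trans le_normalizer))

theorem Star.step [Fact (S.k = 3)] {M₀ M : Subgroup X} (h : S.Star M₀) (hS : S.Ctx) {f : X}
    (hf : S.PD f M) (hb : ¬ S.θ f ≤ M₀) {t : ℕ} [ht : Fact t.Prime] (ht2 : t ≠ 2)
    (h0 : S.W t ⊓ M ≠ ⊥) : ∃ u, u.Prime ∧ ∃ E, S.Nice M₀ u E ∧ f ∉ E := by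
  have key : ∀ {g : X} {N : Subgroup X} {s : ℕ} [Fact s.Prime], S.PD g N → S.W s ⊓ N ≠ ⊥ →
      Arr N M₀ := fun hg k => (h.ctrl_inf hg.max.1 hg.thA_le Fact.out k).arr hg.max.1 h.1.1
        (isTh_W.inf hg.max.1.norm) hg.max.1.W_inf_le
  have k1 := (hf.max.1.W_inf_le (q := t)).trans (pCoreOf_le_oddF ht2 M)
  obtain ⟨u, hu, hu2, k2, k3, k4⟩ := hf.star hS h.1 (ne_bot_of_le_ne_bot h0 k1)
    ((h.ctrl_inf hf.max.1 hf.thA_le ht.out h0).le_of_centralizer hf.pt.isTh_P2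
      (le_centralizer_iff.1 (k1.trans hf.T_cent))) (key hf h0) fun k => hb (k ▸ hf.θ_le)
  have := Fact.mk hu
  have hV := (h.1.1.pCoreOf u).zc
  obtain ⟨E, hE, k5⟩ := hV.exists_hyp k2
  have k6 : ∀ g, S.Pt g → g ∈ E → zc (pCoreOf u M₀) ⊓ centralizer (E : Set X) ≤ S.θ g :=
    fun g hg l => (hV.le_th hE.1).trans (th_le hg l)
  have k7 : ∀ g, S.Pt g → g ∈ E → ¬ S.θ g ≤ M₀ →
      zc (pCoreOf u M₀) ≤ centralizer (zpowers g : Set X) := by
    intro g hg l1 l2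
    obtain ⟨N, hN⟩ := h.exists_pd hS hg l2
    have l3 := ne_bot_of_le_ne_bot k5
      (le_inf (inf_le_left.trans k4) ((k6 g hg l1).trans hN.θ_le))
    have l4 := key hN l3
    exact ((le_inf k4 (inf_le_left.trans (hS.pCoreOf_le hN.max h.1.1 hu2 (ne_bot_of_le_ne_bot l3
      hN.max.1.W_inf_le) hN.O_ne l4.zc_le l4.zc_le))).trans hN.max.1.W_inf_le).trans
        ((pCoreOf_le_oddF hu2 N).trans hN.cent)
  obtain ⟨b, c, hb', hc', l1, l2, l3, l4, l5⟩ := hS.exists_two h.1.1 hE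
  exact ⟨u, hu, E, ⟨hu2, hE, k2, k4, hE.le_centralizer hb' hc' l1 l2 l3 (k7 b hb' l1 l4)
    (k7 c hc' l2 l5), eq_bot_iff.2 ((le_inf inf_le_left ((hV.le_th le_rfl).trans hf.thA_le)).trans
      k3.le)⟩, fun l => k5 (eq_bot_iff.2
        ((le_inf inf_le_left ((k6 f hf.pt l).trans hf.θ_le)).trans k3.le))⟩

theorem Nice.le_pCoreOf {M₀ M E : Subgroup X} {u : ℕ} [Fact u.Prime] (h : S.Nice M₀ u E)
    (hM₀ : S.IsTh M₀) {f : X} (hf : S.PD f M) (h1 : f ∈ E) : zc (pCoreOf u M₀) ≤ pCoreOf u M :=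
  (le_inf h.le ((((le_inf le_rfl h.cent).trans ((hM₀.pCoreOf u).zc.le_th h.hyp.1)).trans
    (th_le hf.pt h1)).trans hf.θ_le)).trans hf.max.1.W_inf_le

theorem Ctx.W_eq_bot [Fact (S.k = 3)] (hS : S.Ctx) (hr2 : S.r ≠ 2) {t : ℕ} [Fact t.Prime]
    (ht2 : t ≠ 2) : S.W t = ⊥ := by
  by_contra h0
  obtain ⟨M₀, h⟩ := hS.exists_star hr2
  have k1 : ∀ {s : ℕ} [Fact s.Prime] {E : Subgroup X}, s ≠ 2 → S.Hyp E →
      S.W s ⊓ centralizer (E : Set X) ≠ ⊥ → ∃ u, u.Prime ∧ ∃ E', S.Nice M₀ u E' ∧ E ≠ E' := by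
    intro s _ E l1 hE l2
    obtain ⟨f, -, hf, -, l3, -, -, l4, -⟩ := hS.exists_two h.1.1 hE
    obtain ⟨M, hM⟩ := h.exists_pd hS hf l4
    obtain ⟨u, hu, E', l5, l6⟩ := h.step hS hM l4 l1 (ne_bot_of_le_ne_bot l2 (le_inf inf_le_left
      (((isTh_W.le_th hE.1).trans (th_le hf l3)).trans hM.θ_le)))
    exact ⟨u, hu, E', l5, fun l => l6 (l ▸ l3)⟩
  obtain ⟨E₀, hE₀, k2⟩ := isTh_W.exists_hyp h0
  obtain ⟨u, hu, E, hE, -⟩ := k1 ht2 hE₀ k2
  have := Fact.mk hu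
  obtain ⟨u', hu', E', hE', k3⟩ := k1 hE.odd hE.hyp (ne_bot_of_le_ne_bot hE.ne (le_inf hE.le hE.cent))
  have := Fact.mk hu'
  obtain ⟨x, hx, hxE, hxE'⟩ := hE.hyp.exists_pt hE'.hyp
  refine hS.nc (complete_of_lines hx h.1.1 fun D hD hxD => ?_)
  by_contra k4
  have kA : S.th S.A ≤ S.th D := th_anti hD.1
  have hΘ : S.Valid (S.th D) := fun p hp _ Y => h.eq_bot hD.isTh kA k4 hp
  obtain ⟨f, hf, hfD, hfE⟩ := hD.exists_pt hE.hyp
  obtain ⟨f', hf', hfD', hfE'⟩ := hD.exists_pt hE'.hyp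
  have k5 : ∀ {g}, S.Pt g → g ∈ D → g ∈ E → g ∈ E' → False := fun hg l1 l2 l3 => by
    have l4 := fun l => hxD (zpowers_le_of_mem l1 l)
    exact k3 ((hE.hyp.eq_sup hg hx l2 hxE l4).symm.trans (hE'.hyp.eq_sup hg hx l3 hxE' l4))
  have k6 : ∀ {g}, S.Pt g → g ∈ D → ¬ S.θ g ≤ M₀ := fun hg l1 l2 => k4 ((th_le hg l1).trans l2)
  obtain ⟨M, hM⟩ := h.exists_pd hS hf (k6 hf hfD)
  obtain ⟨M', hM'⟩ := h.exists_pd hS hf' (k6 hf' hfD')
  have k7 := hE.le_pCoreOf h.1.1 hM hfE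
  have k7' := hE'.le_pCoreOf h.1.1 hM' hfE'
  have key : ∀ {v v' : ℕ} [Fact v.Prime] [Fact v'.Prime] {g g' : X} {N N' : Subgroup X}, v ≠ 2 →
      v' ≠ 2 → S.PD g N → S.PD g' N' → g ∈ D → g' ∈ D → zc (pCoreOf v M₀) ≠ ⊥ →
      zc (pCoreOf v' M₀) ≠ ⊥ → zc (pCoreOf v M₀) ≤ pCoreOf v N →
      zc (pCoreOf v' M₀) ≤ pCoreOf v' N' → S.P2 g' ≤ N := by
    intro v v' _ _ g g' N N' l1 l2 hN hN' l3 l4 l5 l6 l7 l8
    have l9 := (hS.ctrl_center h.1 (ne_bot_of_le_ne_bot l6 inf_le_left)).le_of_centralizer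
      hN'.pt.isTh_P2 (le_centralizer_iff.1 ((l8.trans (pCoreOf_le_oddF l2 _)).trans hN'.T_cent))
    have l10 := conjClosure_le l7
      (((th_le hN.pt l3).trans hN.θ_le).trans (le_normalizer_pCoreOf N))
    exact hN.ctrl_of_le hS hΘ l1 ((hN.max.1.pCoreOf v).of_le l10
      (le_normalizer_conjClosure_right (h.1.1.pCoreOf v).zc.norm hD.isTh.norm))
      (ne_bot_of_le_ne_bot l5 (le_conjClosure _ _)) l10 hD.isTh (le_normalizer_conjClosure _ _) _
      hN'.pt.isTh_P2 (le_normalizer_conjClosure_left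
        (le_normalizer_zc (l9.trans (le_normalizer_pCoreOf M₀)))
        ((th_le hN'.pt l4).trans (le_normalizer_big _)))
  have k8 : f' ∉ E := fun l => k5 hf' hfD' l hfE'
  obtain rfl := hS.pair hD hΘ hM hM' hfD hfD' (fun l => k8 (zpowers_le_of_mem hfE l))
    (h.commutator_zc hM (k6 hf hfD)) (h.commutator_zc hM' (k6 hf' hfD'))
    (ne_bot_of_le_ne_bot hE.ne (k7.trans (pCoreOf_le_oddF hE.odd _)))
    (ne_bot_of_le_ne_bot hE'.ne (k7'.trans (pCoreOf_le_oddF hE'.odd _)))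
    (key hE'.odd hE.odd hM' hM hfD' hfD hE'.ne hE.ne k7' k7)
    (key hE.odd hE'.odd hM hM' hfD hfD' hE.ne hE'.ne k7 k7')
  exact hE.ne (eq_bot_iff.2 ((le_inf le_rfl (hE.hyp.le_centralizer_A hf' k8 hE.cent
    ((k7.trans (pCoreOf_le_oddF hE.odd _)).trans hM'.cent))).trans hE.fix.le))

end SF

end CfsgLib.Sig
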