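import Cfsg.Agent.Lib.Sig.SigU
import Cfsg.Agent.Lib.H1PrimTwo
import Cfsg.Agent.Lib.FT.Wielandt

/-!
# Small commutators of an element commuting with a coprime automorphism
-/

set_option autoImplicit false
set_option linter.unusedSectionVars false

namespace CfsgLib.Sig

open Subgroup Cfsg CfsgLib.Cop CfsgLib.H1
open scoped commutatorElement

variable {X : Type*} [Group X] [Finite X]

namespace Q1

theorem comm_zpowers_le {P K : Subgroup X} {u : X} (hu : u ∈ normalizer (P : Set X))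
    (h : ∀ x ∈ P, ⁅x, u⁆ ∈ K) : ⁅P, zpowers u⁆ ≤ K := by
  rw [commutator_le]
  intro x hx v hv
  obtain ⟨k, rfl⟩ := (Submonoid.mem_powers_iff _ _).1 (mem_powers_iff_mem_zpowers.2 hv)
  clear hv
  induction k with
  | zero => simp
  | succ k ih =>
    have e : ⁅x, u ^ (k + 1)⁆ = ⁅x, u ^ k⁆ * ⁅u ^ k * x * (u ^ k)⁻¹, u⁆ := by
      simp only [commutatorElement_def]; group
    rw [e]
    exact mul_mem ih (h _ (conj_mem_of_mem_normalizer (pow_mem hu k) hx))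

omit [Finite X] in
theorem comm_of {W : Subgroup X} (hW : W ≤ centralizer (W : Set X)) {a b : X} (ha : a ∈ W)
    (hb : b ∈ W) : a * b = b * a := hW hb a ha

omit [Finite X] in
theorem commElt_mem {W : Subgroup X} {u w : X} (hu : u ∈ normalizer (W : Set X)) (hw : w ∈ W) :
    ⁅w, u⁆ ∈ W := by
  have e : ⁅w, u⁆ = w * (u * w⁻¹ * u⁻¹) := by simp only [commutatorElement_def]; group
  rw [e]; exact mul_mem hw (conj_mem_of_mem_normalizer hu (inv_mem hw))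

/-- The homomorphism `w ↦ ⁅w, u⁆`. -/
def cHom {W : Subgroup X} {u : X} (hW : W ≤ centralizer (W : Set X))
    (hu : u ∈ normalizer (W : Set X)) : W →* X :=
  MonoidHom.mk' (fun w => ⁅(w : X), u⁆) fun a b => by
    have h1 := comm_of hW a.2 (commElt_mem hu b.2)
    have h2 := comm_of hW (commElt_mem hu a.2) (commElt_mem hu b.2)
    have e : ⁅((a * b : W) : X), u⁆ = (a : X) * ⁅(b : X), u⁆ * (a : X)⁻¹ * ⁅(a : X), u⁆ := by
      simp only [commutatorElement_def, coe_mul]; group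
    rw [e, h1, h2]; group

theorem range_cHom {W : Subgroup X} {u : X} (hW : W ≤ centralizer (W : Set X))
    (hu : u ∈ normalizer (W : Set X)) : (cHom hW hu).range = ⁅W, zpowers u⁆ := by
  apply le_antisymm
  · rintro _ ⟨w, rfl⟩
    exact commutator_mem_commutator w.2 (mem_zpowers u)
  · exact comm_zpowers_le hu fun x hx => ⟨⟨x, hx⟩, rfl⟩

theorem mem_comm_zpowers {W : Subgroup X} {u v : X} (hW : W ≤ centralizer (W : Set X))
    (hu : u ∈ normalizer (W : Set X)) (hv : v ∈ ⁅W, zpowers u⁆) : ∃ w ∈ W, ⁅w, u⁆ = v := by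
  rw [← range_cHom hW hu] at hv
  obtain ⟨w, rfl⟩ := hv
  exact ⟨w, w.2, rfl⟩

end Q1

open Q1

/-- For `W` abelian normalized by `u`, the map `w ↦ ⁅w, u⁆` is a homomorphism of `W` onto
`⁅W, ⟨u⟩⁆` with kernel `C_W(u)`. -/
theorem card_commutator_zpowers {W : Subgroup X} {u : X} (hW : W ≤ centralizer (W : Set X))
    (hu : u ∈ normalizer (W : Set X)) :
    Nat.card ↥⁅W, zpowers u⁆ = (centralizer ({u} : Set X)).relIndex W := by
  rw [← range_cHom hW hu, ← index_ker, relIndex]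
  congr 1
  ext w
  rw [MonoidHom.mem_ker, mem_subgroupOf, mem_centralizer_singleton_iff]
  exact commutatorElement_eq_one_iff_mul_comm

namespace Q1

local notation "𝐍(" H ")" => Subgroup.normalizer (H : Set X)
local notation "𝐂(" H ")" => Subgroup.centralizer (H : Set X)
local notation "𝐂[" x "]" => Subgroup.centralizer ({x} : Set X)

theorem card_mul_le {A B M : Subgroup X} (hA : A ≤ M) (hB : B ≤ M) (h : A ⊓ B = ⊥) :
    Nat.card A * Nat.card B ≤ Nat.card M := by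
  have h1 := card_inf_mul_relIndex A B
  rw [h, card_bot, one_mul] at h1
  have h2 := card_mul_relIndex hA
  rw [← h1, ← h2]
  exact Nat.mul_le_mul_left _ (relIndex_le_of_le_right hB (by
    rw [relIndex]; exact index_ne_zero_of_finite))

omit [Finite X] in
theorem ab_mono {W A : Subgroup X} (hW : W ≤ 𝐂(W)) (h : A ≤ W) : A ≤ 𝐂(A) :=
  h.trans (hW.trans (centralizer_le h))

theorem nn_mul {W A B : Subgroup X} {u : X} (hW : W ≤ 𝐂(W)) (hu : u ∈ 𝐍(W)) (hA : A ≤ W)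
    (hB : B ≤ W) (huA : u ∈ 𝐍(A)) (huB : u ∈ 𝐍(B)) (h : A ⊓ B = ⊥) :
    (𝐂[u]).relIndex A * (𝐂[u]).relIndex B ≤ (𝐂[u]).relIndex W := by
  rw [← card_commutator_zpowers hW hu, ← card_commutator_zpowers (ab_mono hW hA) huA,
    ← card_commutator_zpowers (ab_mono hW hB) huB]
  refine card_mul_le (commutator_mono hA le_rfl) (commutator_mono hB le_rfl) ?_
  rw [eq_bot_iff, ← h]
  exact inf_le_inf (commutator_le_left_of_le_normalizer (zpowers_le_of_mem huA))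
    (commutator_le_left_of_le_normalizer (zpowers_le_of_mem huB))

omit [Finite X] in
theorem map_conj_cent (g y : X) :
    (𝐂[y]).map (MulAut.conj g).toMonoidHom = 𝐂[g * y * g⁻¹] := by
  ext v
  simp only [mem_map, mem_centralizer_singleton_iff, MulEquiv.coe_toMonoidHom, MulAut.conj_apply]
  constructor
  · rintro ⟨w, hw, rfl⟩
    calc g * w * g⁻¹ * (g * y * g⁻¹) = g * (w * y) * g⁻¹ := by group
      _ = _ := by rw [hw]; group
  · intro hv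
    refine ⟨g⁻¹ * v * g, ?_, by group⟩
    calc g⁻¹ * v * g * y = g⁻¹ * (v * (g * y * g⁻¹)) * g := by group
      _ = _ := by rw [hv]; group

omit [Finite X] in
theorem map_conj_self {W : Subgroup X} {g : X} (hg : g ∈ 𝐍(W)) :
    W.map (MulAut.conj g).toMonoidHom = W := by
  ext v
  simp only [mem_map, MulEquiv.coe_toMonoidHom, MulAut.conj_apply]
  constructor
  · rintro ⟨w, hw, rfl⟩; exact conj_mem_of_mem_normalizer hg hw
  · intro hv; exact ⟨g⁻¹ * v * g, conj_mem_of_mem_normalizer' hg hv, by group⟩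

omit [Finite X] in
theorem relIndex_conj {W : Subgroup X} {g : X} (hg : g ∈ 𝐍(W)) (y : X) :
    (𝐂[g * y * g⁻¹]).relIndex W = (𝐂[y]).relIndex W := by
  rw [← map_conj_cent, ← relIndex_map_conj (𝐂[y]) W g, map_conj_self hg]

theorem card_inf_conj {W : Subgroup X} {g : X} (hg : g ∈ 𝐍(W)) (y : X) :
    Nat.card ↥(W ⊓ 𝐂[g * y * g⁻¹]) = Nat.card ↥(W ⊓ 𝐂[y]) := by
  have h1 := card_inf_mul_relIndex (𝐂[g * y * g⁻¹]) W
  have h2 := card_inf_mul_relIndex (𝐂[y]) W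
  rw [relIndex_conj hg, ← h2, inf_comm, inf_comm (𝐂[y])] at h1
  exact Nat.eq_of_mul_eq_mul_right (Nat.pos_of_ne_zero (by
    rw [relIndex]; exact index_ne_zero_of_finite)) h1

omit [Finite X] in
theorem relIndex_two {W : Subgroup X} {x : X} (hx : x ∈ 𝐍(W)) (u : X) :
    (𝐂[u] ⊓ 𝐂[x * u * x⁻¹]).relIndex W ≤ (𝐂[u]).relIndex W ^ 2 := by
  refine relIndex_inf_le.trans ?_
  rw [relIndex_conj hx, sq]

omit [Finite X] in
theorem cent_le_comm (x u : X) : 𝐂[u] ⊓ 𝐂[x * u * x⁻¹] ≤ 𝐂[⁅x, u⁆] := by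
  rintro w ⟨h1, h2⟩
  have h1' : Commute w u := mem_centralizer_singleton_iff.1 h1
  have h2' : Commute w (x * u * x⁻¹) := mem_centralizer_singleton_iff.1 h2
  exact mem_centralizer_singleton_iff.2 (h2'.mul_right h1'.inv_right)

omit [Finite X] in
theorem cent_le_comm' (x u : X) : 𝐂[u] ⊓ 𝐂[x * u * x⁻¹] ≤ 𝐂[u * ⁅x, u⁆ * u⁻¹] := by
  intro w hw
  have h1' : Commute w u := mem_centralizer_singleton_iff.1 hw.1
  have h2' : Commute w ⁅x, u⁆ := mem_centralizer_singleton_iff.1 (cent_le_comm x u hw)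
  exact mem_centralizer_singleton_iff.2 ((h1'.mul_right h2').mul_right h1'.inv_right)

theorem mem_norm_zp {y d : X} (h : Commute y d) : y ∈ 𝐍(zpowers d) :=
  centralizer_le_normalizer _ (by
    rw [centralizer_zpowers_eq]; exact mem_centralizer_singleton_iff.2 h)

theorem mem_norm_cent {y d : X} (h : Commute y d) : y ∈ 𝐍(𝐂[d]) := by
  rw [← centralizer_zpowers_eq]
  exact normalizer_le_normalizer_centralizer _ (mem_norm_zp h)

omit [Finite X] in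
theorem mem_norm_inf {A B : Subgroup X} {y : X} (h1 : y ∈ 𝐍(A)) (h2 : y ∈ 𝐍(B)) :
    y ∈ 𝐍((A ⊓ B : Subgroup X)) :=
  le_normalizer_inf (zpowers_le_of_mem h1) (zpowers_le_of_mem h2) (mem_zpowers y)

omit [Finite X] in
theorem mem_norm_comm {A B : Subgroup X} {y : X} (h1 : y ∈ 𝐍(A)) (h2 : y ∈ 𝐍(B)) :
    y ∈ 𝐍((⁅A, B⁆ : Subgroup X)) :=
  le_normalizer_commutator (zpowers_le_of_mem h1) (zpowers_le_of_mem h2) (mem_zpowers y)

omit [Finite X] in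
theorem pg_zp {s : ℕ} {t : X} (ht : t ^ s = 1) : IsPGroup s (zpowers t) :=
  isPGroup_zpowers_of_pow (k := 1) (by rw [pow_one]; exact ht)

theorem cop {s q : ℕ} [Fact s.Prime] [Fact q.Prime] (h : s ≠ q) {A B : Subgroup X}
    (hA : IsPGroup s A) (hB : IsPGroup q B) : (Nat.card A).Coprime (Nat.card B) :=
  IsPGroup.coprime_card_of_ne s q h A B hA hB

/-- An element of prime order `s ∤ q² - 1` centralizes every invariant `q`-group of order at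
most `q²`. -/
theorem cnt {q s : ℕ} [hq : Fact q.Prime] [hs : Fact s.Prime] (hsq : s ≠ q) {U : Subgroup X}
    {t : X} (hU : IsPGroup q U) (hc : Nat.card U ≤ q ^ 2) (ht : t ^ s = 1) (htU : t ∈ 𝐍(U))
    (hd : ¬ s ∣ q ^ 2 - 1) : U ≤ 𝐂[t] := by
  have h1 := card_modEq_card_inf_centralizer_elem (pg_zp ht) htU
  obtain ⟨i, hi⟩ := IsPGroup.iff_card.1 hU
  obtain ⟨j, hj⟩ := IsPGroup.iff_card.1 (hU.to_le (inf_le_left : U ⊓ 𝐂[t] ≤ U))
  have hq1 := hq.out.one_lt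
  have hji : j ≤ i := by
    have := card_le_of_le (inf_le_left : U ⊓ 𝐂[t] ≤ U)
    rw [hi, hj] at this
    exact (Nat.pow_le_pow_iff_right hq1).1 this
  have hi2 : i ≤ 2 := by rw [hi] at hc; exact (Nat.pow_le_pow_iff_right hq1).1 hc
  rcases hji.eq_or_lt with e | hlt
  · have : U ⊓ 𝐂[t] = U := eq_of_le_of_card_ge inf_le_left (by rw [hi, hj, e])
    exact inf_eq_left.1 this
  · exfalso
    rw [hi, hj] at h1
    obtain ⟨k, rfl⟩ := Nat.exists_eq_add_of_le hji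
    have h2 : s ∣ q ^ j * (q ^ k - 1) := by
      have := (Nat.modEq_iff_dvd' (Nat.pow_le_pow_right hq1.le (Nat.le_add_right j k))).1 h1.symm
      rwa [pow_add, ← Nat.mul_sub_one] at this
    rcases (Nat.Prime.dvd_mul hs.out).1 h2 with h3 | h3
    · exact hsq ((Nat.prime_dvd_prime_iff_eq hs.out hq.out).1 (hs.out.dvd_of_dvd_pow h3))
    · apply hd
      have : k = 1 ∨ k = 2 := by omega
      rcases this with rfl | rfl
      · exact h3.trans (by simpa using Nat.sub_dvd_pow_sub_pow q 1 2)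
      · exact h3

/-- An element with square `1` acting fixed-point-freely inverts. -/
theorem inverts {W : Subgroup X} (hW : W ≤ 𝐂(W)) {z w : X} (hz : z ^ 2 = 1) (hzW : z ∈ 𝐍(W))
    (h : W ⊓ 𝐂[z] = ⊥) (hw : w ∈ W) : z * w * z⁻¹ = w⁻¹ := by
  have h1 : z * w * z⁻¹ ∈ W := conj_mem_of_mem_normalizer hzW hw
  have hzz : z * z = 1 := by rw [← sq, hz]
  have hzi : z⁻¹ = z := inv_eq_of_mul_eq_one_right hzz
  have h2 : w * (z * w * z⁻¹) ∈ W ⊓ 𝐂[z] := by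
    refine ⟨mul_mem hw h1, mem_centralizer_singleton_iff.2 ?_⟩
    have h3 := comm_of hW hw h1
    calc w * (z * w * z⁻¹) * z = (z * w * z⁻¹) * w * z := by rw [h3]
      _ = z * (w * (z * w * z⁻¹)) := by
        rw [hzi]; simp only [mul_assoc]
  rw [h, mem_bot] at h2
  exact eq_inv_of_mul_eq_one_right h2


/-- The minimal configuration. -/
structure TB (q p r : ℕ) (W P : Subgroup X) (u a : X) : Prop where
  hq : q = 2 ∨ q = 3
  hpq : p ≠ q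
  hrp : r ≠ p
  hrq : r ≠ q
  hr2 : r ≠ 2
  hW : IsElementaryAbelian q W
  hP : IsPGroup p P
  hPW : P ≤ 𝐍(W)
  hf : P ⊓ 𝐂(W) = ⊥
  hu : u ^ q = 1
  ha : a ^ r = 1
  hua : Commute u a
  huW : u ∈ 𝐍(W)
  huP : u ∈ 𝐍(P)
  haW : a ∈ 𝐍(W)
  haP : a ∈ 𝐍(P)
  hi : (𝐂[u]).relIndex W ≤ q ^ 2
  h0 : W ⊓ 𝐂(P) = ⊥
  hPu : ⁅P, zpowers u⁆ = P
  hPa : ⁅P, zpowers a⁆ = P
  hCu : P ⊓ 𝐂[u] = ⁅P, P⁆
  hCa : P ⊓ 𝐂[a] ≤ 𝐂[u]
  hZ : ⁅P, P⁆ ≤ 𝐂(P)
  hE : ∀ x ∈ ⁅P, P⁆, x ^ p = 1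
  hne : P ≠ ⊥

namespace TB

variable {q p r : ℕ} [Fact q.Prime] [Fact p.Prime] [Fact r.Prime] {W P : Subgroup X} {u a : X}

theorem ab (h : TB q p r W P u a) : W ≤ 𝐂(W) := IsElementaryAbelian.le_centralizer h.hW

theorem pg (h : TB q p r W P u a) {A : Subgroup X} (hA : A ≤ W) : IsPGroup q A :=
  (isPGroup_of_isElementaryAbelian h.hW).to_le hA

theorem mc (h : TB q p r W P u a) {A : Subgroup X} (hA : A ≤ W) : IsMulCommutative A :=
  ⟨⟨fun x y => Subtype.ext (comm_of h.ab (hA x.2) (hA y.2))⟩⟩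

theorem W_ne (h : TB q p r W P u a) : W ≠ ⊥ := by
  intro e
  apply h.hne
  have := h.hf
  rw [e] at this
  rw [← this, eq_comm, inf_eq_left]
  intro x _ y hy
  rw [SetLike.mem_coe, mem_bot] at hy
  rw [hy, one_mul, mul_one]

theorem eq_bot_of (h : TB q p r W P u a) {A : Subgroup X} {t : X} (hA : A ≤ W) (hPA : P ≤ 𝐍(A))
    (ht : ⁅P, zpowers t⁆ = P) (hc : A ≤ 𝐂[t]) : A = ⊥ := by
  rw [eq_bot_iff, ← h.h0]
  refine le_inf hA (le_centralizer_iff.1 ?_)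
  rw [← ht]
  refine (commutator_mono le_rfl (?_ : zpowers t ≤ 𝐂(A))).trans
    (commutator_le_of_le_normalizer (le_normalizer_centralizer hPA))
  rw [← le_centralizer_iff, centralizer_zpowers_eq]; exact hc

theorem n_ge (h : TB q p r W P u a) {A : Subgroup X} (hA : A ≤ W) (hPA : P ≤ 𝐍(A))
    (hne : A ≠ ⊥) : 2 ≤ (𝐂[u]).relIndex A := by
  have h1 : (𝐂[u]).relIndex A ≠ 0 := by rw [relIndex]; exact index_ne_zero_of_finite
  have h2 : (𝐂[u]).relIndex A ≠ 1 := fun e => hne (h.eq_bot_of hA hPA h.hPu (relIndex_eq_one.1 e))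
  omega

theorem n_le (h : TB q p r W P u a) {A : Subgroup X} (hA : A ≤ W) :
    (𝐂[u]).relIndex A ≤ q ^ 2 :=
  (relIndex_le_of_le_right hA (by rw [relIndex]; exact index_ne_zero_of_finite)).trans h.hi

theorem PP_le (h : TB q p r W P u a) : ⁅P, P⁆ ≤ P := by rw [← h.hCu]; exact inf_le_left

theorem z_u (h : TB q p r W P u a) {z : X} (hz : z ∈ ⁅P, P⁆) : Commute z u := by
  rw [← h.hCu] at hz; exact mem_centralizer_singleton_iff.1 hz.2

theorem z_P (h : TB q p r W P u a) {z : X} (hz : z ∈ ⁅P, P⁆) : P ≤ 𝐍(zpowers z) := fun x hx =>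
  mem_norm_zp (h.hZ hz x hx)

theorem split_inf (h : TB q p r W P u a) {A D : Subgroup X} (hA : A ≤ W) (hD : D ≤ P)
    (hPA : P ≤ 𝐍(A)) : ⁅A, D⁆ ⊓ 𝐂(D) = ⊥ :=
  commutator_inf_centralizer_eq_bot (hD.trans hPA) (cop h.hpq (h.hP.to_le hD) (h.pg hA)) (h.mc hA)

theorem split_sup (h : TB q p r W P u a) {A D : Subgroup X} (hA : A ≤ W) (hD : D ≤ P)
    (hPA : P ≤ 𝐍(A)) : ⁅A, D⁆ ⊔ (A ⊓ 𝐂(D)) = A :=
  commutator_sup_centralizer (hD.trans hPA) (cop h.hpq (h.hP.to_le hD) (h.pg hA))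
    (Or.inr (solvable_of_isPGroup (h.pg hA)))

/-- An element of `P'` centralizing `[W,u]` is trivial. -/
theorem z_eq_one (h : TB q p r W P u a) {z : X} (hz : z ∈ ⁅P, P⁆)
    (hc : ⁅W, zpowers u⁆ ≤ 𝐂[z]) : z = 1 := by
  have hzP : zpowers z ≤ P := zpowers_le_of_mem (h.PP_le hz)
  have hA : ⁅W, zpowers z⁆ ≤ W := commutator_le_left_of_le_normalizer (hzP.trans h.hPW)
  have hPA : P ≤ 𝐍((⁅W, zpowers z⁆ : Subgroup X)) := le_normalizer_commutator h.hPW (h.z_P hz)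
  have huA : u ∈ 𝐍((⁅W, zpowers z⁆ : Subgroup X)) :=
    mem_norm_comm h.huW (mem_norm_zp (h.z_u hz).symm)
  have h1 := h.split_inf le_rfl hzP h.hPW
  have h2 : ⁅⁅W, zpowers z⁆, zpowers u⁆ = ⊥ := by
    rw [eq_bot_iff, ← h1, centralizer_zpowers_eq]
    exact le_inf (commutator_le_left_of_le_normalizer (zpowers_le_of_mem huA))
      ((commutator_mono hA le_rfl).trans hc)
  have h3 := h.eq_bot_of hA hPA h.hPu (by
    rw [← centralizer_zpowers_eq]; exact commutator_eq_bot_iff_le_centralizer.1 h2)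
  have h4 : z ∈ P ⊓ 𝐂(W) :=
    ⟨h.PP_le hz, commutator_eq_bot_iff_le_centralizer'.1 h3 (mem_zpowers z)⟩
  rwa [h.hf, mem_bot] at h4

theorem quad (h : TB q p r W P u a) (hq : q = 2) {A : Subgroup X} (hA : A ≤ W) (huA : u ∈ 𝐍(A)) :
    ⁅A, zpowers u⁆ ≤ 𝐂[u] := by
  intro v hv
  obtain ⟨w, hw, rfl⟩ := mem_comm_zpowers (ab_mono h.ab hA) huA hv
  have huu : u * u = 1 := by rw [← sq, ← hq, h.hu]
  have hui : u⁻¹ = u := inv_eq_of_mul_eq_one_right huu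
  have hww : w * w = 1 := by rw [← sq, ← hq, h.hW.2 w (hA hw)]
  have hwi : w⁻¹ = w := inv_eq_of_mul_eq_one_right hww
  have h1 := comm_of h.ab (hA hw) (conj_mem_of_mem_normalizer h.huW (hA hw))
  rw [mem_centralizer_singleton_iff, commutatorElement_def, hwi]
  rw [hui] at h1 ⊢
  calc w * u * w * u * u = w * u * w * (u * u) := by group
    _ = (u * u) * w * u * w := by rw [huu]; group
    _ = u * (u * w * u * w) := by group
    _ = u * (w * u * w * u) := by rw [← h1]; group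

theorem card_N (h : TB q p r W P u a) {A : Subgroup X} (hA : A ≤ W) (huA : u ∈ 𝐍(A)) :
    Nat.card ↥⁅A, zpowers u⁆ = (𝐂[u]).relIndex A :=
  card_commutator_zpowers (ab_mono h.ab hA) huA

theorem N_le (h : TB q p r W P u a) : ⁅W, zpowers u⁆ ≤ W :=
  commutator_le_left_of_le_normalizer (zpowers_le_of_mem h.huW)

theorem a_cent_N (h : TB q p r W P u a) (hr : ¬ r ∣ q ^ 2 - 1) : ⁅W, zpowers u⁆ ≤ 𝐂[a] :=
  cnt h.hrq (h.pg h.N_le) (by rw [h.card_N le_rfl h.huW]; exact h.hi) h.ha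
    (mem_norm_comm h.haW (mem_norm_zp h.hua.symm)) hr

theorem a_cent_PP (h : TB q p r W P u a) (hr : ¬ r ∣ q ^ 2 - 1) {z : X} (hz : z ∈ ⁅P, P⁆) :
    Commute z a := by
  have h1 : ⁅z, a⁆ ∈ ⁅P, P⁆ := commElt_mem (mem_norm_comm h.haP h.haP) hz
  refine commutatorElement_eq_one_iff_commute.1 (h.z_eq_one h1 (?_ : _ ≤ _))
  have hzN : z ∈ 𝐍((⁅W, zpowers u⁆ : Subgroup X)) :=
    mem_norm_comm (h.hPW (h.PP_le hz)) (mem_norm_zp (h.z_u hz))
  intro v hv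
  have h2 : Commute v a := mem_centralizer_singleton_iff.1 (h.a_cent_N hr hv)
  have h3 : Commute (z⁻¹ * v * z) a :=
    mem_centralizer_singleton_iff.1 (h.a_cent_N hr (conj_mem_of_mem_normalizer' hzN hv))
  have h4 : Commute v (z * a * z⁻¹) := by
    have := h3.conj z
    simpa [mul_assoc] using this
  exact mem_centralizer_singleton_iff.2 (h4.mul_right h2.inv_right)

/-- The lower bound for `|C_A(u)|`. -/
theorem kill (h : TB q p r W P u a) (hr : ¬ r ∣ q ^ 2 - 1) {A : Subgroup X} (hA : A ≤ W)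
    (hPA : P ≤ 𝐍(A)) (huA : u ∈ 𝐍(A)) (haA : a ∈ 𝐍(A)) (hne : A ≠ ⊥) :
    q ^ 3 * Nat.card ↥(⁅A, zpowers u⁆ ⊓ 𝐂[u]) ≤ Nat.card ↥(A ⊓ 𝐂[u]) := by
  have hYA : ⁅A, zpowers a⁆ ≤ A := commutator_le_left_of_le_normalizer (zpowers_le_of_mem haA)
  have hNA : ⁅A, zpowers u⁆ ≤ A := commutator_le_left_of_le_normalizer (zpowers_le_of_mem huA)
  have hNa : ⁅A, zpowers u⁆ ≤ 𝐂[a] := (commutator_mono hA le_rfl).trans (h.a_cent_N hr)
  have hcop : (Nat.card (zpowers a)).Coprime (Nat.card A) := cop h.hrq (pg_zp h.ha) (h.pg hA)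
  have hY0 : ⁅A, zpowers a⁆ ⊓ 𝐂[a] = ⊥ := by
    rw [← centralizer_zpowers_eq]
    exact commutator_inf_centralizer_eq_bot (zpowers_le_of_mem haA) hcop (h.mc hA)
  have hYu : ⁅A, zpowers a⁆ ≤ 𝐂[u] := by
    rw [← centralizer_zpowers_eq]
    refine le_centralizer_of_three ?_ ?_
    · have : ⁅zpowers a, zpowers u⁆ = ⊥ := by
        rw [commutator_eq_bot_iff_le_centralizer, centralizer_zpowers_eq, zpowers_le]
        exact mem_centralizer_singleton_iff.2 h.hua.symm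
      rw [this]; exact bot_le
    · rw [commutator_comm, centralizer_zpowers_eq]; exact hNa
  have hbig : q ^ 3 ≤ Nat.card ↥⁅A, zpowers a⁆ := by
    obtain ⟨k, hk⟩ := IsPGroup.iff_card.1 (h.pg (hYA.trans hA))
    by_contra hlt
    have hq1 := (Fact.out : q.Prime).one_lt
    have hk2 : k ≤ 2 := by
      rw [hk, not_le] at hlt
      have := (Nat.pow_lt_pow_iff_right hq1).1 hlt
      omega
    have h1 := cnt h.hrq (h.pg (hYA.trans hA)) (by rw [hk]; exact Nat.pow_le_pow_right hq1.le hk2)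
      h.ha (mem_norm_comm haA (mem_norm_zp (Commute.refl a))) hr
    have h2 : ⁅A, zpowers a⁆ = ⊥ := by rw [← hY0, eq_comm, inf_eq_left]; exact h1
    refine hne (h.eq_bot_of hA hPA h.hPa ?_)
    rw [← centralizer_zpowers_eq]; exact commutator_eq_bot_iff_le_centralizer.1 h2
  refine (Nat.mul_le_mul_right _ hbig).trans
    (card_mul_le (le_inf hYA hYu) (inf_le_inf_right _ hNA) ?_)
  rw [eq_bot_iff, ← hY0]
  exact inf_le_inf_left _ (inf_le_left.trans hNa)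

theorem kill' (h : TB q p r W P u a) (hr : ¬ r ∣ q ^ 2 - 1) {A : Subgroup X} (hA : A ≤ W)
    (hPA : P ≤ 𝐍(A)) (huA : u ∈ 𝐍(A)) (haA : a ∈ 𝐍(A)) (hne : A ≠ ⊥) :
    q ^ 4 ≤ Nat.card ↥(A ⊓ 𝐂[u]) := by
  refine le_trans ?_ (h.kill hr hA hPA huA haA hne)
  rw [pow_succ q 3]
  refine Nat.mul_le_mul_left _ ?_
  have hNA : ⁅A, zpowers u⁆ ≤ A := commutator_le_left_of_le_normalizer (zpowers_le_of_mem huA)
  have h1 := card_modEq_card_inf_centralizer_elem (pg_zp h.hu)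
    (mem_norm_comm huA (mem_norm_zp (Commute.refl u)))
  obtain ⟨k, hk⟩ := IsPGroup.iff_card.1 (h.pg (hNA.trans hA))
  have h2 := h.n_ge hA hPA hne
  rw [← h.card_N hA huA, hk] at h2
  have hk0 : k ≠ 0 := by rintro rfl; simp at h2
  rw [hk] at h1
  exact Nat.le_of_dvd Nat.card_pos
    ((h1.dvd_iff dvd_rfl).1 (dvd_pow_self q hk0))

/-- The upper bound for `|C_A(u)|`. -/
theorem upper (_h : TB q p r W P u a) {A : Subgroup X} (hPA : P ≤ 𝐍(A)) {x : X} (hx : x ∈ P) :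
    Nat.card A ≤ (𝐂[u]).relIndex A ^ 2 * Nat.card ↥(A ⊓ (𝐂[u] ⊓ 𝐂[x * u * x⁻¹])) ∧
    Nat.card ↥(A ⊓ 𝐂[u]) ≤
      (𝐂[u]).relIndex A * Nat.card ↥(A ⊓ (𝐂[u] ⊓ 𝐂[x * u * x⁻¹])) := by
  have h1 := card_inf_mul_relIndex (𝐂[u] ⊓ 𝐂[x * u * x⁻¹]) A
  have h2 := relIndex_two (hPA hx) u
  have h3 := card_inf_mul_relIndex (𝐂[u]) A
  rw [inf_comm] at h1 h3
  have h4 : Nat.card A ≤ (𝐂[u]).relIndex A ^ 2 *
      Nat.card ↥(A ⊓ (𝐂[u] ⊓ 𝐂[x * u * x⁻¹])) := by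
    rw [← h1, mul_comm]; exact Nat.mul_le_mul_right _ h2
  refine ⟨h4, ?_⟩
  have h0 : 0 < (𝐂[u]).relIndex A :=
    Nat.pos_of_ne_zero (by rw [relIndex]; exact index_ne_zero_of_finite)
  refine Nat.le_of_mul_le_mul_right ?_ h0
  rw [h3]; refine h4.trans (le_of_eq ?_); ring

omit [Finite X] in
theorem inf_conj_eq_bot {A : Subgroup X} {y g : X} (h : A ⊓ 𝐂[⁅g, y⁆] = ⊥) :
    (A ⊓ 𝐂[y]) ⊓ (A ⊓ 𝐂[g * y * g⁻¹]) = ⊥ := by
  rw [eq_bot_iff, ← h]
  rintro w ⟨h1, h2⟩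
  exact ⟨h1.1, cent_le_comm g y ⟨h1.2, h2.2⟩⟩

theorem sq_le {A : Subgroup X} {y g : X} (hg : g ∈ 𝐍(A)) (h : A ⊓ 𝐂[⁅g, y⁆] = ⊥) :
    Nat.card ↥(A ⊓ 𝐂[y]) ^ 2 ≤ Nat.card A := by
  have := card_mul_le inf_le_left inf_le_left (inf_conj_eq_bot h)
  rwa [card_inf_conj hg, ← sq] at this

theorem abelian_bound (h : TB q p r W P u a) (hP : ⁅P, P⁆ = ⊥) (A : Subgroup X) (hA : A ≤ W)
    (hPA : P ≤ 𝐍(A)) (huA : u ∈ 𝐍(A)) : Nat.card A ≤ (𝐂[u]).relIndex A ^ 2 := by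
  induction hn : Nat.card A using Nat.strong_induction_on generalizing A with
  | _ n ih =>
  subst hn
  by_cases hne : A = ⊥
  · subst hne; simp
  obtain ⟨x, hx, hxc⟩ : ∃ x ∈ P, ⁅x, u⁆ ∉ 𝐂(A) := by
    by_contra hc
    push Not at hc
    have h1 := comm_zpowers_le h.huP hc
    rw [h.hPu] at h1
    exact hne (eq_bot_iff.2 (h.h0 ▸ le_inf hA (le_centralizer_iff.1 h1)))
  have hy : ⁅x, u⁆ ∈ P := commElt_mem h.huP hx
  set D : Subgroup X := P ⊓ (zpowers u ⊔ zpowers (x * u * x⁻¹)) with hD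
  have hDP : D ≤ P := inf_le_left
  have hu1 : u ∈ zpowers u ⊔ zpowers (x * u * x⁻¹) := mem_sup_left (mem_zpowers u)
  have hyD : ⁅x, u⁆ ∈ D := ⟨hy, (zpowers u ⊔ zpowers (x * u * x⁻¹)).mul_mem
    (mem_sup_right (mem_zpowers _)) ((zpowers u ⊔ zpowers (x * u * x⁻¹)).inv_mem hu1)⟩
  have hPab : P ≤ 𝐂(P) := commutator_eq_bot_iff_le_centralizer.1 hP
  have hPD : P ≤ 𝐍(D) := (hPab.trans (centralizer_le hDP)).trans (centralizer_le_normalizer _)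
  have huD : u ∈ 𝐍(D) := mem_norm_inf h.huP (le_normalizer hu1)
  have hA1 : ⁅A, D⁆ ≤ A := commutator_le_left_of_le_normalizer (hDP.trans hPA)
  have hPA1 : P ≤ 𝐍((⁅A, D⁆ : Subgroup X)) := le_normalizer_commutator hPA hPD
  have huA1 : u ∈ 𝐍((⁅A, D⁆ : Subgroup X)) := mem_norm_comm huA huD
  have hPB : P ≤ 𝐍((A ⊓ 𝐂(D) : Subgroup X)) := le_normalizer_inf_centralizer hPA hPD
  have huB : u ∈ 𝐍((A ⊓ 𝐂(D) : Subgroup X)) :=
    mem_norm_inf huA (normalizer_le_normalizer_centralizer _ huD)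
  have hinf := h.split_inf hA hDP hPA
  have hsup := h.split_sup hA hDP hPA
  have hlt : A ⊓ 𝐂(D) < A := by
    refine lt_of_le_of_ne inf_le_left fun e => hxc ?_
    exact le_centralizer_iff.1 (inf_eq_left.1 e) hyD
  have hlt' : Nat.card ↥(A ⊓ 𝐂(D)) < Nat.card A :=
    lt_of_le_of_ne (card_le_of_le hlt.le) fun e => hlt.ne (eq_of_le_of_card_ge hlt.le e.ge)
  have ihB := ih _ hlt' _ (inf_le_left.trans hA) hPB huB rfl
  have h1 := (h.upper hPA1 hx).1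
  have h2 : ⁅A, D⁆ ⊓ (𝐂[u] ⊓ 𝐂[x * u * x⁻¹]) = ⊥ := by
    rw [eq_bot_iff, ← hinf]
    refine inf_le_inf_left _ ?_
    rw [← centralizer_zpowers_eq, ← centralizer_zpowers_eq, ← centralizer_sup']
    exact centralizer_le inf_le_right
  rw [h2, card_bot, mul_one] at h1
  have hinf' : ⁅A, D⁆ ⊓ (A ⊓ 𝐂(D)) = ⊥ := by
    rw [eq_bot_iff, ← hinf]; exact inf_le_inf_left _ inf_le_right
  have h3 := nn_mul (ab_mono h.ab hA) huA hA1 inf_le_left huA1 huB hinf'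
  have h4 : Nat.card A ≤ Nat.card ↥⁅A, D⁆ * Nat.card ↥(A ⊓ 𝐂(D)) := by
    have hn : ⁅A, D⁆ ≤ 𝐍((A ⊓ 𝐂(D) : Subgroup X)) :=
      ((hA1.trans (ab_mono h.ab hA)).trans (centralizer_le inf_le_left)).trans
        (centralizer_le_normalizer _)
    have := card_sup_mul_card_inf hn
    rw [hsup, hinf', card_bot, mul_one] at this
    exact this.le
  calc Nat.card A ≤ _ := h4
    _ ≤ (𝐂[u]).relIndex ⁅A, D⁆ ^ 2 * (𝐂[u]).relIndex (A ⊓ 𝐂(D)) ^ 2 := Nat.mul_le_mul h1 ihB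
    _ = ((𝐂[u]).relIndex ⁅A, D⁆ * (𝐂[u]).relIndex (A ⊓ 𝐂(D))) ^ 2 := by ring
    _ ≤ _ := Nat.pow_le_pow_left h3 2

theorem a_ne (h : TB q p r W P u a) : a ≠ 1 := by
  rintro rfl
  apply h.hne
  rw [← h.hPa, zpowers_one_eq_bot, commutator_bot_right]

theorem abelian (h : TB q p r W P u a) (hP : ⁅P, P⁆ = ⊥) : False := by
  have hr : r.Prime := Fact.out
  have hoa : orderOf a = r := orderOf_eq_prime h.ha h.a_ne
  have hca : Nat.card (zpowers a) = r := by rw [Nat.card_zpowers, hoa]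
  have hfrob : ∀ x ∈ zpowers a, x ≠ 1 → P ⊓ 𝐂[x] = ⊥ := by
    intro x hx hx1
    have e : zpowers x = zpowers a := by
      refine eq_of_le_of_card_ge (zpowers_le_of_mem hx) ?_
      rcases (Nat.dvd_prime hr).1 (hca ▸ card_dvd_of_le (zpowers_le_of_mem hx)) with e | e
      · exact absurd (by simpa using card_eq_one.1 e) hx1
      · rw [e, hca]
    rw [← centralizer_zpowers_eq, e, centralizer_zpowers_eq, eq_bot_iff, ← hP, ← h.hCu]
    exact le_inf inf_le_left h.hCa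
  have hw := FT.Frobenius_Wielandt_card (zpowers_le_of_mem h.haP) hfrob h.hPW
    (zpowers_le_of_mem h.haW) (solvable_of_isPGroup (h.pg le_rfl)) (cop h.hpq h.hP (h.pg le_rfl))
    (cop h.hrq (pg_zp h.ha) (h.pg le_rfl)) h.h0
  rw [hca] at hw
  obtain ⟨k, hk⟩ := IsPGroup.iff_card.1 (h.pg (inf_le_left : W ⊓ 𝐂(zpowers a) ≤ W))
  rw [hk, ← pow_mul] at hw
  have hb := h.abelian_bound hP W le_rfl h.hPW h.huW
  have hq1 := (Fact.out : q.Prime).one_lt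
  have hk0 : k ≠ 0 := by
    rintro rfl
    exact h.W_ne (card_eq_one.1 (by simpa using hw))
  have h1 : q ^ (k * r) ≤ q ^ 4 := by
    rw [← hw]; refine hb.trans ((Nat.pow_le_pow_left h.hi 2).trans (le_of_eq (by ring)))
  have h2 : k * r ≤ 4 := (Nat.pow_le_pow_iff_right hq1).1 h1
  have h3 : r ≤ k * r := Nat.le_mul_of_pos_left r (Nat.pos_of_ne_zero hk0)
  have hr3 : r = 3 := by
    have := hr.two_le
    have := h.hr2
    have : r ≠ 4 := by rintro rfl; exact absurd hr (by norm_num)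
    omega
  have hq2 : q = 2 := h.hq.resolve_right fun e => h.hrq (hr3.trans e.symm)
  have hk1 : k = 1 := by subst hr3; omega
  have h4 := card_le_of_le (le_inf h.N_le (h.quad hq2 le_rfl h.huW))
  rw [h.card_N le_rfl h.huW] at h4
  have h5 := card_inf_mul_relIndex (𝐂[u]) W
  rw [inf_comm] at h5
  rw [hk1, hr3, hq2] at hw
  norm_num at hw
  rw [hw] at hb h5
  have h6 : (𝐂[u]).relIndex W ^ 2 ≤ 8 := by
    rw [← h5, sq]; exact Nat.mul_le_mul_right _ h4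
  have h7 : (𝐂[u]).relIndex W ≤ 2 := by nlinarith
  nlinarith

theorem exists_z (h : TB q p r W P u a) (hP : ⁅P, P⁆ ≠ ⊥) :
    ∃ x ∈ P, ∃ g ∈ P, ⁅g, ⁅x, u⁆⁆ ≠ 1 := by
  by_contra hc
  push Not at hc
  apply hP
  rw [commutator_eq_bot_iff_le_centralizer]
  conv_lhs => rw [← h.hPu]
  exact comm_zpowers_le h.huP fun x hx g hg =>
    commutatorElement_eq_one_iff_mul_comm.1 (hc x hx g hg)

theorem p_dvd (h : TB q p r W P u a) {z : X} (hz : z ∈ ⁅P, P⁆) (hz1 : z ≠ 1) :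
    p ∣ q ^ 2 - 1 := by
  by_contra hd
  refine hz1 (h.z_eq_one hz (cnt h.hpq (h.pg h.N_le) ?_ (h.hE z hz) ?_ hd))
  · rw [h.card_N le_rfl h.huW]; exact h.hi
  · exact mem_norm_comm (h.hPW (h.PP_le hz)) (mem_norm_zp (h.z_u hz))

/-- The invariant subgroup `[W, z]`. -/
theorem piece (h : TB q p r W P u a) (hr : ¬ r ∣ q ^ 2 - 1) {z : X} (hz : z ∈ ⁅P, P⁆)
    (hz1 : z ≠ 1) : ⁅W, zpowers z⁆ ≤ W ∧ P ≤ 𝐍((⁅W, zpowers z⁆ : Subgroup X)) ∧
      u ∈ 𝐍((⁅W, zpowers z⁆ : Subgroup X)) ∧ a ∈ 𝐍((⁅W, zpowers z⁆ : Subgroup X)) ∧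
      ⁅W, zpowers z⁆ ≠ ⊥ ∧ ⁅W, zpowers z⁆ ⊓ 𝐂[z] = ⊥ := by
  have hzP : zpowers z ≤ P := zpowers_le_of_mem (h.PP_le hz)
  refine ⟨commutator_le_left_of_le_normalizer (hzP.trans h.hPW),
    le_normalizer_commutator h.hPW (h.z_P hz), mem_norm_comm h.huW (mem_norm_zp (h.z_u hz).symm),
    mem_norm_comm h.haW (mem_norm_zp (h.a_cent_PP hr hz).symm), fun e => hz1 ?_, ?_⟩
  · have h4 : z ∈ P ⊓ 𝐂(W) :=
      ⟨h.PP_le hz, commutator_eq_bot_iff_le_centralizer'.1 e (mem_zpowers z)⟩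
    rwa [h.hf, mem_bot] at h4
  · rw [← centralizer_zpowers_eq]; exact h.split_inf le_rfl hzP h.hPW

theorem card_mono_y {A : Subgroup X} (x u : X) :
    Nat.card ↥(A ⊓ (𝐂[u] ⊓ 𝐂[x * u * x⁻¹])) ≤ Nat.card ↥(A ⊓ 𝐂[⁅x, u⁆]) :=
  card_le_of_le (inf_le_inf_left _ (cent_le_comm x u))

theorem case3 (h : TB q p r W P u a) (hq : q = 2) (hp : p = 3) {x g : X} (hx : x ∈ P) (hg : g ∈ P)
    (hz1 : ⁅g, ⁅x, u⁆⁆ ≠ 1) : False := by
  have hr : ¬ r ∣ q ^ 2 - 1 := fun hd => by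
    rw [hq] at hd
    exact h.hrp (hp ▸ (Nat.prime_dvd_prime_iff_eq Fact.out Nat.prime_three).1 hd)
  have hy : ⁅x, u⁆ ∈ P := commElt_mem h.huP hx
  have hup := fun A hPA => h.upper (A := A) hPA hx
  have hmono := fun A => card_mono_y (A := A) x u
  have hri : ∀ A : Subgroup X, x ∈ 𝐍(A) → (𝐂[⁅x, u⁆]).relIndex A ≤ (𝐂[u]).relIndex A ^ 2 :=
    fun A hA => (relIndex_le_of_le_left (cent_le_comm x u)
      (by rw [relIndex]; exact index_ne_zero_of_finite)).trans (relIndex_two hA u)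
  generalize ⁅x, u⁆ = y at hy hz1 hmono hri
  have hz : ⁅g, y⁆ ∈ ⁅P, P⁆ := commutator_mem_commutator hg hy
  obtain ⟨hA, hPA, huA, haA, hne, h0⟩ := h.piece hr hz hz1
  have hzc : ∀ t ∈ P, Commute t ⁅g, y⁆ := fun t ht => h.hZ hz t ht
  have hz3 : ⁅g, y⁆ ^ 3 = 1 := hp ▸ h.hE _ hz
  have e1 : g * y * g⁻¹ = ⁅g, y⁆ * y := by simp only [commutatorElement_def]; group
  generalize ⁅g, y⁆ = z at *
  set A := ⁅W, zpowers z⁆ with hAdef
  have e2 : g⁻¹ * y * g⁻¹⁻¹ = z⁻¹ * y := by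
    have h1 : g⁻¹ * (g * y * g⁻¹) * g = y := by group
    rw [e1] at h1
    have h2 := (hzc _ (inv_mem hg)).eq
    calc g⁻¹ * y * g⁻¹⁻¹ = z⁻¹ * (z * g⁻¹) * y * g := by group
      _ = z⁻¹ * (g⁻¹ * (z * y) * g) := by rw [← h2]; group
      _ = _ := by rw [h1]
  have hyz : Commute y z := hzc y hy
  have hyA : y ∈ 𝐍(A) := hPA hy
  have n1 : y ∈ 𝐍((A ⊓ 𝐂[z * y] : Subgroup X)) :=
    mem_norm_inf hyA (mem_norm_cent (hyz.mul_right (Commute.refl y)))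
  have n2 : y ∈ 𝐍((A ⊓ 𝐂[z⁻¹ * y] : Subgroup X)) :=
    mem_norm_inf hyA (mem_norm_cent (hyz.inv_right.mul_right (Commute.refl y)))
  have key : ∀ {s t : X} {w : X}, w ∈ A → w ∈ 𝐂[s] → w ∈ 𝐂[t] → z ∈ zpowers (s * t⁻¹) →
      w = 1 := by
    intro s t w hw h1 h2 h3
    have h1' : Commute w s := mem_centralizer_singleton_iff.1 h1
    have h2' : Commute w t := mem_centralizer_singleton_iff.1 h2
    obtain ⟨k, hk⟩ := mem_zpowers_iff.1 h3
    have h4 : w ∈ A ⊓ 𝐂[z] := ⟨hw, mem_centralizer_singleton_iff.2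
      (hk ▸ ((h1'.mul_right h2'.inv_right).zpow_right k).eq)⟩
    rwa [h0, mem_bot] at h4
  have i12 : (A ⊓ 𝐂[z * y]) ⊓ (A ⊓ 𝐂[z⁻¹ * y]) = ⊥ := by
    rw [eq_bot_iff]
    rintro w ⟨h1, h2⟩
    refine key h1.1 h1.2 h2.2 (mem_zpowers_iff.2 ⟨2, ?_⟩)
    have e3 : z * y * (z⁻¹ * y)⁻¹ = z * z := by group
    rw [e3, zpow_two]
    calc z * z * (z * z) = z ^ 3 * z := by rw [pow_three]; simp only [mul_assoc]
      _ = z := by rw [hz3, one_mul]
  have r1 : ∀ s : X, z ∈ zpowers (s * y⁻¹) →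
      (𝐂[y]).relIndex (A ⊓ 𝐂[s]) = Nat.card ↥(A ⊓ 𝐂[s]) := by
    intro s hs
    have h1 := card_inf_mul_relIndex (𝐂[y]) (A ⊓ 𝐂[s])
    have h2 : 𝐂[y] ⊓ (A ⊓ 𝐂[s]) = ⊥ := by
      rw [eq_bot_iff]
      rintro w ⟨h1, h2⟩
      exact key h2.1 h2.2 h1 hs
    rwa [h2, card_bot, one_mul] at h1
  have h5 := nn_mul (ab_mono h.ab hA) hyA inf_le_left inf_le_left n1 n2 i12
  rw [r1 _ (mem_zpowers_iff.2 ⟨1, by group⟩), r1 _ (mem_zpowers_iff.2 ⟨-1, by group⟩), ← e1, ← e2,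
    card_inf_conj (hPA hg), card_inf_conj (hPA (inv_mem hg))] at h5
  have h6 := h5.trans (hri A (hPA hx))
  have h7 := h.kill hr hA hPA huA haA hne
  rw [inf_eq_left.2 (h.quad hq hA huA), h.card_N hA huA, hq] at h7
  have h8 := (hup A hPA).2
  have h9 := hmono A
  have h10 := h.n_le hA
  have h11 := h.n_ge hA hPA hne
  rw [hq] at h10
  generalize (𝐂[u]).relIndex A = n at *
  generalize Nat.card ↥(A ⊓ 𝐂[y]) = c at *
  have h12 : c ≤ n := by nlinarith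
  have h13 := h7.trans (h8.trans (Nat.mul_le_mul_left _ (h9.trans h12)))
  nlinarith

theorem case2_fpf (h : TB q p r W P u a) (hq : q = 3) (hr : ¬ r ∣ q ^ 2 - 1) {x g : X}
    (hx : x ∈ P) (hg : g ∈ P) (hz1 : ⁅g, ⁅x, u⁆⁆ ≠ 1) : W ⊓ 𝐂[⁅g, ⁅x, u⁆⁆] = ⊥ := by
  by_contra hB
  have hy : ⁅x, u⁆ ∈ P := commElt_mem h.huP hx
  have hz : ⁅g, ⁅x, u⁆⁆ ∈ ⁅P, P⁆ := commutator_mem_commutator hg hy
  obtain ⟨hA, hPA, huA, haA, hne, h0⟩ := h.piece hr hz hz1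
  have hPB : P ≤ 𝐍((W ⊓ 𝐂[⁅g, ⁅x, u⁆⁆] : Subgroup X)) := fun t ht =>
    mem_norm_inf (h.hPW ht) (mem_norm_cent (h.hZ hz t ht))
  have huB : u ∈ 𝐍((W ⊓ 𝐂[⁅g, ⁅x, u⁆⁆] : Subgroup X)) :=
    mem_norm_inf h.huW (mem_norm_cent (h.z_u hz).symm)
  have h1 := nn_mul h.ab h.huW hA inf_le_left huA huB (by
    rw [eq_bot_iff, ← h0]; exact inf_le_inf_left _ inf_le_right)
  have h2 := h.n_ge inf_le_left hPB hB
  have h3 := h.hi
  have h4 := h.kill' hr hA hPA huA haA hne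
  obtain ⟨h5, h6⟩ := h.upper hPA hx
  have h7 := card_mono_y (A := ⁅W, zpowers ⁅g, ⁅x, u⁆⁆⁆) x u
  have h8 := sq_le (hPA hg) h0
  rw [hq] at h3 h4
  generalize (𝐂[u]).relIndex ⁅W, zpowers ⁅g, ⁅x, u⁆⁆⁆ = n at *
  generalize Nat.card ↥(⁅W, zpowers ⁅g, ⁅x, u⁆⁆⁆ ⊓ 𝐂[⁅x, u⁆]) = c at *
  have h9 : n ≤ 4 := by nlinarith
  have h10 := h8.trans (h5.trans (Nat.mul_le_mul_left _ h7))
  have h11 := h4.trans (h6.trans (Nat.mul_le_mul_left _ h7))
  have h12 : c ≤ n ^ 2 := by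
    rcases Nat.eq_zero_or_pos c with e | e
    · omega
    · rw [sq c] at h10; exact Nat.le_of_mul_le_mul_right h10 e
  have h13 : n ^ 2 ≤ 16 := by nlinarith
  nlinarith

theorem case2 (h : TB q p r W P u a) (hq : q = 3) (hp : p = 2) {x g : X} (hx : x ∈ P) (hg : g ∈ P)
    (hz1 : ⁅g, ⁅x, u⁆⁆ ≠ 1) : False := by
  have hr : ¬ r ∣ q ^ 2 - 1 := fun hd => by
    rw [hq] at hd
    exact h.hr2 ((Nat.prime_dvd_prime_iff_eq Fact.out Nat.prime_two).1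
      ((Fact.out : r.Prime).dvd_of_dvd_pow (n := 3) hd))
  have hu3 : u * u * u = 1 := by rw [← pow_three', ← hq]; exact h.hu
  have cu : ∀ t ∈ P, u * t * u⁻¹ ∈ P := fun t ht => conj_mem_of_mem_normalizer h.huP ht
  have cy : ∀ t : X, u * ⁅t, u⁆ * u⁻¹ = ⁅u * t * u⁻¹, u⁆ := fun t => by
    simp only [commutatorElement_def]; group
  -- the elements `y, y', y''`
  have fpf : ∀ t ∈ P, ∀ y, (∃ x ∈ P, ⁅x, u⁆ = y) → ⁅t, y⁆ ≠ 1 → W ⊓ 𝐂[⁅t, y⁆] = ⊥ := by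
    rintro t ht _ ⟨x, hx, rfl⟩ h1
    exact h.case2_fpf hq hr hx ht h1
  have hy : ⁅x, u⁆ ∈ P := commElt_mem h.huP hx
  have y0 : ∃ x' ∈ P, ⁅x', u⁆ = ⁅x, u⁆ := ⟨x, hx, rfl⟩
  have y1 : ∃ x' ∈ P, ⁅x', u⁆ = u * ⁅x, u⁆ * u⁻¹ := ⟨_, cu x hx, (cy x).symm⟩
  have y2 : ∃ x' ∈ P, ⁅x', u⁆ = u * (u * ⁅x, u⁆ * u⁻¹) * u⁻¹ :=
    ⟨_, cu _ (cu x hx), by rw [cy, cy]⟩
  have hprod : ⁅x, u⁆ * (u * ⁅x, u⁆ * u⁻¹) * (u * (u * ⁅x, u⁆ * u⁻¹) * u⁻¹) = 1 := by
    calc _ = x * (u * u * u) * x⁻¹ * (u * u * u)⁻¹ := by simp only [commutatorElement_def]; group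
      _ = 1 := by rw [hu3]; group
  have hcyc : u * (u * (u * ⁅x, u⁆ * u⁻¹) * u⁻¹) * u⁻¹ = ⁅x, u⁆ := by
    calc _ = (u * u * u) * ⁅x, u⁆ * (u * u * u)⁻¹ := by group
      _ = _ := by rw [hu3]; group
  obtain ⟨h5, h6⟩ := h.upper h.hPW hx
  have hC0 : W ⊓ (𝐂[u] ⊓ 𝐂[x * u * x⁻¹]) ≤ (W ⊓ 𝐂[⁅x, u⁆]) ⊓ 𝐂[u * ⁅x, u⁆ * u⁻¹] :=
    le_inf (inf_le_inf_left _ (cent_le_comm x u)) (inf_le_right.trans (cent_le_comm' x u))
  generalize ⁅x, u⁆ = y at *
  have hy' := cu y hy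
  have hy'' := cu _ hy'
  have cz : ∀ t s : X, ⁅u * t * u⁻¹, u * s * u⁻¹⁆ = u * ⁅t, s⁆ * u⁻¹ := fun t s => by
    simp only [commutatorElement_def]; group
  have cz1 : ∀ t s : X, ⁅u * t * u⁻¹, u * s * u⁻¹⁆ = 1 ↔ ⁅t, s⁆ = 1 := fun t s => by
    rw [cz, conj_eq_one_iff]
  obtain ⟨k, hk, k1, k2⟩ : ∃ k ∈ P, ⁅k, y⁆ = 1 ∧ ⁅k, u * y * u⁻¹⁆ ≠ 1 := by
    have hm : ∀ s ∈ P, ∀ t ∈ P, ⁅g, s * t⁆ = ⁅g, s⁆ * ⁅g, t⁆ := by
      intro s hs t ht
      have h1 := h.hZ (commutator_mem_commutator hg ht) s hs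
      calc ⁅g, s * t⁆ = ⁅g, s⁆ * (s * ⁅g, t⁆) * s⁻¹ := by
            simp only [commutatorElement_def]; group
        _ = _ := by rw [h1]; group
    have h3 : ⁅g, y⁆ * ⁅g, u * y * u⁻¹⁆ * ⁅g, u * (u * y * u⁻¹) * u⁻¹⁆ = 1 := by
      rw [← hm _ hy _ hy', ← hm _ (mul_mem hy hy') _ hy'', hprod, commutatorElement_one_right]
    by_cases e1 : ⁅g, u * y * u⁻¹⁆ = 1
    · refine ⟨_, cu _ (cu g hg), ?_, ?_⟩
      · conv_lhs => rw [← hcyc]
        rw [cz1, cz1]; exact e1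
      · conv_lhs => rw [← hcyc]
        rw [Ne, cz1, cz1]
        intro e2
        rw [e1, e2, mul_one, mul_one] at h3
        exact hz1 h3
    by_cases e2 : ⁅g, u * (u * y * u⁻¹) * u⁻¹⁆ = 1
    · refine ⟨_, cu g hg, ?_, ?_⟩
      · conv_lhs => rw [← hcyc]
        rw [cz1]; exact e2
      · rw [Ne, cz1]; exact hz1
    exfalso
    have inv : ∀ s ∈ P, (∃ x ∈ P, ⁅x, u⁆ = s) → ⁅g, s⁆ ≠ 1 → ∀ w ∈ W,
        ⁅g, s⁆ * w * ⁅g, s⁆⁻¹ = w⁻¹ := fun s hs hs' hs1 w hw => by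
      have hz := commutator_mem_commutator hg hs
      exact inverts h.ab (hp ▸ h.hE _ hz) (h.hPW (h.PP_le hz)) (fpf g hg s hs' hs1) hw
    apply h.W_ne
    rw [eq_bot_iff]
    intro w hw
    have i0 := inv y hy y0 hz1 w hw
    have i1 := inv _ hy' y1 e1 _ (inv_mem hw)
    have i2 := inv _ hy'' y2 e2 w hw
    have hw3 : w ^ 3 = 1 := hq ▸ h.hW.2 w hw
    generalize ⁅g, y⁆ = z0 at *
    generalize ⁅g, u * y * u⁻¹⁆ = z1 at *
    generalize ⁅g, u * (u * y * u⁻¹) * u⁻¹⁆ = z2 at *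
    have e : w = w⁻¹ := by
      calc w = (z0 * z1 * z2) * w * (z0 * z1 * z2)⁻¹ := by rw [h3]; group
        _ = z0 * (z1 * (z2 * w * z2⁻¹) * z1⁻¹) * z0⁻¹ := by group
        _ = w⁻¹ := by rw [i2, i1, inv_inv, i0]
    rw [mem_bot]
    calc w = w ^ 3 * w⁻¹ * w⁻¹ := by group
      _ = w⁻¹ * w⁻¹ := by rw [hw3, one_mul]
      _ = w * w⁻¹ := by rw [← e]
      _ = 1 := mul_inv_cancel w
  have s1 := sq_le (h.hPW hg) (fpf g hg y y0 hz1)
  have hkA : k ∈ 𝐍((W ⊓ 𝐂[y] : Subgroup X)) :=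
    mem_norm_inf (h.hPW hk) (mem_norm_cent (commutatorElement_eq_one_iff_commute.1 k1))
  have s2 := sq_le hkA (y := u * y * u⁻¹) (by
    rw [eq_bot_iff, ← fpf k hk _ y1 k2]; exact inf_le_inf_right _ inf_le_left)
  have s3 := card_le_of_le hC0
  have s4 := h.kill' hr le_rfl h.hPW h.huW h.haW h.W_ne
  have s5 := h.hi
  rw [hq] at s4 s5
  generalize (𝐂[u]).relIndex W = n at *
  generalize Nat.card ↥(W ⊓ (𝐂[u] ⊓ 𝐂[x * u * x⁻¹])) = c at *
  have t1 : c ^ 2 ≤ Nat.card ↥(W ⊓ 𝐂[y]) := (Nat.pow_le_pow_left s3 2).trans s2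
  have t2 : (c ^ 2) ^ 2 ≤ n ^ 2 * c := (Nat.pow_le_pow_left t1 2).trans (s1.trans h5)
  have t3 := s4.trans h6
  have t4 : 9 ≤ c := by nlinarith
  have t5 : n ^ 2 ≤ 81 := by nlinarith
  have t6 : c ^ 3 ≤ 81 := by
    have : c ^ 3 * c ≤ 81 * c := by
      calc c ^ 3 * c = (c ^ 2) ^ 2 := by ring
        _ ≤ _ := t2.trans (Nat.mul_le_mul_right _ t5)
    exact Nat.le_of_mul_le_mul_right this (by omega)
  have t7 : 9 ^ 3 ≤ c ^ 3 := Nat.pow_le_pow_left t4 3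
  omega

theorem false (h : TB q p r W P u a) : False := by
  by_cases hP : ⁅P, P⁆ = ⊥
  · exact h.abelian hP
  obtain ⟨x, hx, g, hg, hz1⟩ := h.exists_z hP
  have hd := h.p_dvd (commutator_mem_commutator hg (commElt_mem h.huP hx)) hz1
  rcases h.hq with hq | hq
  · rw [hq] at hd
    exact h.case3 hq ((Nat.prime_dvd_prime_iff_eq Fact.out Nat.prime_three).1 hd) hx hg hz1
  · rw [hq] at hd
    exact h.case2 hq ((Nat.prime_dvd_prime_iff_eq Fact.out Nat.prime_two).1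
      ((Fact.out : p.Prime).dvd_of_dvd_pow (n := 3) hd)) hx hg hz1

end TB

end Q1

/-- An element `u` of order `q ∈ {2, 3}` with `|W : C_W(u)| ≤ q²` which centralizes `C_P(a)`
centralizes `P`. -/
theorem tb {q p r : ℕ} [Fact q.Prime] [Fact p.Prime] (hr : r.Prime) (hq : q = 2 ∨ q = 3)
    (hpq : p ≠ q) (hrp : r ≠ p) (hrq : r ≠ q) (hr2 : r ≠ 2) {W P : Subgroup X} {u a : X}
    (hW : IsElementaryAbelian q W) (hP : IsPGroup p P) (hPW : P ≤ normalizer (W : Set X))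
    (hf : P ⊓ centralizer (W : Set X) = ⊥) (hu : u ^ q = 1) (ha : a ^ r = 1) (hua : Commute u a)
    (huW : u ∈ normalizer (W : Set X)) (huP : u ∈ normalizer (P : Set X))
    (haW : a ∈ normalizer (W : Set X)) (haP : a ∈ normalizer (P : Set X))
    (hC : P ⊓ centralizer ({a} : Set X) ≤ centralizer ({u} : Set X))
    (hi : (centralizer ({u} : Set X)).relIndex W ≤ q ^ 2) : P ≤ centralizer ({u} : Set X) := by
  have : Fact r.Prime := ⟨hr⟩
  by_contra hc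
  have hnt : ⁅P, zpowers u⁆ ≠ ⊥ := fun e => hc (by
    rw [← centralizer_zpowers_eq]; exact commutator_eq_bot_iff_le_centralizer.1 e)
  have hB : zpowers u ⊔ zpowers a ≤ normalizer (P : Set X) :=
    sup_le (zpowers_le_of_mem huP) (zpowers_le_of_mem haP)
  obtain ⟨R, hRP, hBR, hntR, hmin⟩ := exists_minimal_action hB hnt
  have hR : IsPGroup p R := hP.to_le hRP
  have hAn : zpowers u ⊔ zpowers a ≤ normalizer (zpowers u : Set X) :=
    sup_le le_normalizer (zpowers_le_of_mem (mem_norm_zp hua.symm))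
  have hAp : (Nat.card (zpowers u)).Coprime p := by
    obtain ⟨k, hk⟩ := IsPGroup.iff_card.1 (pg_zp (X := X) hu)
    rw [hk]
    exact Nat.Coprime.pow_left _ ((Nat.coprime_primes Fact.out Fact.out).2 hpq.symm)
  obtain ⟨m1, m2, -, m4, m5, -, -⟩ := minimal_action hR hBR le_sup_left hAn hAp hntR hmin
  have huR : u ∈ normalizer (R : Set X) := hBR (mem_sup_left (mem_zpowers u))
  have haR : a ∈ normalizer (R : Set X) := hBR (mem_sup_right (mem_zpowers a))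
  have hRW : R ≤ normalizer (W : Set X) := hRP.trans hPW
  have hWq : IsPGroup q W := isPGroup_of_isElementaryAbelian hW
  have hcop := cop hpq hR hWq
  have hW1 : ⁅W, R⁆ ≤ W := commutator_le_left_of_le_normalizer hRW
  have hCa : R ⊓ centralizer ({a} : Set X) ≤ centralizer ({u} : Set X) :=
    (inf_le_inf_right _ hRP).trans hC
  rw [centralizer_zpowers_eq] at m2
  refine TB.false (q := q) (p := p) (r := r) (W := ⁅W, R⁆) (P := R) (u := u) (a := a)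
    ⟨hq, hpq, hrp, hrq, hr2, ⟨⟨⟨fun x y => Subtype.ext
      (comm_of (IsElementaryAbelian.le_centralizer hW) (hW1 x.2) (hW1 y.2))⟩⟩,
      fun x hx => hW.2 x (hW1 hx)⟩, hR, le_normalizer_commutator hRW le_normalizer, ?_, hu, ha,
      hua, mem_norm_comm huW huR, huR, mem_norm_comm haW haR, haR,
      (relIndex_le_of_le_right hW1 (by rw [relIndex]; exact index_ne_zero_of_finite)).trans hi,
      commutator_inf_centralizer_eq_bot hRW hcop hW.1, m1, ?_, m2, hCa, m4, m5, ?_⟩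
  · rw [eq_bot_iff, ← hf]
    rintro x ⟨hx1, hx2⟩
    refine ⟨hRP hx1, ?_⟩
    have h1 := commutator_sup_centralizer hRW hcop (Or.inr (solvable_of_isPGroup hWq))
    rw [← h1, centralizer_sup']
    exact ⟨hx2, le_centralizer_iff.1 inf_le_right hx1⟩
  · by_contra hne
    have hle : ⁅R, zpowers a⁆ ≤ R := commutator_le_left_of_le_normalizer (zpowers_le_of_mem haR)
    have h1 := hmin _ (lt_of_le_of_ne hle hne) (le_normalizer_commutator hBR
      (sup_le (zpowers_le_of_mem (mem_norm_zp hua)) le_normalizer))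
    have h2 := commutator_sup_centralizer (zpowers_le_of_mem haR) (cop hrp (pg_zp ha) hR)
      (Or.inr (solvable_of_isPGroup hR))
    apply hntR
    rw [commutator_eq_bot_iff_le_centralizer, ← h2]
    refine sup_le (commutator_eq_bot_iff_le_centralizer.1 h1) ?_
    rw [centralizer_zpowers_eq, centralizer_zpowers_eq]; exact hCa
  · rintro rfl
    exact hntR (commutator_bot_left _)

end CfsgLib.Sig
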