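import Cfsg.Agent.Lib.Sig.Q1
import Cfsg.Agent.Lib.H5LowFit
import Cfsg.Agent.Lib.H9HallHigman

/-!
# No small offenders in `A C(A)`-invariant `q`-subgroups
-/

set_option autoImplicit false

namespace CfsgLib.Sig

open Subgroup Cfsg CfsgLib.Cop CfsgLib.H1
open scoped commutatorElement

variable {X : Type*} [Group X]

/-- `T` has no small offenders on `V`. -/
structure EO (q : ℕ) (T V : Subgroup X) : Prop where
  elt : ∀ t ∈ T, (centralizer ({t} : Set X)).relIndex V ≤ q ^ 2 → t ∈ centralizer (V : Set X)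
  sub : ∀ E ≤ T, IsElementaryAbelian q E → ¬ E ≤ centralizer (V : Set X) →
    q ^ 2 * (centralizer (V : Set X)).relIndex E ≤ (centralizer (E : Set X)).relIndex V

/-- The faithful setting. -/
structure Act (q r : ℕ) (V P T A : Subgroup X) : Prop where
  hr : r.Prime
  hq : q = 2 ∨ q = 3
  hr2 : r ≠ 2
  hrq : r ≠ q
  hV : IsElementaryAbelian q V
  hP : Group.IsSolvable P
  hPq : (Nat.card P).Coprime q
  hPr : (Nat.card P).Coprime r
  hT : IsPGroup q T
  hA : IsElementaryAbelian r A
  PV : P ≤ normalizer (V : Set X)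
  TV : T ≤ normalizer (V : Set X)
  AV : A ≤ normalizer (V : Set X)
  TP : T ≤ normalizer (P : Set X)
  AP : A ≤ normalizer (P : Set X)
  AT : A ≤ normalizer (T : Set X)
  fP : P ⊓ centralizer (V : Set X) = ⊥
  fT : T ⊓ centralizer (P : Set X) = ⊥
  fix : P ⊓ centralizer (A : Set X) ≤ centralizer (T : Set X)

variable [Finite X]

theorem shapiro {P K A A₁ : Subgroup X} (hP : Group.IsSolvable P)
    (hAP : A ≤ normalizer (P : Set X)) (hcop : (Nat.card A).Coprime (Nat.card P))
    (hK : ⁅P, P⁆ ≤ K) (hKP : K ≤ P) (hA₁ : A₁ ≤ A) {x : X} (hx : x ∈ P)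
    (h1 : x ∈ centralizer (A₁ : Set X)) (h2 : ∀ a ∈ A, a ∉ A₁ → a * x * a⁻¹ ∈ K) :
    ∃ c ∈ P ⊓ centralizer (A : Set X), c⁻¹ * x ^ Nat.card A₁ ∈ K := by
  classical
  have := Fintype.ofFinite A
  have hof : ∀ y : P, Abelianization.of y = 1 ↔ (y : X) ∈ ⁅P, P⁆ := fun y => by
    rw [← MonoidHom.mem_ker, Abelianization.ker_of, ← P.map_subtype_commutator]
    exact (mem_map_iff_mem P.subtype_injective).symm
  let σ : A →* MulAut P := (normalizerMonoidHom P).comp (inclusion hAP)
  have hσ : ∀ (a : A) (y : P), ((σ a y : P) : X) = a * y * (a : X)⁻¹ := fun a y => rfl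
  obtain ⟨y, hy⟩ : ∃ y : P, Abelianization.of y = ∏ a : A, Abelianization.of (σ a ⟨x, hx⟩) :=
    QuotientGroup.mk_surjective _
  have hD : (⁅P, P⁆ : Subgroup X) ≤ P := hK.trans hKP
  obtain ⟨n, hn, c, hc, e⟩ := exists_mul_centralizer_of_commutator_mem (N := ⁅P, P⁆)
    (le_normalizer_commutator hAP hAP) (hcop.coprime_dvd_right (card_dvd_of_le hD))
    (Or.inr (isSolvable_of_le hP hD)) (g := y) fun b hb => by
      have h3 : Abelianization.of (σ ⟨b, hb⟩ y) = Abelianization.of y := by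
        have := congrArg (Abelianization.map (σ ⟨b, hb⟩).toMonoidHom) hy
        rw [Abelianization.map_of, map_prod] at this
        refine this.trans (hy.symm ▸ Fintype.prod_equiv (Equiv.mulLeft ⟨b, hb⟩) _ _ fun a => ?_)
        rw [Abelianization.map_of, Equiv.coe_mulLeft, map_mul]
        rfl
      have := (hof (y * (σ ⟨b, hb⟩ y)⁻¹)).1 (by rw [map_mul, map_inv, h3, mul_inv_cancel])
      rwa [coe_mul, coe_inv, hσ, show (y : X) * (b * y * b⁻¹)⁻¹ = ⁅(y : X), b⁆ by
        rw [commutatorElement_def]; group] at this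
  have hcP : c ∈ P := (mul_mem_cancel_left (hD hn)).1 (e ▸ y.2)
  refine ⟨c, ⟨hcP, hc⟩, ?_⟩
  set L := (K.subgroupOf P).map Abelianization.of with hL
  have h4 : Abelianization.of (⟨c, hcP⟩ : P) = Abelianization.of y := by
    rw [show y = ⟨n, hD hn⟩ * ⟨c, hcP⟩ from Subtype.ext e.symm, map_mul, (hof ⟨n, hD hn⟩).2 hn,
      one_mul]
  have h5 : ∏ a ∈ Finset.univ.filter fun a : A => (a : X) ∈ A₁, Abelianization.of (σ a ⟨x, hx⟩) =
      Abelianization.of (⟨x, hx⟩ : P) ^ Nat.card A₁ := by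
    rw [Finset.prod_congr rfl (g := fun _ => Abelianization.of (⟨x, hx⟩ : P)) fun a ha => by
      congr 1
      exact Subtype.ext (mul_inv_eq_iff_eq_mul.2 (h1 a (Finset.mem_filter.1 ha).2)),
      Finset.prod_const, ← card_subgroupOf_of_le hA₁, ← Fintype.card_subtype,
      ← Nat.card_eq_fintype_card]
    rfl
  have h6 : ∏ a ∈ Finset.univ.filter fun a : A => ¬ (a : X) ∈ A₁,
      Abelianization.of (σ a ⟨x, hx⟩) ∈ L :=
    L.prod_mem fun a ha => mem_map_of_mem _ (h2 a a.2 (Finset.mem_filter.1 ha).2)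
  have h7 : Abelianization.of ((⟨c, hcP⟩ : P)⁻¹ * ⟨x, hx⟩ ^ Nat.card A₁) ∈ L := by
    rw [map_mul, map_inv, map_pow, h4, hy, ← Finset.prod_filter_mul_prod_filter_not _
      (fun a : A => (a : X) ∈ A₁), h5, mul_inv_rev, inv_mul_cancel_right]
    exact L.inv_mem h6
  obtain ⟨k, hk, e'⟩ := h7
  have := hK ((hof (k⁻¹ * ((⟨c, hcP⟩ : P)⁻¹ * ⟨x, hx⟩ ^ Nat.card A₁))).1
    (by rw [map_mul, map_inv, e', inv_mul_cancel]))
  exact (mul_mem_cancel_left (K.inv_mem hk)).1 this

omit [Finite X] in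
theorem le_cent_of_ea {p : ℕ} {U : Subgroup X} (hU : IsElementaryAbelian p U) :
    U ≤ centralizer (U : Set X) := le_centralizer_iff_isMulCommutative.2 hU.1

theorem cocyc_card {q : ℕ} [hq : Fact q.Prime] {U H : Subgroup X} (hU : IsElementaryAbelian q U)
    (hH : H ≤ U) {b : X} (hb : b ∈ U) (h : H ⊔ zpowers b = U) (hn : ¬ U ≤ H) :
    Nat.card U = q * Nat.card H := by
  have h1 := H5.card_le_mul_of_cocyclic hU hH hb h
  obtain ⟨k, hk⟩ := (isPGroup_of_isElementaryAbelian hU).exists_card_eq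
  obtain ⟨j, hj⟩ := ((isPGroup_of_isElementaryAbelian hU).to_le hH).exists_card_eq
  have h2 := card_lt_card_of_lt (lt_of_le_not_ge hH hn)
  refine le_antisymm h1 ?_
  rw [hk, hj] at h2
  rw [hk, hj, ← pow_succ']
  exact Nat.pow_le_pow_right hq.out.pos ((Nat.pow_lt_pow_iff_right hq.out.one_lt).1 h2)

theorem cocyc_sup_eq {q : ℕ} [hq : Fact q.Prime] {U H K : Subgroup X} (hU : IsElementaryAbelian q U)
    (hH : H ≤ U) {b : X} (hb : b ∈ U) (h : H ⊔ zpowers b = U) (hK : K ≤ U) (hn : ¬ K ≤ H) :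
    H ⊔ K = U := by
  have h1 := H5.card_le_mul_of_cocyclic hU hH hb h
  obtain ⟨k, hk⟩ := ((isPGroup_of_isElementaryAbelian hU).to_le (sup_le hH hK)).exists_card_eq
  obtain ⟨j, hj⟩ := ((isPGroup_of_isElementaryAbelian hU).to_le hH).exists_card_eq
  have h2 := card_lt_card_of_lt (lt_of_le_of_ne (le_sup_left : H ≤ H ⊔ K) fun e =>
    hn (le_sup_right.trans e.ge))
  refine eq_of_le_of_card_le (sup_le hH hK) (h1.trans ?_)
  rw [hk, hj] at h2
  rw [hk, hj, ← pow_succ']
  exact Nat.pow_le_pow_right hq.out.pos ((Nat.pow_lt_pow_iff_right hq.out.one_lt).1 h2)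

omit [Finite X] in
theorem cent_zp (u : X) : centralizer ((zpowers u : Subgroup X) : Set X) = centralizer {u} := by
  rw [zpowers_eq_closure, centralizer_closure]

theorem card_le_of_lt_pow {q k : ℕ} [hq : Fact q.Prime] {M N : Subgroup X} (hN : IsPGroup q N)
    (h : M < N) (hc : Nat.card N ≤ q ^ (k + 1)) : Nat.card M ≤ q ^ k := by
  obtain ⟨j, hj⟩ := (hN.to_le h.le).exists_card_eq
  have h2 := (card_lt_card_of_lt h).trans_le hc
  rw [hj] at h2 ⊢
  exact Nat.pow_le_pow_right hq.out.pos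
    (Nat.lt_succ_iff.1 ((Nat.pow_lt_pow_iff_right hq.out.one_lt).1 h2))

open scoped IsMulCommutative in
theorem relIndex_comm_le {V N₁ N₂ : Subgroup X} [IsMulCommutative V] {s t : X}
    (hs : s ∈ normalizer (V : Set X)) (ht : t ∈ normalizer (V : Set X))
    (h1 : ∀ v ∈ V, ⁅⁅v, s⁆, t⁆ ∈ N₁) (h2 : ∀ v ∈ V, ⁅⁅v, t⁆, s⁆ ∈ N₂) :
    (centralizer ({(t * s)⁻¹ * (s * t)} : Set X)).relIndex V ≤ Nat.card N₁ * Nat.card N₂ := by
  let σ : normalizer (V : Set X) → V →* V := fun g => (normalizerMonoidHom V g).toMonoidHom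
  let c : normalizer (V : Set X) → V →* V := fun g => MonoidHom.id V / σ g
  have hσ : ∀ g (v : V), ((σ g v : V) : X) = g * v * (g : X)⁻¹ := fun g v => rfl
  have hc' : ∀ g (v : V), c g v = v / σ g v := fun g v => rfl
  have hc : ∀ g (v : V), ((c g v : V) : X) = ⁅(v : X), (g : X)⁆ := fun g v => by
    rw [hc', coe_div, hσ, commutatorElement_def, div_eq_mul_inv]; group
  have key : ∀ (g k : normalizer (V : Set X)) (N : Subgroup X),
      (∀ v ∈ V, ⁅⁅v, (g : X)⁆, (k : X)⁆ ∈ N) → ((c k).comp (c g)).ker.index ≤ Nat.card N :=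
    fun g k N h => by
      rw [index_ker, ← card_map_subtype]
      refine card_le_of_le ?_
      rintro _ ⟨_, ⟨v, rfl⟩, rfl⟩
      rw [coe_subtype, MonoidHom.comp_apply, hc, hc]
      exact h v v.2
  refine le_trans (index_antitone ?_) (index_inf_le.trans
    (Nat.mul_le_mul (key ⟨s, hs⟩ ⟨t, ht⟩ N₁ h1) (key ⟨t, ht⟩ ⟨s, hs⟩ N₂ h2)))
  intro v hv
  have e1 := MonoidHom.mem_ker.1 hv.1
  have e2 := MonoidHom.mem_ker.1 hv.2
  rw [MonoidHom.comp_apply, hc', hc', map_div, div_eq_one, div_eq_div_iff_mul_eq_mul] at e1 e2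
  rw [mul_comm (σ _ v), ← e2, mul_right_inj] at e1
  have e3 := congrArg Subtype.val e1
  simp only [hσ] at e3
  rw [mem_subgroupOf, mem_centralizer_singleton_iff]
  calc (v : X) * ((t * s)⁻¹ * (s * t)) = (t * s)⁻¹ * (t * (s * v * s⁻¹) * t⁻¹) * (s * t) := by group
    _ = _ := by rw [e3]; group

namespace Act

variable {q r : ℕ} [Fact q.Prime] {V P T A : Subgroup X}

theorem ab (h : Act q r V P T A) {U : Subgroup X} (hUT : U ≤ T) (hU : IsElementaryAbelian q U)
    (hAU : A ≤ normalizer (U : Set X)) {u : X} (hu : u ∈ U)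
    (hi : (centralizer ({u} : Set X)).relIndex V ≤ q ^ 2) : u = 1 := by
  have := Fact.mk h.hr
  by_contra hu1
  have hUq := isPGroup_of_isElementaryAbelian hU
  have hAr := isPGroup_of_isElementaryAbelian h.hA
  have hUc := le_cent_of_ea hU
  have hAc := le_cent_of_ea h.hA
  have cU : ∀ {Q : Subgroup X}, Q ≤ P → ∀ {H : Subgroup X}, H ≤ U →
      (Nat.card H).Coprime (Nat.card Q) := fun hQ _ hH =>
    (coprime_card_of_isPGroup (h.hPq.coprime_dvd_left (card_dvd_of_le hQ)) (hUq.to_le hH)).symm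
  have cA : ∀ {Q : Subgroup X}, Q ≤ P → ∀ {H : Subgroup X}, H ≤ A →
      (Nat.card H).Coprime (Nat.card Q) := fun hQ _ hH =>
    (coprime_card_of_isPGroup (h.hPr.coprime_dvd_left (card_dvd_of_le hQ)) (hAr.to_le hH)).symm
  obtain ⟨p, R, hp, hpd, hRP, hR, hn, hR1, hmin⟩ := H9.exists_min_q (K := P) (B := A ⊔ U)
    (A := zpowers u) (sup_le h.AP (hUT.trans h.TP))
    (((cA le_rfl le_rfl).mul_left (cU le_rfl le_rfl)).coprime_dvd_left (card_sup_dvd_mul hAU))
    (Or.inr h.hP) fun e => hu1 (mem_bot.1 (h.fT.le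
      ⟨hUT hu, commutator_eq_bot_iff_le_centralizer'.1 e (mem_zpowers u)⟩))
  have := Fact.mk hp
  have hAR : A ≤ normalizer (R : Set X) := le_sup_left.trans hn
  have hUR : U ≤ normalizer (R : Set X) := le_sup_right.trans hn
  have hRs := isSolvable_of_le h.hP hRP
  rw [Ne, commutator_eq_bot_iff_le_centralizer, cent_zp] at hR1
  have hD : ⁅R, R⁆ ≤ centralizer {u} := by
    rw [← cent_zp, ← commutator_eq_bot_iff_le_centralizer]
    refine hmin _ (lt_of_le_of_ne (commutator_le_self R) fun e => hR1 ?_)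
      (le_normalizer_commutator hn hn)
    rw [eq_bot_of_le_commutator_of_isNilpotent hR.isNilpotent le_rfl e.ge]
    exact bot_le
  obtain ⟨H, hHU, ⟨b, hb, hHb⟩, hH⟩ : ∃ H ≤ U, (∃ b ∈ U, H ⊔ zpowers b = U) ∧
      ¬ R ⊓ centralizer (H : Set X) ≤ centralizer {u} := by
    by_contra! hc
    exact hR1 (le_of_cocyclic_centralizer_le hU.1 hUR (cU hRP le_rfl) hc)
  have huH : u ∉ H := fun e => hH (inf_le_right.trans (centralizer_le (by simpa using e)))
  have hUH : U ≤ centralizer (H : Set X) := hUc.trans (centralizer_le hHU)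
  have hHu := cocyc_sup_eq hU hHU hb hHb (zpowers_le.2 hu) (fun e => huH (e (mem_zpowers u)))
  have hUC : U ≤ normalizer ((R ⊓ centralizer (H : Set X) : Subgroup X) : Set X) :=
    le_normalizer_inf_centralizer hUR (hUH.trans (centralizer_le_normalizer _))
  set Q := ⁅R ⊓ centralizer (H : Set X), U⁆ with hQ
  have hQC : Q ≤ R ⊓ centralizer (H : Set X) := commutator_le_left_of_le_normalizer hUC
  have hQR := hQC.trans inf_le_left
  have hQu : ¬ Q ≤ centralizer {u} := fun e => hH (by
    have h1 : ⁅Q, U⁆ = ⊥ := by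
      rw [commutator_eq_bot_iff_le_centralizer, ← hHu, centralizer_sup', cent_zp]
      exact le_inf (hQC.trans inf_le_right) e
    exact (commutator_eq_bot_iff_le_centralizer.1 (commutator_eq_bot_of_commutator_commutator_eq_bot
      hUC (cU (inf_le_left.trans hRP) le_rfl) h1)).trans (centralizer_le (by simpa using hu)))
  set A₁ := A ⊓ normalizer (H : Set X) with hA₁
  have hA₁Q : A₁ ≤ normalizer (Q : Set X) := le_normalizer_commutator
    (le_normalizer_inf_centralizer (inf_le_left.trans hAR) inf_le_right) (inf_le_left.trans hAU)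
  have hfix : Q ⊓ centralizer (A₁ : Set X) ≤ centralizer {u} := fun x hx => by
    have hHR := hHU.trans hUR
    obtain ⟨c, hc, hcx⟩ := shapiro (P := R) (K := ⁅R, H⁆ ⊔ ⁅R, R⁆) hRs hAR (cA hRP le_rfl)
      le_sup_right (sup_le (commutator_le_left_of_le_normalizer hHR) (commutator_le_self R))
      (inf_le_left : A₁ ≤ A) (hQR hx.1) hx.2 fun a ha haH => by
        have h1 : H ⊔ H.map (MulAut.conj a).toMonoidHom = U := cocyc_sup_eq hU hHU hb hHb
          ((map_mono hHU).trans (map_conj_eq_of_mem_normalizer (hAU ha)).le) fun e =>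
            haH ⟨ha, mem_normalizer_of_conj_mem fun y hy => e (conj_mem_map_conj hy)⟩
        have h2 : Q.map (MulAut.conj a).toMonoidHom ≤ ⁅R, H⁆ := by
          rw [hQ, map_commutator, map_conj_eq_of_mem_normalizer (hAU ha),
            map_inf _ _ _ (MulAut.conj a).injective, map_conj_eq_of_mem_normalizer (hAR ha),
            ← centralizer_map_conj, commutator_le]
          intro c hc g hg
          rw [← h1] at hg
          obtain ⟨y, hy, z, hz, rfl⟩ := (mem_sup_iff_of_le_normalizer ((hHU.trans hUc).trans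
            ((centralizer_le ((le_sup_right.trans h1.le : _ ≤ U))).trans
              (centralizer_le_normalizer _)))).1 hg
          rw [CommCalc.comm_mul_right, commutatorElement_eq_one_iff_mul_comm.2 (hc.2 z hz).symm]
          simpa using commutator_mem_commutator hc.1 hy
        exact mem_sup_left (h2 (conj_mem_map_conj hx.1))
    have hcU : c ∈ centralizer (U : Set X) := centralizer_le hUT (h.fix ⟨hRP hc.1, hc.2⟩)
    have h3 := hD (mem_of_mem_commutator_sup_of_commutator_mem hHR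
      (le_normalizer_commutator hHR hHR) (commutator_le_self R) le_rfl (cU hRP hHU) hcx
      fun a ha => by
        rw [commutatorElement_eq_one_iff_mul_comm.2 ((mul_mem (inv_mem (centralizer_le hHU hcU))
          (pow_mem (hQC hx.1).2 _) : _ ∈ centralizer (H : Set X)) a ha).symm]
        exact one_mem _)
    rw [mul_mem_cancel_left (inv_mem (centralizer_le (by simpa using hu) hcU))] at h3
    exact FrobNPC.mem_of_pow_mem_of_coprime ((cA hRP inf_le_left).symm.coprime_dvd_left
      (R.orderOf_dvd_natCard (hQR hx.1))) h3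
  have hA₁e := isElementaryAbelian_of_le h.hA (inf_le_left : A₁ ≤ A)
  obtain ⟨A₀, hA₀, ⟨a, ha, hA₀a⟩, hP₂⟩ : ∃ A₀ ≤ A₁, (∃ a ∈ A₁, A₀ ⊔ zpowers a = A₁) ∧
      ¬ Q ⊓ centralizer (A₀ : Set X) ≤ centralizer {u} := by
    by_contra! hc
    exact hQu (le_of_cocyclic_centralizer_le hA₁e.1 hA₁Q (cA (hQR.trans hRP) inf_le_left) hc)
  have hfx : ¬ U ⊓ centralizer (A₁ : Set X) ≤ H := fun e => by
    have h1 := card_modEq_card_inf_centralizer (hAr.to_le inf_le_left) (inf_le_left.trans hAU : A₁ ≤ _)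
    have h2 := card_modEq_card_inf_centralizer (hAr.to_le inf_le_left) (inf_le_right : A₁ ≤ _)
    rw [le_antisymm (le_inf e inf_le_right) (inf_le_inf_right _ hHU)] at h1
    have h3 := h1.trans h2.symm
    have h4 := cocyc_card hU hHU hb hHb fun e => huH (e hu)
    obtain ⟨k, hk⟩ := (hUq.to_le hHU).exists_card_eq
    rw [h4, hk] at h3
    have h5 := (Nat.modEq_iff_dvd' (Nat.le_mul_of_pos_left _ (Fact.out : q.Prime).pos)).1 h3.symm
    rw [← Nat.sub_one_mul] at h5
    rcases (Nat.Prime.dvd_mul h.hr).1 h5 with h6 | h6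
    · rcases h.hq with rfl | rfl
      · exact h.hr.ne_one (Nat.dvd_one.1 h6)
      · exact h.hr2 ((Nat.prime_dvd_prime_iff_eq h.hr Nat.prime_two).1 h6)
    · exact h.hrq ((Nat.prime_dvd_prime_iff_eq h.hr Fact.out).1 (h.hr.dvd_of_dvd_pow h6))
  obtain ⟨y, hy, w, hw, rfl⟩ := (mem_sup_iff_of_le_normalizer ((hHU.trans hUc).trans
    ((centralizer_le (inf_le_left : _ ≤ U)).trans (centralizer_le_normalizer _)))).1
    ((cocyc_sup_eq hU hHU hb hHb inf_le_left hfx).ge hu)
  have key : ∀ x ∈ centralizer (H : Set X),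
      x ∈ centralizer ({y * w} : Set X) ↔ x ∈ centralizer ({w} : Set X) := fun x hx => by
    rw [mem_centralizer_singleton_iff, mem_centralizer_singleton_iff, ← mul_assoc, ← hx y hy,
      mul_assoc, mul_assoc, mul_right_inj]
  have hP₂C : Q ⊓ centralizer (A₀ : Set X) ≤ centralizer (H : Set X) :=
    inf_le_left.trans (hQC.trans inf_le_right)
  have hP₂P : Q ⊓ centralizer (A₀ : Set X) ≤ P := inf_le_left.trans (hQR.trans hRP)
  have hP₂V := hP₂P.trans h.PV
  have hpq : p ≠ q := fun e => (Fact.out : q.Prime).ne_one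
    (Nat.eq_one_of_dvd_coprimes h.hPq (e ▸ hpd) dvd_rfl)
  have hrp : r ≠ p := fun e => h.hr.ne_one 
    (Nat.eq_one_of_dvd_coprimes h.hPr (e ▸ hpd) dvd_rfl)
  refine hP₂ fun x hx => (key x (hP₂C hx)).2 (tb (W := V ⊓ centralizer (H : Set X))
    (P := Q ⊓ centralizer (A₀ : Set X)) (a := a) h.hr h.hq hpq hrp h.hrq h.hr2
    (isElementaryAbelian_of_le h.hV inf_le_left) (hR.to_le (inf_le_left.trans hQR))
    (le_normalizer_inf_centralizer hP₂V (hP₂C.trans (centralizer_le_normalizer _))) ?_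
    (hU.2 w hw.1) (h.hA.2 a ha.1) (hw.2 a ha).symm
    (le_normalizer_inf_centralizer (hUT.trans h.TV) (hUH.trans (centralizer_le_normalizer _)) hw.1)
    (le_normalizer_inf_centralizer (inf_le_left.trans (le_normalizer_commutator hUC le_normalizer))
      (inf_le_right.trans ((centralizer_le hA₀).trans (centralizer_le_normalizer _))) hw)
    (le_normalizer_inf_centralizer (inf_le_left.trans h.AV) inf_le_right ha)
    (le_normalizer_inf_centralizer hA₁Q ((le_cent_of_ea hA₁e).trans
      ((centralizer_le hA₀).trans (centralizer_le_normalizer _))) ha)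
    (fun z hz => (key z (hP₂C hz.1)).1 (hfix ⟨hz.1.1, ?_⟩)) ?_ hx)
  · refine eq_bot_iff.2 (le_trans (le_inf (inf_le_left.trans hP₂P) ?_) h.fP.le)
    exact commutator_eq_bot_iff_le_centralizer'.1 (commutator_eq_bot_of_pxq (hUq.to_le hHU)
      (isPGroup_of_isElementaryAbelian h.hV)
      (h.hPq.coprime_dvd_left (card_dvd_of_le (inf_le_left.trans hP₂P)))
      (hHU.trans (hUT.trans h.TV)) (inf_le_left.trans hP₂V)
      (commutator_eq_bot_iff_le_centralizer'.2 (inf_le_left.trans hP₂C))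
      (le_centralizer_iff.1 inf_le_right))
  · rw [← hA₀a, SetLike.mem_coe, centralizer_sup', cent_zp]
    exact ⟨hz.1.2, hz.2⟩
  · refine le_trans (le_of_eq ?_) ((relIndex_le_of_le_right (inf_le_left : V ⊓ centralizer (H : Set X) ≤ V)
      (relIndex_ne_zero' _ _)).trans hi)
    rw [← inf_relIndex_right, ← inf_relIndex_right (centralizer {y * w})]
    congr 1
    ext z
    exact and_congr_left fun hz => (key z hz.2).symm

omit [Finite X] [Fact q.Prime] in
theorem fV (h : Act q r V P T A) : T ⊓ centralizer (V : Set X) = ⊥ := by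
  refine eq_bot_iff.2 (le_trans (le_inf inf_le_left ?_) h.fT.le)
  refine commutator_eq_bot_iff_le_centralizer'.1 (eq_bot_iff.2 (le_trans (le_inf
    (commutator_le_left_of_le_normalizer (inf_le_left.trans h.TP)) ?_) h.fP.le))
  rw [commutator_comm]
  exact (commutator_mono inf_le_right le_rfl).trans
    (commutator_le_left_of_le_normalizer (le_normalizer_centralizer h.PV))

theorem n2 (h : Act q r V P T A) {t : X} (ht : t ∈ T)
    (hi : (centralizer ({t} : Set X)).relIndex V ≤ q ^ 2) : t = 1 := by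
  by_contra h1
  obtain ⟨k, hk⟩ := h.hT ⟨t, ht⟩
  obtain ⟨s, hs, hs1, hsq⟩ := H5.exists_pow_notMem_pow_mem (p := q) ⊥ k t (by simpa using h1)
    (mem_bot.2 (congrArg Subtype.val hk))
  have hsT : s ∈ T := zpowers_le.2 ht hs
  replace hi : (centralizer ({s} : Set X)).relIndex V ≤ q ^ 2 :=
    (relIndex_le_of_le_left (by rw [← cent_zp]; exact centralizer_le (by simpa using hs))
      (relIndex_ne_zero' _ _)).trans hi
  clear hs hk h1 ht
  have hVq := isPGroup_of_isElementaryAbelian h.hV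
  have hVc := le_cent_of_ea h.hV
  set U := conjClosure (zpowers s) A with hU
  have hUT : U ≤ T := conjClosure_le (zpowers_le.2 hsT) h.AT
  have hsU : zpowers s ≤ U := le_conjClosure _ _
  have hAU : A ≤ normalizer (U : Set X) := le_normalizer_conjClosure _ _
  have hUV := hUT.trans h.TV
  have hUU : U ≤ normalizer (U : Set X) := le_normalizer
  have step : ∀ W ≤ V, U ≤ normalizer (W : Set X) → A ≤ normalizer (W : Set X) →
      ⁅W, zpowers s⁆ ≤ ⁅⁅W, U⁆, U⁆ → ⁅W, U⁆ = ⊥ := fun W hW h2 h3 h4 =>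
    eq_bot_of_le_commutator_of_isNilpotent
      (isPGroup_sup_of_le_normalizer h.hT hVq h.TV).isNilpotent
      ((commutator_le_left_of_le_normalizer h2).trans (hW.trans le_sup_right))
      ((commutator_conjClosure_le (hsU.trans (le_normalizer_commutator
        (le_normalizer_commutator h2 hUU) hUU)) h3 (le_normalizer_commutator
          (le_normalizer_commutator h3 hAU) hAU) h4).trans
        (commutator_mono le_rfl (hUT.trans le_sup_left)))
  have fV : ∀ {D : Subgroup X}, D ≤ T → D ≤ centralizer (V : Set X) → D = ⊥ := fun a b =>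
    eq_bot_iff.2 ((le_inf a b).trans h.fV.le)
  have hV₀ : ⁅V, U⁆ ≤ V := commutator_le_left_of_le_normalizer hUV
  have hUV₀ := le_normalizer_commutator hUV hUU
  have hAV₀ := le_normalizer_commutator h.AV hAU
  have hV₁ : ⁅⁅V, U⁆, U⁆ ≤ ⁅V, U⁆ := commutator_le_left_of_le_normalizer hUV₀
  have hUV₁ := le_normalizer_commutator hUV₀ hUU
  have hN : ⁅V, zpowers s⁆ ≤ V := commutator_le_left_of_le_normalizer (hsU.trans hUV)
  have hN₁ : ⁅⁅V, U⁆, zpowers s⁆ < ⁅V, zpowers s⁆ := lt_of_le_not_ge (commutator_mono hV₀ le_rfl)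
    fun e => hs1 ((fV hUT (commutator_eq_bot_iff_le_centralizer'.1 (step V le_rfl hUV h.AV
      (e.trans (commutator_mono le_rfl hsU))))).le (hsU (mem_zpowers s)))
  have c1 : Nat.card ↥⁅⁅V, U⁆, zpowers s⁆ ≤ q ^ 1 := card_le_of_lt_pow (hVq.to_le hN) hN₁
    ((card_commutator_zpowers hVc (h.TV hsT)).trans_le hi)
  have hV₂ : ⁅⁅⁅V, U⁆, U⁆, U⁆ = ⊥ := by
    by_cases e : ⁅⁅V, U⁆, zpowers s⁆ ≤ ⁅⁅⁅V, U⁆, U⁆, U⁆
    · rw [step _ hV₀ hUV₀ hAV₀ e, commutator_bot_left]
    · have c2 := card_le_of_lt_pow (hVq.to_le (hN₁.le.trans hN)) (lt_of_le_not_ge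
        (commutator_mono hV₁ (le_refl (zpowers s))) fun e' =>
          e (e'.trans (commutator_mono le_rfl hsU))) c1
      rw [pow_zero, card_le_one_iff_eq_bot] at c2
      exact eq_bot_iff.2 (commutator_conjClosure_le le_normalizer_of_normal
        (le_normalizer_commutator hAV₀ hAU) le_normalizer_of_normal c2.le)
  have hC₂ := commutator_eq_bot_iff_le_centralizer.1 hV₂
  have a1 : ⁅V, ⁅U, U⁆⁆ ≤ ⁅⁅V, U⁆, U⁆ := by
    rw [commutator_comm V]
    exact CommCalc.three_subgroups hUV₁ hUV₁ (hVc.trans ((centralizer_le (hV₁.trans hV₀)).trans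
      (centralizer_le_normalizer _))) (by rw [commutator_comm U V]) le_rfl
  have a2 : ⁅U, U⁆ ≤ centralizer ((⁅V, U⁆ : Subgroup X) : Set X) :=
    le_centralizer_of_three (by rwa [commutator_comm U]) hC₂
  have hD : (⁅U, U⁆ : Subgroup X) ≤ U := commutator_le_self U
  have a3 : ⁅⁅U, U⁆, U⁆ = ⊥ := fV ((commutator_mono hD le_rfl).trans (hD.trans hUT))
    (le_centralizer_of_three (by rw [commutator_comm U V]; exact le_centralizer_iff.1 a2)
      (a1.trans hC₂))
  have hDe : IsElementaryAbelian q ⁅U, U⁆ := by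
    refine ⟨le_centralizer_iff_isMulCommutative.1 ((commutator_eq_bot_iff_le_centralizer.1 a3).trans
      (centralizer_le hD)), fun x hx => mem_bot.1 (h.fV.le ⟨pow_mem (hUT (hD hx)) q,
        fun v hv => ?_⟩)⟩
    have e := a1 (commutator_mem_commutator hv hx)
    rw [← commutatorElement_eq_one_iff_mul_comm, CommCalc.comm_pow_right (hC₂ e x (hD hx)),
      h.hV.2 _ (hV₀ (hV₁ e))]
  have hUc : U ≤ centralizer (U : Set X) := conjClosure_le_centralizer_self fun g hg => by
    have hs' : g * s * g⁻¹ ∈ U := conj_mem_of_mem_normalizer (hAU hg) (hsU (mem_zpowers s))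
    have c3 : Nat.card ↥⁅⁅V, U⁆, zpowers (g * s * g⁻¹)⁆ ≤ q ^ 1 := by
      rwa [zpowers_conj, ← map_conj_eq_of_mem_normalizer (hAV₀ hg), ← map_commutator,
        card_map_conj]
    have := h.hV.1
    have e := h.ab (hD.trans hUT) hDe (le_normalizer_commutator hAU hAU)
      (u := (s * (g * s * g⁻¹))⁻¹ * (g * s * g⁻¹ * s)) (by
        have := commutator_mem_commutator (U.inv_mem hs') (U.inv_mem (hsU (mem_zpowers s)))
        rwa [commutatorElement_def, inv_inv, inv_inv, ← mul_inv_rev, mul_assoc] at this)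
      ((relIndex_comm_le (hUV hs') (h.TV hsT) (fun v hv => commutator_mem_commutator
        (commutator_mem_commutator hv hs') (mem_zpowers s)) fun v hv => commutator_mem_commutator
          (commutator_mem_commutator hv (hsU (mem_zpowers s))) (mem_zpowers _)).trans
        ((Nat.mul_le_mul c1 c3).trans_eq (by ring)))
    rw [← zpowers_conj, cent_zp, zpowers_le, mem_centralizer_singleton_iff]
    exact (inv_mul_eq_one.1 e).symm
  refine hs1 (h.ab hUT ⟨le_centralizer_iff_isMulCommutative.1 hUc, ?_⟩ hAU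
    (hsU (mem_zpowers s)) hi)
  let W : Subgroup X :=
    { carrier := {y | y ∈ U ∧ y ^ q = 1}
      mul_mem' := fun {a b} ha hb => ⟨mul_mem ha.1 hb.1, by
        rw [Commute.mul_pow (hUc hb.1 a ha.1), ha.2, hb.2, one_mul]⟩
      one_mem' := ⟨one_mem _, one_pow _⟩
      inv_mem' := fun {a} ha => ⟨inv_mem ha.1, by rw [inv_pow, ha.2, inv_one]⟩ }
  have : U ≤ W := conjClosure_le_iff.2 fun g hg => by
    rw [← zpowers_conj]
    refine zpowers_le_of_mem ⟨map_conj_le_conjClosure _ hg (conj_mem_map_conj (mem_zpowers s)), ?_⟩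
    rw [conj_pow, mem_bot.1 hsq, mul_one, mul_inv_cancel]
  exact fun a ha => (this ha).2

theorem eo (h : Act q r V P T A) {E : Subgroup X} (hET : E ≤ T) (hE : IsElementaryAbelian q E)
    (h0 : E ≠ ⊥) : q ^ 2 * Nat.card E ≤ (centralizer (E : Set X)).relIndex V := by
  induction E using WellFoundedLT.induction with
  | ind E ih =>
  have hq : q.Prime := Fact.out
  have hEq := isPGroup_of_isElementaryAbelian hE
  have hVq := isPGroup_of_isElementaryAbelian h.hV
  have hEc := le_cent_of_ea hE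
  have hEP := hET.trans h.TP
  obtain ⟨H, hHE, ⟨b, hb, hHb⟩, hH⟩ : ∃ H ≤ E, (∃ b ∈ E, H ⊔ zpowers b = E) ∧
      ¬ P ⊓ centralizer (H : Set X) ≤ centralizer (E : Set X) := by
    by_contra! hc
    exact h0 (eq_bot_iff.2 ((le_inf hET (le_centralizer_iff.1 (le_of_cocyclic_centralizer_le hE.1
      hEP (coprime_card_of_isPGroup h.hPq hEq).symm hc))).trans h.fT.le))
  have hn : ¬ E ≤ H := fun e => hH (inf_le_right.trans (centralizer_le e))
  have pw : ∀ (K W : Subgroup X), W ≤ V → ∃ k, K.relIndex W = q ^ k := fun K W hW => by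
    obtain ⟨j, hj⟩ := (hVq.to_le hW).exists_card_eq
    obtain ⟨k, -, hk⟩ := (Nat.dvd_prime_pow hq).1 (hj ▸ relIndex_dvd_card K W)
    exact ⟨k, hk⟩
  rw [cocyc_card hE hHE hb hHb hn]
  by_cases hH0 : H = ⊥
  · rw [hH0, bot_sup_eq] at hHb
    rw [hH0, card_bot, mul_one, ← hHb, cent_zp, ← pow_succ]
    obtain ⟨k, hk⟩ := pw (centralizer {b}) V le_rfl
    have := mt (h.n2 (hET hb)) fun e => h0 (by rw [← hHb, e, zpowers_one_eq_bot])
    rw [hk] at this ⊢
    exact Nat.pow_le_pow_right hq.pos ((Nat.pow_lt_pow_iff_right hq.one_lt).1 (not_le.1 this))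
  have h1 := ih H (lt_of_le_not_ge hHE hn) (hHE.trans hET) (isElementaryAbelian_of_le hE hHE) hH0
  have hPH : P ⊓ centralizer (H : Set X) ≤
      normalizer ((V ⊓ centralizer (H : Set X) : Subgroup X) : Set X) :=
    le_normalizer_inf_centralizer (inf_le_left.trans h.PV)
      (inf_le_right.trans (centralizer_le_normalizer _))
  have hQ : ⁅P ⊓ centralizer (H : Set X), E⁆ ≤ P ⊓ centralizer (H : Set X) :=
    commutator_le_left_of_le_normalizer (le_normalizer_inf_centralizer hEP
      (hEc.trans ((centralizer_le hHE).trans (centralizer_le_normalizer _))))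
  have h2 : ¬ V ⊓ centralizer (H : Set X) ≤ centralizer (E : Set X) := fun e => hH (by
    refine commutator_eq_bot_iff_le_centralizer.1 (eq_bot_iff.2 (le_trans (le_inf
      (hQ.trans inf_le_left) ?_) h.fP.le))
    refine commutator_eq_bot_iff_le_centralizer'.1 (commutator_eq_bot_of_pxq (hEq.to_le hHE) hVq
      (h.hPq.coprime_dvd_left (card_dvd_of_le (hQ.trans inf_le_left)))
      (hHE.trans (hET.trans h.TV)) (hQ.trans (inf_le_left.trans h.PV))
      (commutator_eq_bot_iff_le_centralizer'.2 (hQ.trans inf_le_right)) (le_centralizer_iff.1 ?_))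
    rw [commutator_comm]
    exact (commutator_mono (le_centralizer_iff.1 e) le_rfl).trans
      (commutator_le_left_of_le_normalizer (le_normalizer_centralizer hPH)))
  obtain ⟨k, hk⟩ := pw (centralizer E) (V ⊓ centralizer (H : Set X)) inf_le_left
  have h3 : q ≤ (centralizer (E : Set X)).relIndex (V ⊓ centralizer (H : Set X)) := by
    rcases k with _ | k
    · exact (h2 (relIndex_eq_one.1 hk)).elim
    · rw [hk, pow_succ]
      exact Nat.le_mul_of_pos_left _ (pow_pos hq.pos k)
  have h4 := relIndex_mul_relIndex (centralizer (E : Set X) ⊓ V) (centralizer (H : Set X) ⊓ V) V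
    (inf_le_inf_right _ (centralizer_le hHE)) inf_le_right
  rw [inf_relIndex_right, inf_relIndex_right, inf_comm (centralizer (H : Set X)),
    show centralizer (E : Set X) ⊓ V = centralizer (E : Set X) ⊓ (V ⊓ centralizer (H : Set X)) from
      le_antisymm (le_inf inf_le_left (le_inf inf_le_right (inf_le_left.trans (centralizer_le hHE))))
        (inf_le_inf_left _ inf_le_left), inf_relIndex_right] at h4
  rw [← h4, mul_left_comm]
  exact Nat.mul_le_mul h3 h1

end Act

open CfsgLib.CopAut SemidirectProduct in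
theorem eo_of_reduced {q r : ℕ} [Fact q.Prime] (hr : r.Prime) (hq : q = 2 ∨ q = 3) (hr2 : r ≠ 2)
    {M V T A : Subgroup X} (hM : Group.IsSolvable M) (hMr : (Nat.card M).Coprime r)
    (hA : IsElementaryAbelian r A) (hAM : A ≤ normalizer (M : Set X))
    (hV : IsElementaryAbelian q V) (hMV : M ≤ normalizer (V : Set X))
    (hAV : A ≤ normalizer (V : Set X)) (hred : Reduced q M V) (hT : IsPGroup q T) (hTM : T ≤ M)
    (hAT : A ≤ normalizer (T : Set X))
    (hC : M ⊓ centralizer (A : Set X) ≤ normalizer (T : Set X)) : EO q T V := by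
  have := Fact.mk hr
  by_cases hT0 : T = ⊥
  · subst hT0
    exact ⟨fun t ht _ => mem_bot.1 ht ▸ one_mem _, fun E hE _ h => (h (hE.trans bot_le)).elim⟩
  have hrq : r ≠ q := fun e => hr.ne_one (Nat.eq_one_of_dvd_coprimes hMr
    ((e ▸ (hT.card_eq_or_dvd.resolve_left fun h => hT0 (card_eq_one.1 h))).trans
      (card_dvd_of_le hTM)) dvd_rfl)
  set N := normalizer (V : Set X) with hN
  set ψ : MulAut V →* MulAut V := MonoidHom.id _ with hψ
  have hfin := finite_semidirect (φ := ψ)
  set φ := normalizerMonoidHom V with hφd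
  have hφ : ∀ (m : N) (y : V), ((φ m y : V) : X) = m * y * (m : X)⁻¹ := fun m y => rfl
  set F : N →* V ⋊[ψ] MulAut V := inr.comp φ with hF
  have hker : F.ker = (centralizer (V : Set X)).subgroupOf N := by
    rw [hF, ← MonoidHom.comap_ker, (MonoidHom.ker_eq_bot_iff _).2 inr_injective,
      MonoidHom.comap_bot, hφd, normalizerMonoidHom_ker]
  have hfx : ∀ (g : N) (v : V), inl v ∈ centralizer ({F g} : Set (V ⋊[ψ] MulAut V)) ↔
      (v : X) ∈ centralizer ({(g : X)} : Set X) := fun g v => by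
    rw [hF, MonoidHom.comp_apply, inl_mem_centralizer_inr_iff, mem_centralizer_singleton_iff,
      Subtype.ext_iff, eq_comm (a := (v : X) * g), ← mul_inv_eq_iff_eq_mul]
    rfl
  have hF1 : ∀ g : N, F g ∈ centralizer (L ψ ⊤ : Set (V ⋊[ψ] MulAut V)) → F g = 1 := fun g hg => by
    rw [← MonoidHom.mem_ker, hker]
    intro v hv
    exact mem_centralizer_singleton_iff.1 ((hfx g ⟨v, hv⟩).1
      (mem_centralizer_singleton_iff.2 (hg _ (mem_map_of_mem _ (mem_top _)))))
  let b : Subgroup X → Subgroup (V ⋊[ψ] MulAut V) := fun K => (K.subgroupOf N).map F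
  have bmono : ∀ {K K' : Subgroup X}, K ≤ K' → b K ≤ b K' := fun h => map_mono (comap_mono h)
  have bn : ∀ {K K' : Subgroup X}, K ≤ normalizer (K' : Set X) →
      b K ≤ normalizer (b K' : Set (V ⋊[ψ] MulAut V)) := fun h =>
    map_normalizer_le' ((comap_mono h).trans (le_normalizer_comap _)) F
  have bV : ∀ K, b K ≤ normalizer (L ψ ⊤ : Set (V ⋊[ψ] MulAut V)) := fun K => by
    rintro _ ⟨g, -, rfl⟩
    exact (R_le_normalizer_iff (B := ⊤)).2 (fun _ _ _ _ => mem_top _) (mem_map_of_mem _ (mem_top _))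
  have bcard : ∀ {K : Subgroup X}, K ≤ N →
      Nat.card (b K) = (centralizer (V : Set X)).relIndex K := fun hK => by
    rw [← relIndex_ker, hker, relIndex_subgroupOf hK]
  have bea : ∀ {p : ℕ} {K : Subgroup X}, IsElementaryAbelian p K → IsElementaryAbelian p (b K) :=
    fun hK => isElementaryAbelian_map ⟨⟨⟨fun x y => Subtype.ext (Subtype.ext
      (le_cent_of_ea hK y.2 x x.2))⟩⟩, fun a ha => Subtype.ext (hK.2 a ha)⟩ F
  have hTb : IsPGroup q (b T) := (hT.comap_of_injective _ N.subtype_injective).map F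
  have hMb : Group.IsSolvable (b M) := isSolvable_map (isSolvable_subgroupOf hM N) F
  have hO : pCoreOf q (b M) = ⊥ := by
    set K := ((pCoreOf q (b M)).comap F ⊓ M.subgroupOf N) with hK
    have h1 : K.map F = pCoreOf q (b M) := le_antisymm
      (map_le_iff_le_comap.2 inf_le_left) fun y hy => by
        obtain ⟨g, hg, rfl⟩ := pCoreOf_le _ hy
        exact ⟨g, ⟨hy, hg⟩, rfl⟩
    have h2 : (K.map N.subtype).subgroupOf N = K := comap_map_eq_self_of_injective
      N.subtype_injective K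
    have h3 := hred (K.map N.subtype) (map_le_iff_le_comap.2 inf_le_right) (by
      rw [← map_subtype_subgroupOf hMV]
      refine map_normalizer_le' (le_normalizer_inf (le_trans ?_ (le_normalizer_comap F))
        le_normalizer) _
      exact map_le_iff_le_comap.1 (le_normalizer_pCoreOf (b M))) (by
      rw [← bcard (map_subtype_le _)]
      simp only [b, h2, h1]
      exact (pCoreOf_isPGroup _).exists_card_eq)
    rw [← h1, Subgroup.map_eq_bot_iff, hker]
    exact map_le_iff_le_comap.1 h3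
  set P := fittingOf (b M) with hP
  have hPM : P ≤ b M := fittingOf_le _
  have hPq : (Nat.card P).Coprime q := by
    rw [hP, ← pCoreOf_sup_piCoreOf_of_isNilpotent q (fittingOf_isNilpotent (b M)), pCoreOf_fittingOf,
      hO, bot_sup_eq]
    exact piCoreOf_compl_coprime q _
  have hMc : Nat.card (M.subgroupOf N) = Nat.card M := card_subgroupOf_of_le hMV
  have hTP : b T ≤ normalizer (P : Set (V ⋊[ψ] MulAut V)) :=
    (bmono hTM).trans (le_normalizer_fittingOf _)
  have hcop := coprime_card_of_isPGroup hPq hTb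
  have h : Act q r (L ψ ⊤) P (b T) (b A) := by
    refine ⟨hr, hq, hr2, hrq, isElementaryAbelian_map ⟨⟨⟨fun a b => Subtype.ext (hV.1.1.1 _ _)⟩⟩,
      fun a _ => Subtype.ext (hV.2 a a.2)⟩ _, isSolvable_of_le hMb hPM, hPq,
      hMr.coprime_dvd_left ((card_dvd_of_le hPM).trans (hMc ▸ card_map_dvd _ _)), hTb, bea hA,
      hPM.trans (bV M), bV T, bV A, hTP, (bn hAM).trans (normalizer_le_normalizer_fittingOf _),
      bn hAT, eq_bot_iff.2 fun y hy => ?_, eq_bot_iff.2 (le_trans (le_inf (le_trans (inf_le_inf_right _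
        (bmono hTM)) (inf_centralizer_fittingOf_le (layerIn_eq_bot_of_isSolvable hMb))) inf_le_left)
        (inf_eq_bot_of_coprime hcop).le), ?_⟩
    · obtain ⟨g, -, rfl⟩ := hPM hy.1
      exact hF1 g hy.2
    · have h1 : P ⊓ centralizer (b A : Set (V ⋊[ψ] MulAut V)) ≤
          normalizer (b T : Set (V ⋊[ψ] MulAut V)) := by
        refine (inf_le_inf_right _ hPM).trans ((map_inf_centralizer_map F
          ((comap_mono hAM).trans (le_normalizer_comap _)) ?_ (Or.inr (isSolvable_of_le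
            (isSolvable_subgroupOf hM N) inf_le_left))).le.trans (le_trans (map_mono ?_) (bn hC)))
        · exact (coprime_card_of_isPGroup (hMr.coprime_dvd_left (hMc ▸ card_dvd_of_le inf_le_left))
            ((isPGroup_of_isElementaryAbelian hA).comap_of_injective _ N.subtype_injective)).symm
        · exact fun g hg => ⟨hg.1, fun a ha => congrArg Subtype.val (hg.2 ⟨a, hAV ha⟩ ha)⟩
      refine commutator_eq_bot_iff_le_centralizer.1 (eq_bot_iff.2 (le_trans (le_inf ?_ ?_)
        (inf_eq_bot_of_coprime hcop).le))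
      · exact (commutator_mono inf_le_left le_rfl).trans (commutator_le_left_of_le_normalizer hTP)
      · rw [commutator_comm]
        exact commutator_le_left_of_le_normalizer h1
  have idx : ∀ (C : Subgroup (V ⋊[ψ] MulAut V)) (C' : Subgroup X),
      (∀ v : V, inl v ∈ C ↔ (v : X) ∈ C') → C.relIndex (L ψ ⊤) = C'.relIndex V := fun C C' e => by
    rw [← relIndex_comap, relIndex_top_right]
    unfold relIndex
    congr 1
    ext v
    exact e v
  refine ⟨fun t ht hi => ?_, fun E hE hEe hn => ?_⟩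
  · have := h.n2 (t := F ⟨t, hMV (hTM ht)⟩) (mem_map_of_mem F ht) (by rwa [idx _ _ (hfx _)])
    rwa [← MonoidHom.mem_ker, hker] at this
  · have hEN : E ≤ N := hE.trans (hTM.trans hMV)
    have := h.eo (bmono hE) (bea hEe) fun e => hn (by
      rw [← relIndex_eq_one, ← bcard hEN, e, card_bot])
    rwa [bcard hEN, idx _ (centralizer (E : Set X)) fun v => ⟨fun hv g hg => ?_, ?_⟩] at this
    · exact (mem_centralizer_singleton_iff.1 ((hfx ⟨g, hEN hg⟩ v).1
        (mem_centralizer_singleton_iff.2 (hv _ (mem_map_of_mem F hg)).symm))).symm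
    · rintro hv _ ⟨g, hg, rfl⟩
      exact (mem_centralizer_singleton_iff.1 ((hfx g v).2
        (mem_centralizer_singleton_iff.2 (hv g hg).symm))).symm

end CfsgLib.Sig
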