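import Cfsg.Agent.Lib.Sig.Q3b

/-!
# Uniqueness of the maximal `θ`-subgroup of characteristic `q`
-/

set_option autoImplicit false

namespace CfsgLib.Sig

open Subgroup Cfsg CfsgLib.Cop CfsgLib.H1
open scoped commutatorElement

variable {X : Type*} [Group X] [Finite X]

omit [Finite X] in
theorem le_normalizer_conjClosure_of {H Z M : Subgroup X} (h1 : H ≤ normalizer (Z : Set X))
    (h2 : H ≤ normalizer (M : Set X)) : H ≤ normalizer (conjClosure Z M : Set X) := fun g hg =>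
  mem_normalizer_of_map_conj_eq (by
    rw [map_conjClosure, map_conj_eq_of_mem_normalizer (h1 hg),
      map_conj_eq_of_mem_normalizer (h2 hg)])

omit [Finite X] in
theorem conjClosure_mono_right (Z : Subgroup X) {M N : Subgroup X} (h : M ≤ N) :
    conjClosure Z M ≤ conjClosure Z N :=
  conjClosure_le_iff.2 fun _ hg => map_conj_le_conjClosure Z (h hg)

theorem isSylowIn_ppOf_sup {q : ℕ} [Fact q.Prime] {M B : Subgroup X} (hB : IsPGroup q B)
    (hQB : pCoreOf q M ≤ B) (hBM : B ≤ M) : IsSylowIn q B (ppOf {q} M ⊔ B) := by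
  refine IsSylowIn.of_maximal le_sup_right hB fun T hT h1 h2 t ht => ?_
  obtain ⟨u, hu, b, hb, rfl⟩ :=
    (mem_sup_iff_of_le_normalizer' (hBM.trans (le_normalizer_ppOf M))).1 (h2 ht)
  have h3 : u ∈ T := (mul_mem_cancel_right (h1 hb)).1 ht
  have h4 := mem_piCoreOf_of_mem_ppOf hu h3 (isPGroup_iff_isPiSubgroup.1 hT)
  rw [← pCoreOf_eq_piCoreOf] at h4
  exact mul_mem (hQB h4) hb

namespace SF

variable {S : SF X} {q : ℕ} [hq : Fact q.Prime]

/-- `eo_of_reduced` and `reduced_conjClosure` (`M ⊓ C(A) ≤ θ(A)` by `IsTh.le_th`). -/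
theorem IsTh.eo (hr2 : S.r ≠ 2) (hq' : q = 2 ∨ q = 3) {M P Z T : Subgroup X} (hM : S.IsTh M)
    (hc : CharIn q M) (hP : IsSylowIn q P M) (hZ : IsElementaryAbelian q Z) (hZM : Z ≤ M)
    (hZP : Z ≤ centralizer (P : Set X)) (hAZ : S.A ≤ normalizer (Z : Set X)) (hT : IsPGroup q T)
    (hTM : T ≤ M) (hAT : S.A ≤ normalizer (T : Set X))
    (hn : S.th S.A ≤ normalizer (T : Set X)) : EO q T (conjClosure Z M) := by
  obtain ⟨-, h2, h3⟩ := reduced_conjClosure hc hP hZ hZM hZP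
  exact eo_of_reduced S.prime hq' hr2 hM.solv hM.cop S.elem hM.norm h2
    (le_normalizer_conjClosure Z M) (le_normalizer_conjClosure_of hAZ hM.norm) h3 hT hTM hAT
    ((hM.le_th le_rfl).trans hn)

/-- One side of `Ctx.pp`. -/
theorem Ctx.pp_half (hS : S.Ctx) (hr2 : S.r ≠ 2) (hq' : q = 2 ∨ q = 3) {M₁ M₂ B : Subgroup X}
    (h1 : S.Max M₁) (h2 : S.Max M₂) (hA1 : S.th S.A ≤ M₁) (hA2 : S.th S.A ≤ M₂)
    (hc1 : CharIn q M₁) (hc2 : CharIn q M₂) (h12 : pCoreOf q M₁ ≤ M₂) (h21 : pCoreOf q M₂ ≤ M₁)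
    (hB : B = pCoreOf q M₁ ⊔ pCoreOf q M₂) : jj q B = jj q (pCoreOf q M₂) := by
  have hB1 : B ≤ M₁ := hB ▸ sup_le (H1.pCoreOf_le M₁) h21
  have hB2 : B ≤ M₂ := hB ▸ sup_le h12 (H1.pCoreOf_le M₂)
  have hQ1 : pCoreOf q M₁ ≤ B := hB ▸ le_sup_left
  have hQ2 : pCoreOf q M₂ ≤ B := hB ▸ le_sup_right
  have hBq : IsPGroup q B := hB ▸ isPGroup_sup_of_le_normalizer (pCoreOf_isPGroup M₁)
    (pCoreOf_isPGroup M₂) (h12.trans (le_normalizer_pCoreOf M₂))
  have hAB : S.A ≤ normalizer (B : Set X) :=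
    hB ▸ le_normalizer_sup (h1.1.pCoreOf q).norm (h2.1.pCoreOf q).norm
  have hnB : M₁ ⊓ M₂ ≤ normalizer (B : Set X) := hB ▸ le_normalizer_sup
    (inf_le_left.trans (le_normalizer_pCoreOf M₁)) (inf_le_right.trans (le_normalizer_pCoreOf M₂))
  have hθB : S.th S.A ≤ normalizer (B : Set X) := (le_inf hA1 hA2).trans hnB
  obtain ⟨P, hPt, hP⟩ := h1.1.exists_sylow q
  have hZP : omz q P ≤ centralizer (P : Set X) := (omz_le P).trans inf_le_right
  have hZM : omz q P ≤ M₁ := (omz_le P).trans (inf_le_left.trans hP.le)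
  obtain ⟨y1, y2, -⟩ := reduced_conjClosure hc1 hP (omz_elem P) hZM hZP
  have hoff : EO q B (conjClosure (omz q P) M₁) := h1.1.eo hr2 hq' hc1 hP (omz_elem P) hZM hZP
    (le_normalizer_omz hPt.norm) hBq hB1 hAB hθB
  set Y := conjClosure (omz q P) M₁ with hY
  have hYQ1 : Y ≤ pCoreOf q M₁ := y1.trans inf_le_left
  have hMY : M₁ ≤ normalizer (Y : Set X) := le_normalizer_conjClosure _ _
  have hAY : S.A ≤ normalizer (Y : Set X) :=
    le_normalizer_conjClosure_of (le_normalizer_omz hPt.norm) h1.1.norm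
  have hYQ : Y ≤ pCoreOf q M₂ := le_pCoreOf_of_eo h2.1.solv hc2 y2 (hYQ1.trans h12)
    (hYQ1.trans hQ1) hQ2 (hB1.trans hMY) hoff
  have hY0 : Y ≠ ⊥ := ne_bot_of_le_ne_bot (omz_ne_bot hP.isPGroup (ne_bot_of_le_ne_bot
    (hc1.pCoreOf_ne_bot (hS.max_ne_bot h1)) (pCoreOf_le_sylow hP))) (le_conjClosure _ _)
  have hctrl := hS.ctrl h1 (h1.1.of_le (hYQ1.trans (H1.pCoreOf_le M₁)) hAY) hY0 hMY
  have hprim : M₂ ⊓ centralizer (Y : Set X) ≤ normalizer (B : Set X) :=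
    (le_inf (hctrl.le_of_centralizer (h2.1.inf_centralizer hAY) inf_le_right) inf_le_left).trans hnB
  have hG : ppOf {q} M₂ ⊔ B ≤ M₂ := sup_le (ppOf_le M₂) hB2
  have hGt : S.IsTh (ppOf {q} M₂ ⊔ B) := h2.1.of_le hG
    (le_normalizer_sup (h2.1.norm.trans (normalizer_le_normalizer_ppOf M₂)) hAB)
  have hGc : CharIn q (ppOf {q} M₂ ⊔ B) := hc2.of_le hG (hQ2.trans le_sup_right)
  have hGs := isSylowIn_ppOf_sup hBq hQ2 hB2
  have hZB : omz q B ≤ centralizer (B : Set X) := (omz_le B).trans inf_le_right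
  have hZG : omz q B ≤ ppOf {q} M₂ ⊔ B := (omz_le B).trans (inf_le_left.trans le_sup_right)
  obtain ⟨-, z2, -⟩ := reduced_conjClosure hGc hGs (omz_elem B) hZG hZB
  have hoff₂ := hGt.eo hr2 hq' hGc hGs (omz_elem B) hZG hZB (le_normalizer_omz hAB) hBq
    le_sup_right hAB hθB
  have hZQ : omz q B ≤ centralizer (pCoreOf q M₂ : Set X) := hZB.trans (centralizer_le hQ2)
  have z1 : conjClosure (omz q B) (ppOf {q} M₂ ⊔ B) ≤ zc (pCoreOf q M₂) :=
    conjClosure_le (le_inf ((le_inf (hZG.trans hG) hZQ).trans hc2) hZQ)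
      (hG.trans (le_normalizer_zc (le_normalizer_pCoreOf M₂)))
  exact jj_eq_of_le hQ2 fun E hE => maxEA_le_pCoreOf_of_eo h2.1.solv hBq hQ2 hB2 y2 hYQ
    (hB1.trans hMY) hoff hprim z2 (le_conjClosure _ _) z1
    (le_sup_left.trans (le_normalizer_conjClosure _ _)) hoff₂ hE

/-- Sketch: `B = Q₁ ⊔ Q₂`; `Y = ⟨Ω₁Z(P)^{M₁}⟩` for an `A`-invariant Sylow subgroup `P` of `M₁`
(`IsTh.exists_sylow`); `Y ≤ Q₂` by `le_pCoreOf_of_eo`; `M₁` controls `Y` (`Ctx.ctrl`), so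
`M₂ ⊓ C(Y) ≤ M₁ ⊓ M₂ ≤ N(B)`; `Y₂ = ⟨Ω₁Z(B)^G⟩`, `G = ppOf {q} M₂ ⊔ B` (`B` is Sylow in `G`, `G`
has characteristic `q`, `Ω₁Z(B) ≤ Z(Q₂)`). So `maxEA_le_pCoreOf_of_eo` applies, on both sides;
`J(B) = J(Q₁) = J(Q₂)` is normal in both. -/
theorem Ctx.pp (hS : S.Ctx) (hr2 : S.r ≠ 2) (hq' : q = 2 ∨ q = 3) {M₁ M₂ : Subgroup X}
    (h1 : S.Max M₁) (h2 : S.Max M₂) (hA1 : S.th S.A ≤ M₁) (hA2 : S.th S.A ≤ M₂)
    (hc1 : CharIn q M₁) (hc2 : CharIn q M₂) (h12 : pCoreOf q M₁ ≤ M₂) (h21 : pCoreOf q M₂ ≤ M₁) :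
    M₁ = M₂ := by
  have k2 := hS.pp_half hr2 hq' h1 h2 hA1 hA2 hc1 hc2 h12 h21 rfl
  have k1 := hS.pp_half hr2 hq' h2 h1 hA2 hA1 hc2 hc1 h21 h12 (sup_comm _ _)
  have hQ := h2.1.pCoreOf q
  have hctrl := hS.ctrl h2 (hQ.of_le (jj_le _) (le_normalizer_jj hQ.norm))
    (jj_ne_bot (pCoreOf_isPGroup M₂) (hc2.pCoreOf_ne_bot (hS.max_ne_bot h2)))
    (le_normalizer_jj (le_normalizer_pCoreOf M₂))
  refine h1.eq h2.1 (hctrl M₁ h1.1 ?_)
  rw [← k2, k1]
  exact le_normalizer_jj (le_normalizer_pCoreOf M₁)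

/-- Sketch: for `q ≥ 5` use `eq_of_stable` with `stableIn_of_isPSolvable`. Otherwise let `Q` be
`MaxQ`, `Z₀ = Ω₁Z(Q)`, `Z = ⟨Z₀^{θ(A)}⟩`. For `M ⊇ θ(A)` maximal of characteristic `q`:
`O_q(M) ≤ big ≤ Q`, `M` controls `O_q(M)`, so `Z₀ ≤ M`; `Q ⊓ M` is Sylow in `M`
(`MaxQ.isSylowIn`), `F = ⟨Z₀^M⟩ ≥ Z`. Let `L` control `Z`; `big` centralizes `Z` (it lies in all
`θ(A)`-conjugates of `Q`), so `L` has characteristic `q` by `h`. `C = M ⊓ C(F) ≤ L`;
`B = O_q(M ⊓ L) ≥ O_q(M)`, `EO q B F`, so every `E ∈ MaxEA q B` lies in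
`B ⊓ C ≤ O_q(C) ≤ O_q(M)`, `J(B) = J(O_q M)` is controlled by `M`. `N_{O_q L}(B)` normalizes
`J(B)`, so lies in `M ⊓ O_q(L) ≤ B`; hence `O_q(L) ≤ B` (normalizers grow in `B O_q(L)`). Now `pp`
gives `M = L`. -/
theorem Ctx.cu (hS : S.Ctx) (hr2 : S.r ≠ 2)
    (h : ∀ L, S.Max L → S.big q (S.th S.A) ≤ L → S.th S.A ≤ L → CharIn q L) : S.CU q := by
  by_cases hq' : q = 2 ∨ q = 3
  swap
  · push Not at hq'
    have h3 : ∀ M, S.IsTh M → StableIn q M := fun M hM =>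
      stableIn_of_isPSolvable (isPSolvable_of_isSolvable hM.solv)
        ⟨hq'.1, fun h3 => absurd h3 hq'.2⟩
    exact fun M N hM k1 k2 hN k3 k4 => hS.eq_of_stable hM k1 k2 (h3 M hM.1) hN k3 k4 (h3 N hN.1)
  obtain ⟨Q, hQ⟩ := S.exists_maxQ q
  have hAZ₀ : S.A ≤ normalizer (omz q Q : Set X) := le_normalizer_omz hQ.isTh.norm
  have hZ₀t : S.IsTh (omz q Q) := hQ.isTh.of_le ((omz_le Q).trans inf_le_left) hAZ₀
  have hZ₀Q : omz q Q ≤ centralizer (Q : Set X) := (omz_le Q).trans inf_le_right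
  set Z := conjClosure (omz q Q) (S.th S.A) with hZ
  have hAZ : S.A ≤ normalizer (Z : Set X) := le_normalizer_conjClosure_of hAZ₀ isTh_thA.norm
  have hθZ : S.th S.A ≤ normalizer (Z : Set X) := le_normalizer_conjClosure _ _
  have hOQ : ∀ M, S.Max M → S.th S.A ≤ M → pCoreOf q M ≤ Q := fun M hM hA =>
    hQ.le_of_normalized (hM.1.pCoreOf q) (pCoreOf_isPGroup M) (hA.trans (le_normalizer_pCoreOf M))
  have hZ₀M : ∀ M, S.Max M → S.th S.A ≤ M → CharIn q M → omz q Q ≤ M := fun M hM hA hc =>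
    (hS.ctrl hM (hM.1.pCoreOf q) (hc.pCoreOf_ne_bot (hS.max_ne_bot hM))
      (le_normalizer_pCoreOf M)).le_of_centralizer hZ₀t (hZ₀Q.trans (centralizer_le (hOQ M hM hA)))
  suffices key : ∀ L, S.Max L → S.Ctrl L Z → ∀ M, S.Max M → S.th S.A ≤ M → CharIn q M → M = L by
    intro M N hM k1 k2 hN k3 k4
    obtain ⟨L, hL, hLZ⟩ := hS.exists_ctrl
      (hM.1.of_le (conjClosure_le (hZ₀M M hM k1 k2) (k1.trans le_normalizer)) hAZ)
      (ne_bot_of_le_ne_bot (omz_ne_bot hQ.isPGroup (ne_bot_of_le_ne_bot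
        (k2.pCoreOf_ne_bot (hS.max_ne_bot hM)) (hOQ M hM k1))) (le_conjClosure _ _))
    rw [key L hL hLZ M hM k1 k2, key L hL hLZ N hN k3 k4]
  intro L hL hLZ M hM hA hc
  have hAL : S.th S.A ≤ L := hLZ _ isTh_thA hθZ
  have hcL : CharIn q L := h L hL (hLZ.le_of_centralizer (isTh_big le_rfl) (le_centralizer_iff.1
    (conjClosure_le (hZ₀Q.trans (centralizer_le (hQ.big_le le_rfl)))
      (le_normalizer_centralizer (le_normalizer_big _))))) hAL
  have hP := hQ.isSylowIn hM.1 (hA.trans le_normalizer)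
  have hZP : omz q Q ≤ centralizer ((Q ⊓ M : Subgroup X) : Set X) :=
    hZ₀Q.trans (centralizer_le inf_le_left)
  obtain ⟨f1, f2, -⟩ := reduced_conjClosure hc hP (omz_elem Q) (hZ₀M M hM hA hc) hZP
  have hML := hM.1.inf hL.1.norm
  have hBt := hML.pCoreOf q
  have hBM : pCoreOf q (M ⊓ L) ≤ M := (H1.pCoreOf_le _).trans inf_le_left
  have hBL : pCoreOf q (M ⊓ L) ≤ L := (H1.pCoreOf_le _).trans inf_le_right
  have hoff := hM.1.eo hr2 hq' hc hP (omz_elem Q) (hZ₀M M hM hA hc) hZP hAZ₀ (pCoreOf_isPGroup _)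
    hBM hBt.norm ((le_inf hA hAL).trans (le_normalizer_pCoreOf _))
  set F := conjClosure (omz q Q) M with hF
  set B := pCoreOf q (M ⊓ L) with hB
  have hMF : M ≤ normalizer (F : Set X) := le_normalizer_conjClosure _ _
  have hAF : S.A ≤ normalizer (F : Set X) := le_normalizer_conjClosure_of hAZ₀ hM.1.norm
  have hCL : M ⊓ centralizer (F : Set X) ≤ L := hLZ.le_of_centralizer (hM.1.inf_centralizer hAF)
    (inf_le_right.trans (centralizer_le (conjClosure_mono_right _ hA)))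
  have hOL : pCoreOf q M ≤ L :=
    (le_inf (H1.pCoreOf_le M) (le_centralizer_iff.1 (f1.trans inf_le_right))).trans hCL
  have hOB : pCoreOf q M ≤ B := pCoreOf_le_pCoreOf inf_le_left (le_inf (H1.pCoreOf_le M) hOL)
  have hJ : jj q B = jj q (pCoreOf q M) := jj_eq_of_le hOB fun E hE => by
    have e1 : E ≤ centralizer (F : Set X) := (le_cent_of_ea hE.2.1).trans
      (centralizer_le (hoff.le_maxEA f2 ((f1.trans inf_le_left).trans hOB) hE))
    have e2 : B ⊓ (M ⊓ centralizer (F : Set X)) ≤ pCoreOf q (M ⊓ centralizer (F : Set X)) :=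
      pCoreOf_inf_le (le_inf inf_le_left hCL)
    exact (le_inf hE.1 (le_inf (hE.1.trans hBM) e1)).trans (e2.trans
      (pCoreOf_le_of_le_normalizer inf_le_left (le_normalizer_inf_centralizer le_normalizer hMF)))
  have hO := hM.1.pCoreOf q
  have hctrl := hS.ctrl hM (hO.of_le (jj_le _) (le_normalizer_jj hO.norm))
    (jj_ne_bot (pCoreOf_isPGroup M) (hc.pCoreOf_ne_bot (hS.max_ne_bot hM)))
    (le_normalizer_jj (le_normalizer_pCoreOf M))
  rw [← hJ] at hctrl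
  have hRq : IsPGroup q ↥(B ⊔ pCoreOf q L) := isPGroup_sup_of_le_normalizer (pCoreOf_isPGroup _)
    (pCoreOf_isPGroup L) (hBL.trans (le_normalizer_pCoreOf L))
  have hRL : B ⊔ pCoreOf q L ≤ L := sup_le hBL (H1.pCoreOf_le L)
  have hRt : S.IsTh (B ⊔ pCoreOf q L) :=
    hL.1.of_le hRL (le_normalizer_sup hBt.norm (hL.1.pCoreOf q).norm)
  have hLB : pCoreOf q L ≤ B := by
    by_contra hne
    refine (lt_inf_normalizer_of_isPGroup hRq
      (lt_of_le_of_ne le_sup_left fun e => hne (e ▸ le_sup_right))).not_ge ?_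
    have e1 := hctrl _ (hRt.inf_normalizer hBt.norm) (le_normalizer_jj inf_le_right)
    refine (le_inf inf_le_left e1).trans (le_pCoreOf (le_inf inf_le_right (inf_le_left.trans hRL))
      (le_normalizer_inf (le_normalizer_sup (le_normalizer_pCoreOf _)
        (inf_le_right.trans (le_normalizer_pCoreOf L))) (inf_le_left.trans le_normalizer))
      hRq.to_inf_left)
  exact hS.pp hr2 hq' hM hL hA hAL hc hcL hOL (hLB.trans hBM)

end SF

end CfsgLib.Sig
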