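import Cfsg.Agent.Lib.Sig.Q2
import Cfsg.Agent.Lib.Sig.Big

/-!
# Pushing up without small offenders: the first half
-/

set_option autoImplicit false

namespace CfsgLib.Sig

open Subgroup Cfsg CfsgLib.Cop CfsgLib.H1
open scoped commutatorElement

variable {X : Type*} [Group X]

/-- `Ω₁(Z(P))` -/
def omz (q : ℕ) (P : Subgroup X) : Subgroup X where
  carrier := {z | z ∈ zc P ∧ z ^ q = 1}
  mul_mem' := fun {a b} ha hb => ⟨mul_mem ha.1 hb.1, by
    rw [Commute.mul_pow (hb.1.2 a ha.1.1), ha.2, hb.2, one_mul]⟩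
  one_mem' := ⟨one_mem _, one_pow _⟩
  inv_mem' := fun {a} ha => ⟨inv_mem ha.1, by rw [inv_pow, ha.2, inv_one]⟩

/-- the subgroup generated by the elementary abelian subgroups of maximal order -/
def jj (q : ℕ) (P : Subgroup X) : Subgroup X := sSup {E | MaxEA q P E}

variable {q : ℕ}

theorem omz_le (P : Subgroup X) : omz q P ≤ zc P := fun _ h => h.1

theorem omz_elem (P : Subgroup X) : IsElementaryAbelian q (omz q P) := by
  refine ⟨le_centralizer_iff_isMulCommutative.1 ?_, fun a ha => ha.2⟩
  exact (omz_le P).trans ((zc_comm P).trans (centralizer_le (omz_le P)))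

theorem le_normalizer_omz {H P : Subgroup X} (h : H ≤ normalizer (P : Set X)) :
    H ≤ normalizer (omz q P : Set X) := by
  have key : ∀ g ∈ H, ∀ z ∈ omz q P, g * z * g⁻¹ ∈ omz q P := fun g hg z hz =>
    ⟨conj_mem_of_mem_normalizer (le_normalizer_zc h hg) hz.1, by
      rw [conj_pow, hz.2, mul_one, mul_inv_cancel]⟩
  intro g hg
  rw [mem_normalizer_iff]
  refine fun z => ⟨key g hg z, fun hz => ?_⟩
  have := key g⁻¹ (inv_mem hg) _ hz
  simpa [mul_assoc] using this

theorem jj_le (P : Subgroup X) : jj q P ≤ P := sSup_le fun _ h => h.1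

theorem EO.mono {T T' V : Subgroup X} (h : EO q T V) (h' : T' ≤ T) : EO q T' V :=
  ⟨fun t ht => h.elt t (h' ht), fun E hE => h.sub E (hE.trans h')⟩

theorem EO.map_conj {T V : Subgroup X} (h : EO q T V) (g : X) :
    EO q (T.map (MulAut.conj g).toMonoidHom) (V.map (MulAut.conj g).toMonoidHom) := by
  constructor
  · rintro _ ⟨t, ht, rfl⟩ hi
    have h1 : centralizer ({(MulAut.conj g).toMonoidHom t} : Set X) =
        (centralizer ({t} : Set X)).map (MulAut.conj g).toMonoidHom := by
      ext y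
      rw [mem_map_conj_iff, mem_centralizer_singleton_iff, mem_centralizer_singleton_iff]
      constructor
      · intro h2
        have h3 : y * (g * t * g⁻¹) = g * t * g⁻¹ * y := h2
        calc g⁻¹ * y * g * t = g⁻¹ * (y * (g * t * g⁻¹)) * g := by group
          _ = t * (g⁻¹ * y * g) := by rw [h3]; group
      · intro h2
        show y * (g * t * g⁻¹) = g * t * g⁻¹ * y
        calc y * (g * t * g⁻¹) = g * (g⁻¹ * y * g * t) * g⁻¹ := by group
          _ = g * t * g⁻¹ * y := by rw [h2]; group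
    rw [h1, relIndex_map_conj] at hi
    rw [centralizer_map_conj]
    exact mem_map_of_mem _ (h.elt t ht hi)
  · intro E hE hEe hn
    have := h.sub (E.map (MulAut.conj g⁻¹).toMonoidHom)
      ((map_mono hE).trans (map_conj_inv_map_conj g T).le) (isElementaryAbelian_map hEe _) (by
        intro h1
        apply hn
        rw [centralizer_map_conj, ← map_conj_map_conj_inv g E]
        exact map_mono h1)
    rwa [← relIndex_map_conj _ _ g, ← relIndex_map_conj _ V g, ← centralizer_map_conj,
      ← centralizer_map_conj, map_conj_map_conj_inv] at this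

variable [Finite X]

theorem le_normalizer_jj {H P : Subgroup X} (h : H ≤ normalizer (P : Set X)) :
    H ≤ normalizer (jj q P : Set X) := by
  intro g hg
  refine mem_normalizer_of_map_conj_eq (eq_of_le_of_card_le ?_ (card_map_conj _ _).ge)
  rw [map_le_iff_le_comap, jj, sSup_le_iff]
  intro E hE
  rw [← map_le_iff_le_comap]
  exact le_sSup (MaxEA.map_conj hE (h hg))

/-- as `hJ` in `PrimPair.involves_S4` -/
theorem jj_eq_of_le {P B : Subgroup X} (h : P ≤ B) (h1 : ∀ E, MaxEA q B E → E ≤ P) :
    jj q B = jj q P := by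
  obtain ⟨A, hA⟩ := exists_maxEA q B
  unfold jj
  congr 1
  ext E
  constructor
  · intro hE
    exact ⟨h1 E hE, hE.2.1, fun C hC hCe => hE.2.2 C (hC.trans h) hCe⟩
  · intro hE
    exact ⟨hE.1.trans h, hE.2.1, fun C hC hCe =>
      (hA.2.2 C hC hCe).trans (hE.2.2 A (h1 A hA) hA.2.1)⟩

variable [hq : Fact q.Prime]

theorem omz_ne_bot {P : Subgroup X} (hP : IsPGroup q P) (h : P ≠ ⊥) : omz q P ≠ ⊥ := by
  obtain ⟨z₀, hz₀, hz₀1⟩ := (zc P).bot_or_exists_ne_one.resolve_left (zc_ne_bot hP h)
  obtain ⟨k, hk⟩ := hP ⟨z₀, hz₀.1⟩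
  obtain ⟨z, hz, hz1, hzp⟩ := H5.exists_pow_notMem_pow_mem (p := q) ⊥ k z₀ (by simpa using hz₀1)
    (mem_bot.2 (congrArg Subtype.val hk))
  intro h0
  exact hz1 (h0 ▸ (show z ∈ omz q P from ⟨zpowers_le_of_mem hz₀ hz, mem_bot.1 hzp⟩))

theorem jj_ne_bot {P : Subgroup X} (hP : IsPGroup q P) (h : P ≠ ⊥) : jj q P ≠ ⊥ := by
  obtain ⟨A, hA⟩ := exists_maxEA q P
  intro h0
  have h1 : A = ⊥ := eq_bot_iff.2 ((le_sSup (s := {E | MaxEA q P E}) hA).trans h0.le)
  have h2 := hA.2.2 _ ((omz_le P).trans inf_le_left) (omz_elem (q := q) P)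
  rw [h1, card_bot] at h2
  exact omz_ne_bot hP h (eq_bot_of_card_le _ h2)

/-- as `NoOff.le_maxEA` -/
theorem EO.le_maxEA {B V E : Subgroup X} (h : EO q B V) (hV : IsElementaryAbelian q V)
    (hVB : V ≤ B) (hE : MaxEA q B E) : V ≤ E := by
  have h0 : E ≤ centralizer (V : Set X) := by
    by_contra hn
    have h1 := h.sub E hE.1 hE.2.1 hn
    have h2 := hE.relIndex_le hV hVB
    have h3 := Nat.pos_of_ne_zero (relIndex_ne_zero' (centralizer (V : Set X)) E)
    have h4 : 2 ≤ q ^ 2 := by nlinarith [hq.out.two_le]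
    nlinarith
  exact (le_inf le_rfl (le_centralizer_iff.1 h0)).trans (hE.inf_centralizer_le hV hVB)

/-- as `noOff_conjClosure` (commutativity is not needed) -/
theorem eo_conjClosure {R Y L : Subgroup X}
    (h : ∀ g ∈ L, EO q R (Y.map (MulAut.conj g).toMonoidHom)) : EO q R (conjClosure Y L) := by
  set F := conjClosure Y L with hFd
  constructor
  · intro t ht hi
    have : F ≤ centralizer ({t} : Set X) := by
      rw [hFd, conjClosure_le_iff]
      intro g hg y hy
      have h1 := (h g hg).elt t ht ((relIndex_le_of_le_right (map_conj_le_conjClosure Y hg)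
        (relIndex_ne_zero' _ _)).trans hi)
      exact mem_centralizer_singleton_iff.2 (h1 y hy)
    exact fun y hy => mem_centralizer_singleton_iff.1 (this hy)
  intro U
  induction U using WellFoundedLT.induction with
  | ind U ih =>
  intro hU hUe h0
  obtain ⟨g, hg, hg'⟩ : ∃ g ∈ L, ¬ Y.map (MulAut.conj g).toMonoidHom ≤ centralizer (U : Set X) := by
    by_contra hn
    push Not at hn
    exact h0 (le_centralizer_iff.1 (conjClosure_le_iff.2 hn))
  set Y' := Y.map (MulAut.conj g).toMonoidHom with hY'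
  have hY'F : Y' ≤ F := map_conj_le_conjClosure Y hg
  set U₁ := U ⊓ centralizer (Y' : Set X) with hU₁
  have h1 : (centralizer (F : Set X)).relIndex U₁ ≤ (centralizer (U₁ : Set X)).relIndex F := by
    by_cases h1 : U₁ ≤ centralizer (F : Set X)
    · rw [relIndex_eq_one.2 h1]
      exact Nat.pos_of_ne_zero (relIndex_ne_zero' _ _)
    · refine le_trans ?_ (ih U₁ (lt_of_le_of_ne inf_le_left fun h1 =>
        hg' (le_centralizer_iff.1 (inf_eq_left.1 h1))) (inf_le_left.trans hU)
        (isElementaryAbelian_of_le hUe inf_le_left) h1)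
      exact Nat.le_mul_of_pos_left _ (pow_pos hq.out.pos 2)
  have h2 := (h g hg).sub U hU hUe fun h2 => hg' (le_centralizer_iff.1 h2)
  have h3 : (centralizer (F : Set X)).relIndex U =
      (centralizer (F : Set X)).relIndex U₁ * (centralizer (Y' : Set X)).relIndex U := by
    rw [← relIndex_inf_self (centralizer (Y' : Set X)), ← relIndex_inf_self _ U,
      ← relIndex_inf_self _ U₁, ← hU₁, ← relIndex_mul_relIndex _ U₁ U _ inf_le_left]
    · congr 2
      rw [hU₁, inf_assoc, inf_eq_right.2 (centralizer_le hY'F)]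
    · exact inf_le_inf_left _ (centralizer_le hY'F)
  have h4 : (centralizer (U : Set X)).relIndex F =
      (centralizer (U : Set X)).relIndex (F ⊓ centralizer (U₁ : Set X)) *
        (centralizer (U₁ : Set X)).relIndex F := by
    rw [← relIndex_inf_self (centralizer (U₁ : Set X)), ← relIndex_inf_self _ F,
      ← relIndex_inf_self _ (F ⊓ centralizer (U₁ : Set X)),
      ← relIndex_mul_relIndex _ (F ⊓ centralizer (U₁ : Set X)) F _ inf_le_left]
    · congr 2
      rw [inf_assoc, inf_eq_right.2 (centralizer_le (inf_le_left : U₁ ≤ U))]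
    · exact inf_le_inf_left _ (centralizer_le (inf_le_left : U₁ ≤ U))
  rw [h3, h4, mul_comm ((centralizer (F : Set X)).relIndex U₁), ← mul_assoc]
  exact Nat.mul_le_mul (h2.trans (relIndex_le_of_le_right
    (le_inf hY'F (le_centralizer_iff.1 inf_le_right)) (relIndex_ne_zero' _ _))) h1

/-- as `exists_reduced` -/
theorem reduced_conjClosure {M P Z : Subgroup X} (hc : CharIn q M) (hP : IsSylowIn q P M)
    (hZ : IsElementaryAbelian q Z) (hZM : Z ≤ M) (hZP : Z ≤ centralizer (P : Set X)) :
    conjClosure Z M ≤ zc (pCoreOf q M) ∧ IsElementaryAbelian q (conjClosure Z M) ∧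
      Reduced q M (conjClosure Z M) := by
  have hQS := pCoreOf_le_sylow hP
  have hzQ : Z ≤ centralizer (pCoreOf q M : Set X) := hZP.trans (centralizer_le hQS)
  set Y := conjClosure Z M with hY
  have hYM : Y ≤ M := conjClosure_le_of_le hZM
  have hYC : Y ≤ centralizer (pCoreOf q M : Set X) :=
    conjClosure_le hzQ (le_normalizer_centralizer (le_normalizer_pCoreOf M))
  have hYQ : Y ≤ pCoreOf q M := (le_inf hYM hYC).trans hc
  refine ⟨le_inf hYQ hYC, ?_, ?_⟩
  · refine isElementaryAbelian_of_le (omz_elem (q := q) (pCoreOf q M)) ?_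
    refine conjClosure_le (fun z hz => ⟨le_inf hYQ hYC (le_conjClosure _ _ hz), hZ.2 z hz⟩)
      (le_normalizer_omz (le_normalizer_pCoreOf M))
  · rintro K hK hKn ⟨j, hj⟩
    have hT := hP.inf_of_le_normalizer hK (hP.le.trans hKn)
    have h1 := hT.sup_eq_of_relIndex_eq_pow (N := K ⊓ centralizer (Y : Set X)) inf_le_left
      (by rwa [relIndex_inf_self])
    rw [le_centralizer_iff, hY, conjClosure_le_iff]
    intro g hg
    obtain ⟨c, hc', hcg⟩ := hT.frattini_elem (hKn hg)
    have h2 : Z.map (MulAut.conj (c * g)).toMonoidHom ≤ centralizer (K : Set X) := by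
      rw [← h1, centralizer_sup']
      refine le_inf ((map_conj_le_conjClosure _ (mul_mem (hK hc') hg)).trans
        (le_centralizer_iff.1 inf_le_right)) ?_
      rw [← map_conj_eq_of_mem_normalizer hcg, centralizer_map_conj]
      exact map_mono (hZP.trans (centralizer_le inf_le_left))
    rw [map_conj_mul] at h2
    rw [← map_conj_inv_map_conj c (Z.map (MulAut.conj g).toMonoidHom)]
    refine (map_mono h2).trans (map_conj_eq_of_mem_normalizer ?_).le
    exact le_normalizer_centralizer le_normalizer (inv_mem hc')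

/-- as `le_pCoreOf_of_noOff`: `EO.sub` for `W` gives `q² |W : Z| ≤ q |W : Z|` unless
`W ≤ C(Y)`, that is `W ≤ Z` (`h8`); the end is the same. -/
theorem le_pCoreOf_of_eo {M B Y : Subgroup X} (hs : Group.IsSolvable M) (hc : CharIn q M)
    (hY : IsElementaryAbelian q Y) (hYM : Y ≤ M) (hYB : Y ≤ B) (hQ : pCoreOf q M ≤ B)
    (hn : B ≤ normalizer (Y : Set X)) (hoff : EO q B Y) : Y ≤ pCoreOf q M := by
  by_contra hnot
  obtain ⟨x, hxM, L, hL, hx, hi, hcomm⟩ := exists_two_conj hs hYM hY hnot
  set Q := pCoreOf q M with hQd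
  set Y' := Y.map (MulAut.conj x).toMonoidHom with hY'
  set A₀ := Y ⊓ pCoreOf q L with hA₀
  set W := A₀.map (MulAut.conj x).toMonoidHom with hW
  have hxL : x ∈ L := pResidualOf_le L hx
  have hYL : Y ≤ L := hL ▸ le_sup_left
  have hY'L : Y' ≤ L := hL ▸ le_sup_right
  have hLM : L ≤ M := hL ▸ sup_le hYM
    ((map_mono hYM).trans (map_conj_eq_of_mem_normalizer (le_normalizer hxM)).le)
  have hLQ : L ≤ normalizer (Q : Set X) := hLM.trans (le_normalizer_pCoreOf _)
  have hY'e : IsElementaryAbelian q Y' := isElementaryAbelian_map hY _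
  have hR := le_normalizer_sup_of_commutator_le hcomm hLQ
  have hW1 : W ≤ A₀ ⊔ Q :=
    (map_mono le_sup_left).trans (map_conj_eq_of_mem_normalizer (hR hxL)).le
  have hW2 : W ≤ B := hW1.trans (sup_le (inf_le_left.trans hYB) hQ)
  set Z := Y ⊓ centralizer (L : Set X) with hZ
  have hZx : Z.map (MulAut.conj x).toMonoidHom = Z :=
    map_conj_eq_of_le_centralizer (le_centralizer_iff.1 inf_le_right hxL)
  have hZ' : Y' ⊓ centralizer (L : Set X) = Z := by
    rw [← hZx, hZ, map_conj_inf,
      map_conj_eq_of_mem_normalizer (le_normalizer_centralizer le_normalizer hxL)]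
  have hLZ : L ≤ normalizer (Z : Set X) :=
    (le_centralizer_iff.1 inf_le_right).trans (centralizer_le_normalizer _)
  have hZA : Z ≤ A₀ := le_inf inf_le_left (le_pCoreOf (inf_le_left.trans hYL) hLZ
    ((IsElementaryAbelian.isPGroup hY).to_le inf_le_left))
  have hWY' : W ≤ Y' := map_mono inf_le_left
  have h1 : (centralizer (Y : Set X)).relIndex W = Z.relIndex W := by
    refine relIndex_congr_inf (le_antisymm (le_inf inf_le_left (le_trans ?_ hZ'.le))
      (inf_le_inf_left _ (inf_le_right.trans (centralizer_le hYL))))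
    refine le_inf (inf_le_left.trans hWY') ?_
    rw [hL, centralizer_sup']
    exact le_inf inf_le_right
      (inf_le_left.trans (hWY'.trans (IsElementaryAbelian.le_centralizer hY'e)))
  have h2 : Z.relIndex W = Z.relIndex A₀ := by
    conv_lhs => rw [← hZx]
    exact relIndex_map_conj _ _ x
  have h3 : (centralizer (W : Set X)).relIndex Y ≤ Z.relIndex W * q := by
    rw [h2, ← hi, relIndex_mul_relIndex _ _ _ hZA inf_le_left]
    exact relIndex_le_of_le_left (inf_le_right.trans (centralizer_le (hWY'.trans hY'L)))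
      (relIndex_ne_zero' _ _)
  have h5 : W ≤ centralizer (Y : Set X) := by
    by_contra h4
    have h5 := hoff.sub W hW2 (isElementaryAbelian_of_le hY'e hWY') h4
    rw [h1] at h5
    have h6 := Nat.pos_of_ne_zero (relIndex_ne_zero' Z W)
    have h7 := hq.out.two_le
    have h8 : q * q * Z.relIndex W ≤ q * Z.relIndex W := by
      rw [← pow_two, mul_comm q]; exact h5.trans h3
    have h9 := Nat.le_of_mul_le_mul_right h8 h6
    nlinarith
  have h9 : A₀ ≤ Z := by
    rw [← relIndex_eq_one, ← h2, ← h1, relIndex_eq_one]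
    exact h5
  have h10 : ⁅Q, Y⁆ ≤ Z := le_trans (le_inf (commutator_le_of_le_normalizer (hQ.trans hn))
    (le_trans (le_inf (commutator_le_left_of_le_normalizer (hYL.trans hLQ))
      ((commutator_le_of_le_normalizer (hQ.trans hn)).trans hYL)) (pCoreOf_inf_le hLM))) h9
  have h11 : ⁅Q, L⁆ ≤ Z := by
    rw [hL]
    refine commutator_sup_le (hYL.trans hLZ) (hY'L.trans hLZ) h10 ?_
    rw [← hZx, ← map_conj_eq_of_mem_normalizer (hLQ hxL), hY', ← map_commutator]
    exact map_mono h10
  have h12 : pResidualOf q L ≤ Q := by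
    rw [pResidualOf_le_iff]
    intro g hg hgc
    refine hc ⟨hLM hg, FrobNPC.mem_centralizer_of_stabilizes
      ((IsElementaryAbelian.isPGroup hY).to_le (inf_le_left : Z ≤ Y)) hgc
      (le_centralizer_iff.1 inf_le_right hg) fun y hy => ?_⟩
    rw [← commutatorElement_def, ← commutatorElement_inv]
    exact inv_mem (h11 (commutator_mem_commutator hy hg))
  have h13 : L = Y := by
    rw [hL, hY', map_conj_eq_of_mem_normalizer (hn (hQ (h12 hx))), sup_idem]
  rw [hA₀, h13, pCoreOf_eq_self (IsElementaryAbelian.isPGroup hY), inf_idem, relIndex_self] at hi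
  exact hq.out.one_lt.ne hi

end CfsgLib.Sig
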