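import Cfsg.Agent.Lib.Sig.Q3a

/-!
# Pushing up without small offenders: the second half
-/

set_option autoImplicit false

namespace CfsgLib.Sig

open Subgroup Cfsg CfsgLib.Cop CfsgLib.H1
open scoped commutatorElement

variable {X : Type*} [Group X] [Finite X] {q : ℕ} [hq : Fact q.Prime]

namespace Q3b

section Quot

omit hq

variable {M Q : Subgroup X} [hN : (Q.subgroupOf M).Normal]

/-- image in `M/Q` -/
def qm (M Q A : Subgroup X) [(Q.subgroupOf M).Normal] : Subgroup (M ⧸ Q.subgroupOf M) :=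
  (A.subgroupOf M).map (QuotientGroup.mk' (Q.subgroupOf M))

omit [Finite X] in
theorem qm_mono {A B : Subgroup X} (h : A ≤ B) : qm M Q A ≤ qm M Q B :=
  map_mono (comap_mono h)

omit [Finite X] in
theorem subgroupOf_comm {A B : Subgroup X} (hA : A ≤ M) (hB : B ≤ M) :
    (⁅A, B⁆ : Subgroup X).subgroupOf M = ⁅A.subgroupOf M, B.subgroupOf M⁆ := by
  apply map_injective M.subtype_injective
  rw [map_commutator, map_subtype_subgroupOf hA, map_subtype_subgroupOf hB,
    map_subtype_subgroupOf ((commutator_mono hA hB).trans (commutator_le_self M))]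

omit [Finite X] in
theorem qm_comm {A B : Subgroup X} (hA : A ≤ M) (hB : B ≤ M) :
    qm M Q ⁅A, B⁆ = ⁅qm M Q A, qm M Q B⁆ := by
  rw [qm, subgroupOf_comm hA hB, map_commutator, qm, qm]

omit [Finite X] in
theorem le_of_qm_le {A K : Subgroup X} (hA : A ≤ M) (hQK : Q ≤ K) (h : qm M Q A ≤ qm M Q K) :
    A ≤ K := by
  intro a ha
  obtain ⟨k, hk, h1⟩ := h (mem_map_of_mem _ (show (⟨a, hA ha⟩ : M) ∈ A.subgroupOf M from ha))
  rw [QuotientGroup.mk'_apply, QuotientGroup.mk'_apply, QuotientGroup.eq] at h1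
  have h2 : (k : X)⁻¹ * a ∈ K := hQK h1
  have h3 : (k : X) ∈ K := hk
  simpa using mul_mem h3 h2

omit [Finite X] in
theorem qm_norm {A B : Subgroup X} (h : A ≤ normalizer (B : Set X)) :
    qm M Q A ≤ normalizer (qm M Q B : Set (M ⧸ Q.subgroupOf M)) := by
  refine map_normalizer_le' (fun a ha => ?_) _
  rw [mem_normalizer_iff]
  intro b
  exact mem_normalizer_iff.1 (h ha) b

omit [Finite X] in
theorem card_qm {A : Subgroup X} (hA : A ≤ M) : Nat.card (qm M Q A) = Q.relIndex A := by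
  rw [qm, card_map_mk'_eq_relIndex, relIndex_subgroupOf hA]

omit [Finite X] in
theorem card_qm_dvd {A : Subgroup X} (hA : A ≤ M) : Nat.card (qm M Q A) ∣ Nat.card A := by
  rw [card_qm hA]
  exact relIndex_dvd_card _ _

omit hN in
theorem comm_le_of_comm_comm {P J : Subgroup X} (hMQ : M ≤ normalizer (Q : Set X)) (hP : P ≤ M)
    (hJ : J ≤ M) (hJP : J ≤ normalizer (P : Set X))
    (hcop : (Nat.card J).Coprime (Q.relIndex P)) (h : ⁅⁅P, J⁆, J⁆ ≤ Q) : ⁅P, J⁆ ≤ Q := by
  have : (Q.subgroupOf M).Normal := normal_subgroupOf_of_le_normalizer hMQ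
  have h1 : ⁅P, J⁆ ≤ M := (commutator_mono hP hJ).trans (commutator_le_self M)
  refine le_of_qm_le (M := M) h1 le_rfl ?_
  rw [qm_comm hP hJ, ← commutator_commutator_eq (qm_norm hJP)
    (by rw [card_qm hP]; exact hcop.coprime_dvd_left (card_qm_dvd hJ)), ← qm_comm hP hJ,
    ← qm_comm h1 hJ]
  exact qm_mono h

omit hN in
theorem comm_le_mod {P E K : Subgroup X} (hMQ : M ≤ normalizer (Q : Set X)) (hP : P ≤ M)
    (hEM : E ≤ M) (hs : Group.IsSolvable P) (hE : E ≤ centralizer (E : Set X))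
    (hEP : E ≤ normalizer (P : Set X)) (hcop : (Nat.card E).Coprime (Q.relIndex P))
    (_hQP : Q ≤ P) (hQK : Q ≤ K) (hEK : E ≤ normalizer (K : Set X))
    (h : ∀ (H : Subgroup X) (u : X), H ⊔ zpowers u = E → ⁅P ⊓ centMod H Q, E⁆ ≤ K) :
    ⁅P, E⁆ ≤ K := by
  have : (Q.subgroupOf M).Normal := normal_subgroupOf_of_le_normalizer hMQ
  have h1 : ⁅P, E⁆ ≤ M := (commutator_mono hP hEM).trans (commutator_le_self M)
  refine le_of_qm_le (M := M) h1 hQK ?_
  have hc : (Nat.card (qm M Q E)).Coprime (Nat.card (qm M Q P)) := by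
    rw [card_qm hP]; exact hcop.coprime_dvd_left (card_qm_dvd hEM)
  have hE' : qm M Q E ≤ centralizer (qm M Q E : Set (M ⧸ Q.subgroupOf M)) := by
    rw [← commutator_eq_bot_iff_le_centralizer, ← qm_comm hEM hEM,
      commutator_eq_bot_iff_le_centralizer.2 hE, qm, bot_subgroupOf, Subgroup.map_bot]
  rw [qm_comm hP hEM]
  refine le_trans (commutator_le_of_gen (K := qm M Q K ⊓ qm M Q P)
    (isSolvable_map (isSolvable_subgroupOf hs M) _) (qm_norm hEP) hc inf_le_right
    (le_normalizer_inf (qm_norm hEK) (qm_norm hEP)) fun N L hN hn hL => ?_) inf_le_left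
  refine le_of_cocyclic_centralizer_le (le_centralizer_iff_isMulCommutative.1 hE')
    ((qm_norm hEP).trans hn) (hc.coprime_dvd_right (card_dvd_of_le hN)) ?_
  rintro B hB ⟨a, ⟨u, hu, rfl⟩, ha⟩
  refine hL _ inf_le_left (le_inf ?_ ((commutator_mono (inf_le_left.trans hN) le_rfl).trans
    (commutator_le_left_of_le_normalizer (qm_norm hEP))))
  set f := QuotientGroup.mk' (Q.subgroupOf M) with hf
  set H := E ⊓ (B.comap f).map M.subtype with hH
  have hu' : (u : X) ∈ E := hu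
  have h2 : H ⊔ zpowers (u : X) = E := by
    refine le_antisymm (sup_le inf_le_left (zpowers_le_of_mem hu')) fun e he => ?_
    have h3 : f ⟨e, hEM he⟩ ∈ B ⊔ zpowers (f u) :=
      ha ▸ mem_map_of_mem _ (show (⟨e, hEM he⟩ : M) ∈ E.subgroupOf M from he)
    obtain ⟨b, hb, c, ⟨k, rfl⟩, h4⟩ := (mem_sup_iff_of_le_normalizer' (N := B)
      (((le_sup_right.trans ha.le).trans hE').trans
        ((centralizer_le hB).trans (centralizer_le_normalizer _)))).1 h3
    have h5 : e * ((u : X) ^ k)⁻¹ ∈ H := by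
      refine ⟨E.mul_mem he (E.inv_mem (E.zpow_mem hu' k)), ⟨e, hEM he⟩ * (u ^ k)⁻¹, ?_, rfl⟩
      show f _ ∈ B
      rw [map_mul, map_inv, map_zpow, ← h4]
      simpa using hb
    have h6 := mul_mem (mem_sup_left (T := zpowers (u : X)) h5)
      (mem_sup_right (S := H) (zpow_mem (mem_zpowers (u : X)) k))
    simpa using h6
  refine le_trans (commutator_mono ?_ le_rfl) ((qm_comm (inf_le_left.trans hP) hEM).ge.trans
    (qm_mono (h H u h2)))
  rintro y ⟨hy1, hy2⟩
  obtain ⟨x, hx, rfl⟩ := hN hy1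
  refine ⟨x, ⟨hx, hMQ x.2, ?_⟩, rfl⟩
  rintro _ ⟨-, z, hz, rfl⟩
  have h7 : f ⁅z, x⁆ = 1 := by
    rw [map_commutatorElement, commutatorElement_eq_one_iff_mul_comm]
    exact hy2 _ hz
  exact (QuotientGroup.eq_one_iff (N := Q.subgroupOf M) ⁅z, x⁆).1 h7

end Quot

theorem le_centralizer_of_card_le {W Q : Subgroup X} (hW : IsPGroup q W) (hQ : IsPGroup q Q)
    (hn : Q ≤ normalizer (W : Set X)) (hc : Nat.card W ≤ q) : W ≤ centralizer (Q : Set X) := by
  by_cases h0 : W = ⊥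
  · rw [h0]; exact bot_le
  by_contra h1
  have h2 : W ⊓ centralizer (Q : Set X) < W :=
    lt_of_le_of_ne inf_le_left fun h => h1 (inf_eq_left.1 h)
  have h3 := card_le_of_lt_pow (k := 0) hW h2 (by simpa using hc)
  exact inf_centralizer_ne_bot_of_isPGroup hW hQ hn h0 (eq_bot_of_card_le _ (by simpa using h3))

omit hq [Finite X] in
theorem relIndex_dvd_of_le_of_norm {Q K P : Subgroup X} (h : K ≤ P)
    (hn : P ≤ normalizer (Q : Set X)) : Q.relIndex K ∣ Q.relIndex P := by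
  have : (Q.subgroupOf P).Normal := normal_subgroupOf_of_le_normalizer hn
  rw [← card_qm (M := P) h, ← card_qm (M := P) le_rfl]
  exact card_dvd_of_le (qm_mono h)

end Q3b

open Q3b

/-- Sketch: `Q = O_q(M)`. `Y` lies in every member of `MaxEA q Q` (`EO.le_maxEA`), so
`F = ⟨Y^N⟩ ≤ Q` is elementary abelian. `N` normalizes `R = H ⊔ Q ≤ B`
(`le_normalizer_sup_of_commutator_le`), so `EO q R (Y^g)` for `g ∈ N` and `EO q R F`.
`|F : C_F(E)| ≤ |E : C_E(F)| ≤ q |H : C_H(F)|` (`MaxEA.relIndex_le`), so `EO.sub` gives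
`H ≤ C(F)` and `|F : C_F(u)| ≤ q`. For `g ∈ Q`, `t = ⁅u,g⁆ ∈ Q` centralizes
`C_F(u) ⊓ C_F(g u g⁻¹)`, of index `≤ q²`; so `t ∈ C(F)` by `EO.elt`. Hence `Q` normalizes
`[F,⟨u⟩]`, of order `≤ q` (`card_commutator_zpowers`), so centralizes it. -/
theorem commutator_conjClosure_le_zc {M B Y E H N : Subgroup X} {u : X}
    (hQB : pCoreOf q M ≤ B) (hY : IsElementaryAbelian q Y) (hYQ : Y ≤ pCoreOf q M)
    (hoff : EO q B Y) (hE : MaxEA q B E) (hEM : E ≤ M) (hu : H ⊔ zpowers u = E)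
    (hN : N = M ⊓ centMod H (pCoreOf q M)) :
    ⁅conjClosure Y N, E⁆ ≤ zc (pCoreOf q M) := by
  set Q := pCoreOf q M with hQ
  set F := conjClosure Y N with hF
  have hHE : H ≤ E := hu ▸ le_sup_left
  have huE : u ∈ E := hu ▸ mem_sup_right (mem_zpowers u)
  have hEe := hE.2.1
  have hEE : E ≤ centralizer (E : Set X) := IsElementaryAbelian.le_centralizer hEe
  have hMQ : M ≤ normalizer (Q : Set X) := le_normalizer_pCoreOf _
  have hQM : Q ≤ M := pCoreOf_le _
  have hNM : N ≤ M := hN ▸ inf_le_left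
  have hNQ : N ≤ normalizer (Q : Set X) := hNM.trans hMQ
  have hHN : ⁅H, N⁆ ≤ Q := (le_centMod_iff.1 (hN ▸ inf_le_right : N ≤ centMod H Q)).2
  have hEN : E ≤ N := by
    rw [hN]
    refine le_inf hEM (le_centMod_iff.2 ⟨hEM.trans hMQ, ?_⟩)
    rw [commutator_eq_bot_iff_le_centralizer'.2 (hEE.trans (centralizer_le hHE))]
    exact bot_le
  have hQN : Q ≤ N := by
    rw [hN]
    exact le_inf hQM (le_centMod_iff.2 ⟨le_normalizer,
      commutator_le_of_le_normalizer ((hHE.trans hEM).trans hMQ)⟩)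
  have hFQ : F ≤ Q := conjClosure_le hYQ hNQ
  have hFe : IsElementaryAbelian q F := by
    obtain ⟨A, hA⟩ := exists_maxEA q Q
    refine isElementaryAbelian_of_le hA.2.1 (conjClosure_le_iff.2 fun g hg => ?_)
    have := (hoff.mono hQB).le_maxEA hY hYQ (hA.map_conj (hNQ (inv_mem hg)))
    exact (map_mono this).trans (map_conj_map_conj_inv g A).le
  have hFF : F ≤ centralizer (F : Set X) := IsElementaryAbelian.le_centralizer hFe
  have hNF : N ≤ normalizer (F : Set X) := le_normalizer_conjClosure Y N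
  have hR := le_normalizer_sup_of_commutator_le hHN hNQ
  have hRB : H ⊔ Q ≤ B := sup_le (hHE.trans hE.1) hQB
  have hoffF : EO q (H ⊔ Q) F := eo_conjClosure fun g hg =>
    (hoff.map_conj g).mono ((map_conj_eq_of_mem_normalizer (hR hg)).ge.trans (map_mono hRB))
  have hi : H.relIndex E ≤ q := by
    rcases hHE.eq_or_lt with h | h
    · rw [h, relIndex_self]; exact hq.out.one_lt.le
    · exact (relIndex_eq_prime_of_sup_zpowers h
        ((hEE.trans (centralizer_le hHE)).trans (centralizer_le_normalizer _)) (hEe.2 u huE) hu).le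
  have h6 : (centralizer (H : Set X)).relIndex F ≤ (centralizer (E : Set X)).relIndex F :=
    relIndex_le_of_le_left (centralizer_le hHE) (relIndex_ne_zero' _ _)
  have h7 := hE.relIndex_le hFe (hFQ.trans hQB)
  have h8 : (centralizer (F : Set X)).relIndex E ≤ (centralizer (F : Set X)).relIndex H * q := by
    refine le_trans ?_ (Nat.mul_le_mul_left _ hi)
    rw [← relIndex_inf_self _ H, relIndex_mul_relIndex _ _ _ inf_le_left hHE]
    exact relIndex_le_of_le_left inf_le_right (relIndex_ne_zero' _ _)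
  have h9 : H ≤ centralizer (F : Set X) := by
    by_contra h4
    have h5 := hoffF.sub H le_sup_left (isElementaryAbelian_of_le hEe hHE) h4
    have h10 := Nat.pos_of_ne_zero (relIndex_ne_zero' (centralizer (F : Set X)) H)
    have h11 := hq.out.two_le
    have h12 : q * q * (centralizer (F : Set X)).relIndex H ≤
        q * (centralizer (F : Set X)).relIndex H := by
      rw [← pow_two, mul_comm q]; exact h5.trans (h6.trans (h7.trans h8))
    have h13 := Nat.le_of_mul_le_mul_right h12 h10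
    nlinarith
  rw [relIndex_eq_one.2 h9, one_mul] at h8
  have h10 : (centralizer ({u} : Set X)).relIndex F ≤ q :=
    (relIndex_le_of_le_left (centralizer_le (Set.singleton_subset_iff.2 huE))
      (relIndex_ne_zero' _ _)).trans (h7.trans h8)
  have huF : u ∈ normalizer (F : Set X) := hNF (hEN huE)
  have h11 : ∀ g ∈ Q, ⁅g, u⁆ ∈ centralizer (F : Set X) := by
    intro g hg
    refine hoffF.elt _ (mem_sup_right (Q1.commElt_mem (hMQ (hEM huE)) hg)) ?_
    refine le_trans (relIndex_le_of_le_left (Q1.cent_le_comm g u) (relIndex_ne_zero' _ _))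
      ((Q1.relIndex_two (hNF (hQN hg)) u).trans (Nat.pow_le_pow_left h10 2))
  set W := ⁅F, zpowers u⁆ with hW
  have hWF : W ≤ F := commutator_le_left_of_le_normalizer (zpowers_le_of_mem huF)
  have h12 : Q ≤ normalizer (W : Set X) := by
    have key : ∀ g ∈ Q, ∀ v ∈ W, g * v * g⁻¹ ∈ W := by
      intro g hg v hv
      obtain ⟨w, hw, rfl⟩ := Q1.mem_comm_zpowers hFF huF hv
      have hw' : g * w * g⁻¹ ∈ F := conj_mem_of_mem_normalizer (hNF (hQN hg)) hw
      have h13 := h11 g hg _ hw'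
      have h14 := h11 g hg _ (Q1.commElt_mem huF hw')
      have h15 : g * ⁅w, u⁆ * g⁻¹ = ⁅g * w * g⁻¹, u⁆ := by
        calc g * ⁅w, u⁆ * g⁻¹
            = (g * w * g⁻¹ * ⁅g, u⁆) * (u * (g * w * g⁻¹)⁻¹ * u⁻¹) * ⁅g, u⁆⁻¹ := by
              simp only [commutatorElement_def]; group
          _ = ⁅g, u⁆ * ⁅g * w * g⁻¹, u⁆ * ⁅g, u⁆⁻¹ := by
              rw [h13]; simp only [commutatorElement_def (g * w * g⁻¹)]; group
          _ = ⁅g * w * g⁻¹, u⁆ := by rw [← h14, mul_inv_cancel_right]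
      rw [h15]
      exact commutator_mem_commutator hw' (mem_zpowers u)
    intro g hg
    rw [mem_normalizer_iff]
    refine fun v => ⟨key g hg v, fun hv => ?_⟩
    have := key g⁻¹ (inv_mem hg) _ hv
    simpa [mul_assoc] using this
  have h13 : W ≤ zc Q := le_inf (hWF.trans hFQ) (le_centralizer_of_card_le
    ((pCoreOf_isPGroup M).to_le (hWF.trans hFQ)) (pCoreOf_isPGroup M) h12
      ((card_commutator_zpowers hFF huF).le.trans h10))
  have h14 : E ≤ normalizer (zc Q : Set X) := le_normalizer_zc (hEM.trans hMQ)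
  rw [← hu]
  refine commutator_sup_le (hHE.trans h14) ((zpowers_le_of_mem huE).trans h14) ?_ h13
  rw [commutator_eq_bot_iff_le_centralizer'.2 h9]
  exact bot_le

/-- Sketch: `Λ = centMod Y Z(Q)` is normalized by `B`. By the previous lemma `E^g ≤ Λ` for
`g ∈ N = M ⊓ centMod H Q`, so `[N,E] ≤ Λ` for every cocyclic `H ≤ E`. In `M/Q` the group `Ē` acts
coprimely on the solvable `q'`-group `P̄`, `P = ppOf {q} M`, and `C_P̄(H̄)` is the image of `P ⊓ N`;
use `commutator_le_of_gen` with `le_of_cocyclic_centralizer_le`. -/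
theorem commutator_ppOf_le {M B Y E : Subgroup X} (hs : Group.IsSolvable M)
    (hQB : pCoreOf q M ≤ B) (hBM : B ≤ M) (hY : IsElementaryAbelian q Y) (hYQ : Y ≤ pCoreOf q M)
    (hn : B ≤ normalizer (Y : Set X)) (hoff : EO q B Y) (hE : MaxEA q B E) :
    ⁅ppOf {q} M, E⁆ ≤ centMod Y (zc (pCoreOf q M)) ⊔ pCoreOf q M := by
  set Q := pCoreOf q M with hQ
  set Λ := centMod Y (zc Q) with hΛ
  have hMQ : M ≤ normalizer (Q : Set X) := le_normalizer_pCoreOf _
  have hEM : E ≤ M := hE.1.trans hBM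
  have hMZ : M ≤ normalizer (zc Q : Set X) := le_normalizer_zc hMQ
  have hBΛ : B ≤ normalizer (Λ : Set X) := le_normalizer_centMod hn (hBM.trans hMZ)
  have hQP : Q ≤ ppOf {q} M := (pCoreOf_eq_piCoreOf q M).le.trans (piCoreOf_le_ppOf M)
  refine comm_le_mod hMQ (ppOf_le M) hEM (isSolvable_of_le hs (ppOf_le M))
    (IsElementaryAbelian.le_centralizer hE.2.1) (hEM.trans (le_normalizer_ppOf M)) ?_ hQP
    le_sup_right (hE.1.trans (le_normalizer_sup hBΛ (hBM.trans hMQ))) fun H u hu => ?_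
  · rw [hQ, pCoreOf_eq_piCoreOf]
    exact IsPiNum.coprime_compl
      (isPGroup_iff_isPiSubgroup.1 (IsElementaryAbelian.isPGroup hE.2.1)) (isPiNum_relIndex_ppOf M)
  set N := M ⊓ centMod H Q with hN
  have h1 := commutator_conjClosure_le_zc hQB hY hYQ hoff hE hEM hu hN
  have h2 : ∀ g ∈ N, E.map (MulAut.conj g).toMonoidHom ≤ Λ := by
    intro g hg
    have hgM : g ∈ M := hg.1
    refine le_centMod_iff.2 ⟨((map_mono hEM).trans
      (map_conj_eq_of_mem_normalizer (le_normalizer hgM)).le).trans hMZ, ?_⟩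
    rw [← map_conj_eq_of_mem_normalizer (hMZ hgM), ← map_conj_map_conj_inv g Y, ← map_commutator]
    exact map_mono ((commutator_mono (map_conj_le_conjClosure Y (inv_mem hg)) le_rfl).trans h1)
  refine le_trans (commutator_le.2 fun g hg e he => ?_) le_sup_left
  have hg' : g ∈ N := ⟨ppOf_le M hg.1, hg.2⟩
  have h3 : g * e * g⁻¹ ∈ Λ := h2 g hg' (mem_map_of_mem _ he)
  have h4 : e ∈ Λ := by simpa using h2 1 (one_mem _) (mem_map_of_mem _ he)
  exact mul_mem h3 (inv_mem h4)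

/-- Sketch: `P = ppOf {q} M`, `J = jj q B`, `K = [P,J] ⊔ Q ≤ Λ ⊔ Q` (the join of the `[P,E] ⊔ Q`
is normalized by `P` and `B`). `J ≤ C(Y₂)` by `EO.le_maxEA`, so `K ≤ C(Y₂)`. `K = Q T` with `T` a
Hall `q'`-subgroup, `T ≤ Λ` (`Q` normalizes `Λ`). `W = [Z(Q),K] = [Z(Q),T]` is normalized by `B`
and `W ⊓ C(T) = 1`; if `W ≠ 1` it meets `Ω₁Z(B) ≤ Y₂ ≤ C(K)`. So `T` centralizes `Z(Q)`, and then
`Y` (`FrobNPC.mem_centralizer_of_stabilizes`); thus `T ≤ N(B)`, `[T,J] ≤ B ⊓ P ≤ Q`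
(`le_piCoreOf_of_le_ppOf`), `[P,J,J] ≤ Q`, `[P,J] ≤ Q` (coprime action modulo `Q`), and `J ≤ Q` by
`le_piCoreOf_of_centMod`. -/
theorem maxEA_le_pCoreOf_of_eo {M B Y Y₂ E : Subgroup X} (hs : Group.IsSolvable M)
    (hB : IsPGroup q B) (hQB : pCoreOf q M ≤ B) (hBM : B ≤ M) (hY : IsElementaryAbelian q Y)
    (hYQ : Y ≤ pCoreOf q M) (hn : B ≤ normalizer (Y : Set X)) (hoff : EO q B Y)
    (hprim : M ⊓ centralizer (Y : Set X) ≤ normalizer (B : Set X))
    (hY₂ : IsElementaryAbelian q Y₂) (h1 : omz q B ≤ Y₂) (h2 : Y₂ ≤ zc (pCoreOf q M))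
    (h3 : ppOf {q} M ≤ normalizer (Y₂ : Set X)) (hoff₂ : EO q B Y₂) (hE : MaxEA q B E) :
    E ≤ pCoreOf q M := by
  set Q := pCoreOf q M with hQ
  set Λ := centMod Y (zc Q) with hΛ
  set P := ppOf {q} M with hP
  set J := jj q B with hJ
  have hQq : Q = piCoreOf {q} M := pCoreOf_eq_piCoreOf q M
  have hMQ : M ≤ normalizer (Q : Set X) := le_normalizer_pCoreOf _
  have hMZ : M ≤ normalizer (zc Q : Set X) := le_normalizer_zc hMQ
  have hMP : M ≤ normalizer (P : Set X) := le_normalizer_ppOf M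
  have hBΛ : B ≤ normalizer (Λ : Set X) := le_normalizer_centMod hn (hBM.trans hMZ)
  have hQP : Q ≤ P := hQq.le.trans (piCoreOf_le_ppOf M)
  have hPM : P ≤ M := ppOf_le M
  have hJB : J ≤ B := jj_le B
  have hJM : J ≤ M := hJB.trans hBM
  have hQp : IsPGroup q Q := pCoreOf_isPGroup M
  have hidx : IsPiNum {q}ᶜ (Q.relIndex P) := hQq ▸ isPiNum_relIndex_ppOf M
  have h4 : ⁅P, J⁆ ≤ Λ ⊔ Q := by
    refine (le_centMod_iff.1 (sSup_le fun A hA => le_centMod_iff.2 ⟨?_, ?_⟩)).2
    · exact hA.1.trans (le_normalizer_sup hBΛ (hBM.trans hMQ))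
    · exact commutator_ppOf_le hs hQB hBM hY hYQ hn hoff hA
  set K := ⁅P, J⁆ ⊔ Q with hK
  have hKP : K ≤ P := sup_le (commutator_le_left_of_le_normalizer (hJM.trans hMP)) hQP
  have hKM : K ≤ M := hKP.trans hPM
  have hBK : B ≤ normalizer (K : Set X) := le_normalizer_sup
    (le_normalizer_commutator (hBM.trans hMP) (le_normalizer_jj le_normalizer)) (hBM.trans hMQ)
  have hKY : K ≤ centralizer (Y₂ : Set X) := by
    refine sup_le (commutator_le_centralizer_right (sSup_le fun A hA => ?_) h3)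
      (le_centralizer_iff.1 (h2.trans inf_le_right))
    exact (IsElementaryAbelian.le_centralizer hA.2.1).trans (centralizer_le
      (hoff₂.le_maxEA hY₂ ((h2.trans inf_le_left).trans hQB) hA))
  obtain ⟨T, hT⟩ := Hall.exists_isPiHallOf (isSolvable_of_le hs hKM) {q}ᶜ
  have hTc : (Nat.card T).Coprime q := (isPiNum_compl_singleton_iff hq.out).1 hT.2.1
  have hTo : ∀ t ∈ T, (orderOf t).Coprime q := fun t ht =>
    hTc.coprime_dvd_left (orderOf_dvd_natCard T ht)
  have hQT : Q ⊔ T = K := sup_eq_of_hallOf le_sup_right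
    (fun p hp hd => hidx p hp (hd.trans (relIndex_dvd_of_le_of_norm hKP (hPM.trans hMQ)))) hT
  have hTΛ : T ≤ Λ := fun t ht => pResidualOf_le_of_le_sup (L := K) hQp (hQB.trans hBΛ)
    (sup_le (h4.trans (sup_comm _ _).le) le_sup_left) (mem_pResidualOf (hT.1 ht) (hTo t ht))
  have hTM : T ≤ M := hT.1.trans hKM
  have hZp : IsPGroup q (zc Q) := hQp.to_le inf_le_left
  have h5 : ⁅zc Q, K⁆ ≤ ⁅zc Q, T⁆ := by
    rw [← hQT]
    refine commutator_sup_le ?_ (normalizer_commutator_ge_right _ _) ?_ le_rfl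
    · exact (le_centralizer_iff.1 ((commutator_le_left_of_le_normalizer (hTM.trans hMZ)).trans
        inf_le_right)).trans (centralizer_le_normalizer _)
    · rw [commutator_eq_bot_iff_le_centralizer.2 inf_le_right]
      exact bot_le
  have h6 : ⁅zc Q, T⁆ ⊓ centralizer (T : Set X) = ⊥ := by
    refine commutator_inf_centralizer_eq_bot (hTM.trans hMZ) ?_
      (le_centralizer_iff_isMulCommutative.1 (zc_comm Q))
    obtain ⟨k, hk⟩ := hZp.exists_card_eq
    rw [hk]
    exact hTc.pow_right k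
  have hWZ : ⁅zc Q, K⁆ ≤ zc Q := commutator_le_left_of_le_normalizer (hKM.trans hMZ)
  have h7 : ⁅zc Q, K⁆ = ⊥ := by
    by_contra h0
    have h8 := inf_centralizer_ne_bot_of_isPGroup (hZp.to_le hWZ) hB
      (le_normalizer_commutator (hBM.trans hMZ) hBK) h0
    refine omz_ne_bot ((hZp.to_le hWZ).to_le inf_le_left) h8 (eq_bot_iff.2 fun z hz => ?_)
    have h9 : z ∈ omz q B := ⟨⟨hQB (hWZ hz.1.1.1).1, hz.1.1.2⟩, hz.2⟩
    exact h6.le ⟨h5 hz.1.1.1, le_centralizer_iff.1 (hT.1.trans hKY) (h1 h9)⟩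
  have h8 : T ≤ normalizer (B : Set X) := by
    refine le_trans (le_inf hTM fun t ht => ?_) hprim
    refine FrobNPC.mem_centralizer_of_stabilizes hZp (hTo t ht)
      (commutator_eq_bot_iff_le_centralizer'.1 h7 (hT.1 ht)) fun y hy => ?_
    rw [← commutatorElement_def, ← commutatorElement_inv]
    exact inv_mem ((hTΛ ht).2 y hy)
  have h9 : ⁅K, J⁆ ≤ Q := by
    rw [← hQT, commutator_comm]
    refine commutator_sup_le le_normalizer (hTM.trans hMQ)
      (commutator_le_of_le_normalizer (hJM.trans hMQ)) ?_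
    have h10 : ⁅J, T⁆ ≤ B :=
      (commutator_mono hJB le_rfl).trans (commutator_le_left_of_le_normalizer h8)
    have h11 : ⁅J, T⁆ ≤ P := (commutator_mono le_rfl (hT.1.trans hKP)).trans
      (commutator_le_of_le_normalizer (hJM.trans hMP))
    rw [hQq]
    exact le_piCoreOf_of_le_ppOf h11 (isPGroup_iff_isPiSubgroup.1 (hB.to_le h10))
  have hJπ : IsPiSubgroup {q} J := isPGroup_iff_isPiSubgroup.1 (hB.to_le hJB)
  have h10 : ⁅P, J⁆ ≤ Q := comm_le_of_comm_comm hMQ hPM hJM (hJM.trans hMP)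
    (IsPiNum.coprime_compl hJπ hidx) ((commutator_mono le_sup_left le_rfl).trans h9)
  have h11 : J ≤ Q := by
    rw [hQq]
    refine le_piCoreOf_of_centMod hs hJM hJπ ?_
    rw [← hQq]
    exact le_centMod_iff.2 ⟨hPM.trans hMQ, commutator_comm P J ▸ h10⟩
  exact (le_sSup (s := {E | MaxEA q B E}) hE).trans h11

end CfsgLib.Sig
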