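import Cfsg.Agent.Lib.Sig.SigW

/-!
# The signalizer functor theorem for functors of odd order
-/

set_option autoImplicit false

namespace CfsgLib.Sig

open Subgroup Cfsg CfsgLib.Cop CfsgLib.H1
open scoped commutatorElement

variable {X : Type*} [Group X]

namespace SF

/-- The subgroup `W_q`. -/
def W (S : SF X) (q : ℕ) : Subgroup X := ⨆ D, ⨆ _ : S.Hyp D, S.Δ {q} D

variable {S : SF X} [Finite X] {q : ℕ}

theorem A_le_normalizer_W : S.A ≤ normalizer (S.W q : Set X) :=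
  le_normalizer_iSup₂ fun _ hD => A_le_normalizer_Δ hD.1

theorem thA_le_normalizer_W : S.th S.A ≤ normalizer (S.W q : Set X) :=
  le_normalizer_iSup₂ fun _ hD => (th_anti hD.1).trans (th_le_normalizer_Δ hD.1)

theorem W_le_of_forall {K B : Subgroup X} (hB : S.Nc B)
    (h : ∀ b, S.Pt b → b ∈ B → piCoreOf {q} (S.θ b) ≤ K) : S.W q ≤ K :=
  iSup₂_le fun _ hD =>
    let ⟨b, hb, h1, h2⟩ := hB.exists_pt hD
    (Δ_le hb h2).trans (h b hb h1)

theorem W_comm {t : ℕ} (h : q ≠ t) : S.W q ≤ centralizer (S.W t : Set X) := by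
  refine iSup₂_le fun D hD => le_centralizer_iff.1 (iSup₂_le fun E hE => ?_)
  obtain ⟨d, hd, h1, h2⟩ := hD.exists_pt hE
  refine (Δ_le hd h2).trans (le_trans (commutator_eq_bot_iff_le_centralizer'.1
    (commutator_eq_bot_of_coprime ((piCoreOf_le _).trans (le_normalizer_piCoreOf _))
      ((piCoreOf_le _).trans (le_normalizer_piCoreOf _)) (coprime_card_of_isPiSubgroup
        (Set.disjoint_singleton.2 h) (piCoreOf_isPi _) (piCoreOf_isPi _))))
    (centralizer_le (Δ_le hd h1)))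

variable [hq : Fact q.Prime]

theorem MaxQ.piCoreOf_le {Q : Subgroup X} (hQ : S.MaxQ q Q) {b : X} (hb : S.Pt b) :
    piCoreOf {q} (S.θ b) ≤ Q :=
  hQ.le_of_normalized (hb.isTh.piCoreOf _) (isPGroup_iff_isPiSubgroup.2 (piCoreOf_isPi _))
    (hb.thA_le.trans (le_normalizer_piCoreOf _))

theorem MaxQ.W_le {Q : Subgroup X} (hQ : S.MaxQ q Q) : S.W q ≤ Q :=
  let ⟨_, hB⟩ := S.exists_hyp
  W_le_of_forall hB.nc fun _ hb _ => hQ.piCoreOf_le hb

theorem isTh_W : S.IsTh (S.W q) :=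
  let ⟨_, hQ⟩ := S.exists_maxQ q
  hQ.isTh.of_le hQ.W_le A_le_normalizer_W

theorem isPGroup_W : IsPGroup q (S.W q) :=
  let ⟨_, hQ⟩ := S.exists_maxQ q
  hQ.isPGroup.to_le hQ.W_le

theorem IsTh.W_inf_le {H : Subgroup X} (hH : S.IsTh H) : S.W q ⊓ H ≤ Cfsg.pCoreOf q H := by
  obtain ⟨Q, hQ⟩ := S.exists_maxQ q
  rw [pCoreOf_eq_piCoreOf]
  refine le_piCoreOf_of_centMod hH.solv inf_le_right
    (isPGroup_iff_isPiSubgroup.1 isPGroup_W.to_inf_left) ((hH.ppOf _).le_of_hyp fun B hB x hx =>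
      ⟨le_normalizer_piCoreOf _ (ppOf_le _ hx.1), fun u hu => ?_⟩)
  refine mem_piCoreOf_of_mem_ppOf
    (K := ⨆ b, ⨆ _ : S.Pt b ∧ b ∈ B, Cfsg.piCoreOf {q} (S.θ b))
    (commutatorElement_mem_right (le_normalizer_ppOf _ hu.2) hx.1)
    (commutatorElement_mem_left (W_le_of_forall hB.nc
      (fun b hb h => le_iSup₂_of_le b ⟨hb, h⟩ le_rfl) hu.1)
      (le_normalizer_iSup₂ (H := S.th B) (fun b hb => (th_le hb.1 hb.2).trans
        (le_normalizer_piCoreOf _)) ((hH.ppOf _).le_th hB.1 hx)))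
    (isPGroup_iff_isPiSubgroup.1 (hQ.isPGroup.to_le (iSup₂_le fun b hb => hQ.piCoreOf_le hb.1)))

theorem IsTh.commutator_le_W {M : Subgroup X} (hM : S.IsTh M) {a : X} (ha : S.Pt a)
    (h : S.θ a ≤ M) (hexc : ∀ d, 1 ≤ d → S.r = 2 ^ d + 1 → q ≠ 2) :
    ⁅Cfsg.pCoreOf q M, zpowers a⁆ ≤ S.W q := by
  have hP := hM.pCoreOf q
  refine hP.commutator_le ha.zpowers_le (ha.zpowers_le.trans A_le_normalizer_W) fun D hD =>
    le_iSup₂_of_le D hD (le_Δ hD.1 fun d hd hdD => ?_)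
  have h1 := ha.zpowers_le.trans hd.A_le_normalizer_centralizer
  rw [← pCoreOf_eq_piCoreOf]
  refine (commutator_mono (inf_le_inf_left _ (centralizer_le (Set.singleton_subset_iff.2 hdD)))
    le_rfl).trans (commutator_zpowers_le_pCoreOf S.prime (S.elem.2 a ha.1) hd.isTh.solv
      hd.isTh.cop (hd.isTh.norm' ha.zpowers_le) (pCoreOf_isPGroup M).to_inf_left (hP.le d hd)
      (le_normalizer_inf (hP.norm' ha.zpowers_le) h1) (le_normalizer_inf
        ((hd.isTh.le' ha).trans (h.trans (le_normalizer_pCoreOf M)))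
        (inf_le_left.trans (hd.le_cent.trans le_normalizer))) hexc)

theorem Ctx.le_of_stable (hS : S.Ctx) {M Q : Subgroup X} (hM : S.Max M) (hA : S.th S.A ≤ M)
    (hc : CharIn q M) (hs : StableIn q M) (hQ : S.MaxQ q Q) :
    Q ≠ ⊥ ∧ M ≤ normalizer (dSub Q : Set X) := by
  have h1 := hQ.isSylowIn hM.1 (hA.trans le_normalizer)
  have h2 := hQ.isTh.inf hM.1.norm
  have h3 : Q ⊓ M ≠ ⊥ :=
    ne_bot_of_le_ne_bot (hc.pCoreOf_ne_bot (hS.max_ne_bot hM)) (pCoreOf_le_sylow h1)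
  have h4 := hS.ctrl hM (h2.of_le (dSub_le _) (h2.norm.trans (normalizer_le_normalizer_dSub _)))
    (dSub_ne_bot h1.isPGroup h3) (hs.le_normalizer_dSub hc h1)
  have h5 : Q ⊓ M = Q := by
    by_contra h5
    exact (lt_inf_normalizer_of_isNilpotent hQ.isPGroup.isNilpotent
      (lt_of_le_of_ne inf_le_left h5)).not_ge (le_inf inf_le_left (h4 _
        (hQ.isTh.inf_normalizer h2.norm) (inf_le_right.trans (normalizer_le_normalizer_dSub _))))
  exact ⟨ne_bot_of_le_ne_bot h3 inf_le_left, h5 ▸ hs.le_normalizer_dSub hc h1⟩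

theorem Ctx.eq_of_stable (hS : S.Ctx) {M N : Subgroup X} (hM : S.Max M) (hA : S.th S.A ≤ M)
    (hc : CharIn q M) (hs : StableIn q M) (hN : S.Max N) (hA' : S.th S.A ≤ N)
    (hc' : CharIn q N) (hs' : StableIn q N) : M = N := by
  obtain ⟨Q, hQ⟩ := S.exists_maxQ q
  obtain ⟨h1, h2⟩ := hS.le_of_stable hM hA hc hs hQ
  exact hM.eq hN.1 (hS.ctrl hN (hQ.isTh.of_le (dSub_le _) (hQ.isTh.norm.trans
    (normalizer_le_normalizer_dSub _))) (dSub_ne_bot hQ.isPGroup h1)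
    (hS.le_of_stable hN hA' hc' hs' hQ).2 M hM.1 h2)

/-- uniqueness of the maximal members of characteristic `q` containing `θ(A)` -/
def CU (S : SF X) (q : ℕ) : Prop := ∀ M N, S.Max M → S.th S.A ≤ M → CharIn q M → S.Max N →
  S.th S.A ≤ N → CharIn q N → M = N

theorem isTh_ZW : S.IsTh (S.W q ⊓ centralizer (S.W q : Set X)) :=
  isTh_W.inf_centralizer A_le_normalizer_W

theorem ZW_ne_bot (h : S.W q ≠ ⊥) : S.W q ⊓ centralizer (S.W q : Set X) ≠ ⊥ :=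
  inf_centralizer_ne_bot_of_isNilpotent isPGroup_W.isNilpotent le_rfl le_normalizer h

theorem Ctrl.W_le {M : Subgroup X} (h : S.Ctrl M (S.W q ⊓ centralizer (S.W q : Set X)))
    (hM : S.IsTh M) (t : ℕ) [Fact t.Prime] : S.W t ≤ pCoreOf t M := by
  refine le_trans (le_inf le_rfl (h.le_of_centralizer isTh_W ?_)) hM.W_inf_le
  by_cases ht : t = q
  · subst ht
    exact le_centralizer_iff.1 inf_le_right
  · exact (W_comm ht).trans (centralizer_le inf_le_left)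

theorem Ctx.ctrl_of_le_W (hS : S.Ctx) (hCU : S.CU q) {M Y : Subgroup X} (hM : S.Max M)
    (h : S.Ctrl M (S.W q ⊓ centralizer (S.W q : Set X))) (hY : Y ≤ S.W q) (h0 : Y ≠ ⊥)
    (h1 : S.A ≤ normalizer (Y : Set X)) (h2 : S.th S.A ≤ normalizer (Y : Set X)) :
    S.Ctrl M Y := by
  obtain ⟨N, hN, h3⟩ := hS.exists_ctrl (isTh_W.of_le hY h1) h0
  have h4 := h3.le_of_centralizer isTh_ZW (inf_le_right.trans (centralizer_le hY))
  rcases hS.eq_or_charIn hM hN h ((le_inf inf_le_left h4).trans hN.1.W_inf_le)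
    (ZW_ne_bot (ne_bot_of_le_ne_bot h0 hY)) h3 (hY.trans (h.W_le hM.1 q)) h0 with rfl | h5
  · exact h3
  · rwa [hCU M N hM (h _ isTh_thA (le_normalizer_inf_centralizer thA_le_normalizer_W
      thA_le_normalizer_W)) h5.1 hN (h3 _ isTh_thA h2) h5.2]

theorem Ctx.eq_of_ctrl_W (hS : S.Ctx) {t : ℕ} [Fact t.Prime] (hqt : q ≠ t) {M N : Subgroup X}
    (hM : S.Max M) (h : S.Ctrl M (S.W q ⊓ centralizer (S.W q : Set X))) (hN : S.Max N)
    (h' : S.Ctrl N (S.W t ⊓ centralizer (S.W t : Set X))) (h1 : S.W q ≠ ⊥) (h2 : S.W t ≠ ⊥) :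
    M = N := by
  have k1 := ne_bot_of_le_ne_bot h1 (h.W_le hM.1 q)
  have k2 := ne_bot_of_le_ne_bot h2 (h.W_le hM.1 t)
  have k3 := ne_bot_of_le_ne_bot h1 (h'.W_le hN.1 q)
  have k4 := ne_bot_of_le_ne_bot h2 (h'.W_le hN.1 t)
  have k5 := inf_le_left.trans (b := S.W q) (a := S.W q ⊓ centralizer (S.W q : Set X))
    (h'.W_le hN.1 q)
  have k6 := inf_le_left.trans (b := S.W t) (a := S.W t ⊓ centralizer (S.W t : Set X))
    (h.W_le hM.1 t)
  exact hS.eq_of_fitting_le hM hN (hS.fitting_le hN hM h' k6 h k5 k4 k3 hqt.symm)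
    (hS.fitting_le hM hN h k5 h' k6 k1 k2 hqt) k1 k2 hqt

omit hq in
theorem Ctx.false_of_W (hS : S.Ctx) (hCU : ∀ q, q.Prime → S.W q ≠ ⊥ → S.CU q)
    (hU : ∀ a, S.Pt a → ∃ q, q.Prime ∧ ∃ Y ≤ S.W q, Y ≠ ⊥ ∧ S.A ≤ normalizer (Y : Set X) ∧
      S.θ a ≤ normalizer (Y : Set X)) : False := by
  obtain ⟨b, hb⟩ := S.exists_pt
  obtain ⟨q, hq, Y, h1, h2, -⟩ := hU b hb
  have := Fact.mk hq
  have h3 := ne_bot_of_le_ne_bot h2 h1
  obtain ⟨M, hM, h4⟩ := hS.exists_ctrl isTh_ZW (ZW_ne_bot h3)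
  refine hS.nc ⟨M, hM.1, fun a ha => ?_⟩
  obtain ⟨t, ht, Y, k1, k2, k3, k4⟩ := hU a ha
  have := Fact.mk ht
  have k5 := ne_bot_of_le_ne_bot k2 k1
  refine hS.ctrl_of_le_W (hCU t ht k5) hM ?_ k1 k2 k3 (ha.thA_le.trans k4) _ ha.isTh k4
  by_cases hqt : q = t
  · exact hqt ▸ h4
  · obtain ⟨N, hN, h5⟩ := hS.exists_ctrl isTh_ZW (ZW_ne_bot k5)
    rwa [hS.eq_of_ctrl_W hqt hM h4 hN h5 h3 k5]

omit hq in
theorem Ctx.exists_le_W (hS : S.Ctx) {a : X} (ha : S.Pt a)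
    (h : ∀ M, S.Max M → S.θ a ≤ M → ∀ d, 1 ≤ d → S.r = 2 ^ d + 1 → ⁅pCoreOf 2 M, zpowers a⁆ = ⊥) :
    ∃ q, q.Prime ∧ ∃ Y ≤ S.W q, Y ≠ ⊥ ∧ S.A ≤ normalizer (Y : Set X) ∧
      S.θ a ≤ normalizer (Y : Set X) := by
  obtain ⟨M, hM, h1⟩ := ha.isTh.exists_max
  obtain ⟨t, ht, h2⟩ := hS.exists_commutator_ne_bot hM ha
  have := Fact.mk ht
  exact ⟨t, ht, _, hM.1.commutator_le_W ha h1 fun d hd hr h3 => h2 (h3 ▸ h M hM h1 d hd hr), h2,
    ((hM.1.pCoreOf t).commutator ha.zpowers_le).norm,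
    le_normalizer_commutator (h1.trans (le_normalizer_pCoreOf M)) ha.le_normalizer_zpowers⟩

omit hq in
theorem Ctx.not_odd (hS : S.Ctx) (h : ∀ a, S.Pt a → IsPiSubgroup {2}ᶜ (S.θ a)) : False := by
  have h1 : ∀ M, S.IsTh M → ∀ Q ≤ M, IsPGroup 2 Q → Q = ⊥ := fun M hM Q hQ h2 =>
    eq_bot_iff.2 (le_trans (le_inf le_rfl hQ) (disjoint_of_isPiSubgroup disjoint_compl_right
      (isPGroup_iff_isPiSubgroup.1 h2)
      (hM.isPi fun a ha => isPiSubgroup_of_le (h a ha) (hM.le a ha))).le)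
  refine hS.false_of_W (fun q hq h0 M N hM k1 k2 hN k3 k4 => ?_) fun a ha =>
    hS.exists_le_W ha fun M hM _ _ _ _ => by
      rw [h1 M hM.1 _ (pCoreOf_le M) (pCoreOf_isPGroup M), commutator_bot_left]
  have := Fact.mk hq
  have h2 : q ≠ 2 := by
    rintro rfl
    exact h0 (h1 _ isTh_W _ le_rfl isPGroup_W)
  have h3 : ∀ M, S.IsTh M → StableIn q M := fun M hM => stableIn_of_abTwo h2 fun Q hQ => by
    rw [(map_eq_bot_iff_of_injective _ M.subtype_injective).1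
      (h1 M hM _ (map_subtype_le Q) (hQ.map _))]
    infer_instance
  exact hS.eq_of_stable hM k1 k2 (h3 M hM.1) hN k3 k4 (h3 N hN.1)

end SF

/-- The solvable signalizer functor theorem for functors of odd order and rank at least three. -/
theorem complete_of_odd [Finite X] (S : SF X) (h : ∀ a, S.Pt a → Odd (Nat.card (S.θ a))) :
    S.Complete :=
  complete_of_ctx S.k {2}ᶜ (fun _ _ _ _ _ h hS => hS.not_odd h) S rfl fun a ha =>
    coprime_iff_isPiSubgroup.1 (Nat.coprime_two_right.2 (h a ha))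

end CfsgLib.Sig
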