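import Cfsg.Agent.Lib.Sig.SigCore
import Cfsg.Agent.Lib.H9Misc

/-!
# `q`-subgroups normalized by the centralizer of a coprime automorphism of prime order
-/

set_option autoImplicit false

namespace CfsgLib.Sig

open Subgroup Cfsg CfsgLib.Cop CfsgLib.H1
open scoped commutatorElement

variable {X : Type*} [Group X]

theorem le_normalizer_centMod [Finite X] {H F N : Subgroup X} (hF : H ≤ normalizer (F : Set X))
    (hN : H ≤ normalizer (N : Set X)) : H ≤ normalizer (centMod F N : Set X) := fun h hh =>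
  mem_normalizer_fintype fun t ht => ⟨mul_mem (mul_mem (hN hh) ht.1) (inv_mem (hN hh)), fun f hf => by
    have : ⁅f, h * t * h⁻¹⁆ = h * ⁅h⁻¹ * f * h, t⁆ * h⁻¹ := by
      simp [commutatorElement_def, mul_assoc]
    rw [this]
    exact conj_mem_of_mem_normalizer (hN hh) (ht.2 _ (conj_mem_of_mem_normalizer' (hF hh) hf))⟩

theorem commutatorElement_mem_of_zpowers [Finite X] {N : Subgroup X} {x a b : X}
    (ha : a ∈ normalizer (N : Set X)) (h : ⁅x, a⁆ ∈ N) (hb : b ∈ zpowers a) : ⁅x, b⁆ ∈ N := by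
  obtain ⟨n, rfl⟩ := (mem_powers_iff_mem_zpowers.2 hb : b ∈ Submonoid.powers a)
  clear hb
  induction n with
  | zero => simp
  | succ n ih =>
    have : ⁅x, a ^ (n + 1)⁆ = ⁅x, a⁆ * (a * ⁅x, a ^ n⁆ * a⁻¹) := by
      simp [commutatorElement_def, mul_assoc, pow_succ']
    simp only [this]
    exact mul_mem h (conj_mem_of_mem_normalizer ha ih)

theorem sup_eq_of_hallOf [Finite X] {π : Set ℕ} {N T K : Subgroup X} (hN : N ≤ K)
    (h : IsPiNum π (N.relIndex K)) (hT : IsPiHallOf π T K) : N ⊔ T = K := by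
  refine le_antisymm (sup_le hN hT.1) (relIndex_eq_one.1 (Nat.eq_one_iff_not_exists_prime_dvd.2
    fun p hp hd => hT.2.2 p hp (h p hp (hd.trans (relIndex_dvd_of_le_left K le_sup_left)))
      (hd.trans (relIndex_dvd_of_le_left K le_sup_right))))

variable [Finite X]

theorem commutator_zpowers_le_centralizer {q r : ℕ} [hq : Fact q.Prime] (hr : r.Prime)
    {T P : Subgroup X} {a : X} (ha : a ^ r = 1) (hP : IsPGroup q P)
    (hPr : (Nat.card P).Coprime r) (hTq : (Nat.card T).Coprime q) (hTr : (Nat.card T).Coprime r)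
    (hPT : P ≤ normalizer (T : Set X)) (haT : zpowers a ≤ normalizer (T : Set X))
    (haP : zpowers a ≤ normalizer (P : Set X))
    (hC : T ⊓ centralizer (zpowers a : Set X) ≤ centralizer (P : Set X))
    (hexc : ∀ d, 1 ≤ d → r = 2 ^ d + 1 → ∀ Q ≤ P, IsPGroup 2 Q → IsMulCommutative Q) :
    ⁅P, zpowers a⁆ ≤ centralizer (T : Set X) := by
  have har : Nat.card (zpowers a) ∣ r := Nat.card_zpowers a ▸ orderOf_dvd_of_pow_eq_one ha
  set U := ⁅P, zpowers a⁆ with hU
  have hUP : U ≤ P := commutator_le_left_of_le_normalizer haP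
  have hB : zpowers a ⊔ P ≤ normalizer (U : Set X) :=
    sup_le (normalizer_commutator_ge_right _ _) (normalizer_commutator_ge_left _ _)
  have hcop : (Nat.card ↥(zpowers a ⊔ P)).Coprime (Nat.card T) :=
    Nat.Coprime.coprime_dvd_left (card_sup_dvd_mul haP) (Nat.Coprime.mul_left
      (hTr.symm.coprime_dvd_left har) (coprime_card_of_isPGroup hTq hP).symm)
  have := Fact.mk hr
  rw [le_centralizer_iff]
  refine le_of_forall_invariant_sylowOf_le (sup_le haT hPT) hcop (Or.inl (isSolvable_sup haP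
    (haveI := zpowers_isMulCommutative a; isSolvable_of_isMulCommutative) (solvable_of_isPGroup hP)))
    fun l hl S hd hS hBS => ?_
  rw [le_centralizer_iff, ← commutator_eq_bot_iff_le_centralizer']
  by_contra h0
  obtain ⟨R, hRS, hBR, h1, h2⟩ := exists_minimal_action hBS h0
  have hlq : (Nat.card P).Coprime l :=
    (coprime_card_of_isPGroup hTq hP).symm.coprime_dvd_right hd
  have hR := (isPGroup_of_isPiHallOf hS).to_le hRS
  obtain ⟨k1, k2, k3, -⟩ := minimal_action hR hBR (hUP.trans le_sup_right) hB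
    (hlq.coprime_dvd_left (card_dvd_of_le hUP)) h1 h2
  have hn : zpowers a ⊔ P ≤ normalizer ((⁅R, R⁆ : Subgroup X) : Set X) :=
    le_normalizer_commutator hBR hBR
  have hRT := hRS.trans hS.1
  obtain ⟨s, d, j, m, hs, hd, hjm, hm, h3, -, Q, hQK, hQ, hnc⟩ := H9.hh_sec l (M := R)
    (N := ⁅R, R⁆) (K := P) (commutator_le_self R) le_rfl
    (fun x hx => k3 ▸ pow_mem_frattini_map hR hx) (le_sup_right.trans hBR) (le_sup_right.trans hn)
    (hBR (mem_sup_left (mem_zpowers a))) (hn (mem_sup_left (mem_zpowers a)))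
    (haP (mem_zpowers a)) hlq hr hPr (n := 0) (fun x _ => by simp [ha]) (by
      by_contra h3
      push Not at h3
      have h4 : zpowers a ≤ centMod P (centMod R ⁅R, R⁆ ⊓ P) := by
        rw [zpowers_le]
        refine ⟨le_normalizer_inf ?_ haP (mem_zpowers a), fun g hg => mem_inf.2 ⟨⟨hn
          (mem_sup_right (hUP (commutator_mem_commutator hg (mem_zpowers a)))), fun x hx => ?_⟩,
            hUP (commutator_mem_commutator hg (mem_zpowers a))⟩⟩
        · exact le_normalizer_centMod (le_sup_left.trans hBR) (le_sup_left.trans hn)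
        · rw [← commutatorElement_inv]
          exact inv_mem (by simpa using h3 g hg x hx)
      have h5 := (le_centMod_iff.1 ((le_centMod_iff.1 h4).2.trans inf_le_left)).2
      rw [k1] at h5
      exact (frattini_map_lt fun h => h1 (by rw [h, commutator_bot_left])).not_ge (k3 ▸ h5))
    (s := r ^ (0 + 1) - 1) (Nat.sub_one_lt (pow_pos hr.pos _).ne')
    (Or.inr ⟨rfl, Or.inr fun x hx h => by
      obtain ⟨n, hn', c, hc, rfl⟩ := exists_mul_centralizer_of_commutator_mem (g := x)
        (le_sup_left.trans hn) ((hTr.symm.coprime_dvd_left har).coprime_dvd_right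
          (card_dvd_of_le ((commutator_le_self R).trans hRT)))
        (Or.inr (solvable_of_isPGroup (hR.to_le (commutator_le_self R)))) fun b hb =>
          commutatorElement_mem_of_zpowers (hn (mem_sup_left (mem_zpowers a)))
            (by rw [← commutatorElement_inv]; exact inv_mem h) hb
      have h4 := (mul_mem_cancel_left (commutator_le_self R hn')).1 hx
      exact mul_mem hn' (k2 ▸ mem_inf.2 ⟨h4, centralizer_le hUP (hC ⟨hRT h4, hc⟩)⟩)⟩)
  obtain rfl : m = 1 := by omega
  have hr2 : r ≠ 2 := by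
    rintro rfl
    have := Nat.one_lt_pow (n := d) (by omega) hs.one_lt
    omega
  obtain ⟨rfl, -⟩ := H9.fermat_of_pow_add_one hr hr2 hs h3
  exact hnc (hexc d hd (by rw [h3, pow_one]) Q hQK hQ)

/-- A `q`-subgroup normalized by `a` and by `C_H(a)` is centralized by `a` modulo `O_q(H)`. -/
theorem commutator_zpowers_le_pCoreOf {q r : ℕ} [hq : Fact q.Prime] (hr : r.Prime)
    {H P : Subgroup X} {a : X} (ha : a ^ r = 1) (hH : Group.IsSolvable H)
    (hHr : (Nat.card H).Coprime r) (haH : zpowers a ≤ normalizer (H : Set X)) (hP : IsPGroup q P)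
    (hPH : P ≤ H) (haP : zpowers a ≤ normalizer (P : Set X))
    (hC : H ⊓ centralizer (zpowers a : Set X) ≤ normalizer (P : Set X))
    (hexc : ∀ d, 1 ≤ d → r = 2 ^ d + 1 → q ≠ 2) :
    ⁅P, zpowers a⁆ ≤ pCoreOf q H := by
  have har : Nat.card (zpowers a) ∣ r := Nat.card_zpowers a ▸ orderOf_dvd_of_pow_eq_one ha
  have hK := ppOf_le (π := {q}) H
  have hsK := isSolvable_of_le hH hK
  have haK := haH.trans (normalizer_le_normalizer_ppOf (π := {q}) H)
  have haN := haH.trans (normalizer_le_normalizer_pCoreOf (p := q) H)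
  obtain ⟨T, hT, haT⟩ := exists_invariant_hallOf {q}ᶜ haK
    ((hHr.symm.coprime_dvd_left har).coprime_dvd_right (card_dvd_of_le hK)) hsK
  have hNT := sup_eq_of_hallOf (piCoreOf_le_ppOf H) (isPiNum_relIndex_ppOf H) hT
  rw [← pCoreOf_eq_piCoreOf] at hNT
  set N := pCoreOf q H with hN
  have hHN : H ≤ normalizer (N : Set X) := le_normalizer_pCoreOf H
  have hTH := hT.1.trans hK
  have hNP : IsPGroup q ↥(P ⊔ N) :=
    isPGroup_sup_of_le_normalizer hP (pCoreOf_isPGroup H) (hPH.trans hHN)
  have hle : P ⊔ N ≤ H := sup_le hPH (pCoreOf_le H)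
  set P₁ := (P ⊔ N) ⊓ normalizer (T : Set X) with hP₁
  have h1 : P ≤ N ⊔ P₁ := fun x hx => by
    obtain ⟨g, hg, h⟩ := Hall.conj_hallOf hsK hT (Hall.isPiHallOf_map_conj hT (le_normalizer_ppOf H (hPH hx)))
    rw [← hNT] at hg
    obtain ⟨n, hn, t, ht, rfl⟩ := (mem_sup_iff_of_le_normalizer' (hTH.trans hHN)).1 hg
    rw [show x = n * (n⁻¹ * x) by group]
    refine mul_mem (mem_sup_left hn) (mem_sup_right ⟨mul_mem (mem_sup_right (inv_mem hn))
      (mem_sup_left hx), mem_normalizer_of_map_conj_eq ?_⟩)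
    rw [map_conj_mul, h, ← map_conj_mul, inv_mul_cancel_left]
    exact map_conj_eq_of_mem_normalizer (le_normalizer ht)
  have hTq : (Nat.card T).Coprime q := by
    rw [Nat.coprime_comm, hq.out.coprime_iff_not_dvd]
    exact fun h => hT.2.1 q hq.out h rfl
  have h2 := commutator_zpowers_le_centralizer hr (T := T) (P := P₁) ha (hNP.to_le inf_le_left)
    (hHr.coprime_dvd_left (card_dvd_of_le (inf_le_left.trans hle))) hTq
    (hHr.coprime_dvd_left (card_dvd_of_le hTH)) inf_le_right haT
    (le_normalizer_inf (le_normalizer_sup haP haN) (le_normalizer_normalizer haT))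
    (by
      have h5 : T ⊓ centralizer (zpowers a : Set X) ≤ normalizer (P₁ : Set X) :=
        le_normalizer_inf (le_normalizer_sup ((inf_le_inf_right _ hTH).trans hC)
          (inf_le_left.trans (hTH.trans hHN))) (inf_le_left.trans (le_normalizer.trans le_normalizer))
      rw [← commutator_eq_bot_iff_le_centralizer', eq_bot_iff, ← (disjoint_of_coprime_natCard
        (coprime_card_of_isPGroup hTq (hNP.to_le (inf_le_left : P₁ ≤ _)))).eq_bot]
      exact le_inf ((commutator_mono le_rfl inf_le_left).trans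
        (commutator_le_of_le_normalizer inf_le_right)) (commutator_le_left_of_le_normalizer h5))
    fun d hd h Q hQ hQ2 => by
      have := Fact.mk Nat.prime_two
      rw [(IsPGroup.disjoint_of_ne 2 q (hexc d hd h).symm Q P₁ hQ2
        (hNP.to_le inf_le_left)).eq_bot_of_le hQ]
      infer_instance
  have haP₁ : zpowers a ≤ normalizer (P₁ : Set X) :=
    le_normalizer_inf (le_normalizer_sup haP haN) (le_normalizer_normalizer haT)
  have h3 : ⁅P₁, zpowers a⁆ ≤ P₁ := commutator_le_left_of_le_normalizer haP₁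
  have h4 : ⁅P₁, zpowers a⁆ ≤ N := by
    rw [hN, pCoreOf_eq_piCoreOf]
    refine le_piCoreOf_of_centMod hH (h3.trans (inf_le_left.trans hle))
      (isPGroup_iff_isPiSubgroup.1 (hNP.to_le (h3.trans inf_le_left))) ?_
    rw [← pCoreOf_eq_piCoreOf, ← hNT]
    refine sup_le (le_centMod_iff.2 ⟨le_normalizer, commutator_le_of_le_normalizer
      ((h3.trans (inf_le_left.trans hle)).trans hHN)⟩) (le_centMod_iff.2 ⟨hTH.trans hHN, ?_⟩)
    rw [commutator_comm, commutator_eq_bot_iff_le_centralizer'.2 h2]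
    exact bot_le
  rw [commutator_comm]
  refine (commutator_mono le_rfl h1).trans (commutator_sup_le le_normalizer
    (inf_le_left.trans (hle.trans hHN)) (commutator_le_of_le_normalizer haN) ?_)
  rwa [commutator_comm]

end CfsgLib.Sig
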