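import Cfsg.Agent.Lib.Sig.SigFour
import Cfsg.Agent.Lib.Sig.SigU

/-!
# Maximal `θ`-subgroups in a minimal counterexample
-/

set_option autoImplicit false

namespace CfsgLib.Sig

open Subgroup Cfsg CfsgLib.Cop CfsgLib.H1
open scoped commutatorElement

variable {X : Type*} [Group X]

theorem le_normalizer_iSup₂ {ι : Type*} {T : ι → Prop} {H : Subgroup X} {f : ι → Subgroup X}
    (h : ∀ i, T i → H ≤ normalizer (f i : Set X)) :
    H ≤ normalizer ((⨆ i, ⨆ _ : T i, f i : Subgroup X) : Set X) := by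
  rw [iSup_subtype']
  exact le_trans (le_iInf fun i : {i // T i} => h i.1 i.2)
    (iInf_normalizer_le_normalizer_iSup fun i : {i // T i} => f i)

theorem commutator_le_piCoreOf_of_sylow [Finite X] {q : ℕ} [Fact q.Prime] {H P B : Subgroup X}
    (hH : Group.IsSolvable H) (hP : IsSylowIn q P H) (hB : B ≤ normalizer (H : Set X))
    (hcop : (Nat.card B).Coprime (Nat.card H)) (h : B ≤ centralizer (P : Set X)) :
    ⁅H, B⁆ ≤ piCoreOf {q}ᶜ H := by
  have hN := hB.trans (normalizer_le_normalizer_piCoreOf (π := {q}ᶜ) H)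
  have h1 : ⁅ppOf {q}ᶜ H, B⁆ ≤ piCoreOf {q}ᶜ H := by
    rw [commutator_comm, ← piCoreOf_sup_inf_ppOf hP]
    refine commutator_sup_le le_normalizer
      (inf_le_right.trans ((ppOf_le H).trans (le_normalizer_piCoreOf H)))
      (commutator_le_of_le_normalizer hN) ?_
    rw [commutator_comm, commutator_eq_bot_iff_le_centralizer'.2
      (h.trans (centralizer_le inf_le_left))]
    exact bot_le
  have h2 : ⁅H, B⁆ ≤ centMod (ppOf {q}ᶜ H) (piCoreOf {q}ᶜ H) :=
    (commutator_mono le_rfl (le_centMod_iff.2 ⟨hN, h1⟩)).trans (commutator_le_of_le_normalizer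
      (le_normalizer_centMod (le_normalizer_ppOf H) (le_normalizer_piCoreOf H)))
  have h3 := (le_centMod_iff.1 h2).2
  rw [commutator_comm] at h3
  rw [← commutator_commutator_eq hB hcop]
  exact (commutator_mono (le_ppOf_of_commutator_le hH (commutator_le_left_of_le_normalizer hB)
    h3) le_rfl).trans h1

namespace SF

/-- maximal `θ`-subgroups -/
def Max (S : SF X) (M : Subgroup X) : Prop := Maximal S.IsTh M

/-- `M` contains every `θ`-subgroup normalizing `U` -/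
def Ctrl (S : SF X) (M U : Subgroup X) : Prop :=
  ∀ V, S.IsTh V → V ≤ normalizer (U : Set X) → V ≤ M

variable {S : SF X}

theorem Max.isTh {M : Subgroup X} (h : S.Max M) : S.IsTh M := h.1

theorem Max.eq {M N : Subgroup X} (h : S.Max M) (hN : S.IsTh N) (hle : M ≤ N) : M = N :=
  le_antisymm hle (h.2 hN hle)

theorem Ctrl.le_of_centralizer {M U V : Subgroup X} (h : S.Ctrl M U) (hV : S.IsTh V)
    (h1 : V ≤ centralizer (U : Set X)) : V ≤ M :=
  h V hV (h1.trans (centralizer_le_normalizer _))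

variable [Finite X]

theorem IsTh.exists_max {U : Subgroup X} (h : S.IsTh U) : ∃ M, S.Max M ∧ U ≤ M :=
  let ⟨M, h1, h2⟩ := Finite.exists_le_maximal h
  ⟨M, h2, h1⟩

theorem Ctx.exists_ctrl (hS : S.Ctx) {U : Subgroup X} (h : S.IsTh U) (h0 : U ≠ ⊥) :
    ∃ M, S.Max M ∧ S.Ctrl M U := by
  obtain ⟨N, hN, h1⟩ := hS.loc U h h0
  obtain ⟨M, hM, h2⟩ := hN.exists_max
  exact ⟨M, hM, fun V hV h3 => (h1 V hV h3).trans h2⟩

omit [Finite X] in
theorem Ctx.ctrl (hS : S.Ctx) {M U : Subgroup X} (hM : S.Max M) (h : S.IsTh U) (h0 : U ≠ ⊥)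
    (hn : M ≤ normalizer (U : Set X)) : S.Ctrl M U := by
  obtain ⟨N, hN, h1⟩ := hS.loc U h h0
  exact fun V hV h2 => (h1 V hV h2).trans (hM.2 hN (h1 M hM.1 hn))

theorem complete_of_commutator_le {b : X} (hb : S.Pt b) {H : Subgroup X} (hH : S.IsTh H)
    (h : ∀ d, S.Pt d → ⁅S.θ d, zpowers b⁆ ≤ H) : S.Complete := by
  have hA : ∀ d, S.Pt d → S.A ≤ normalizer ((⁅S.θ d, zpowers b⁆ : Subgroup X) : Set X) :=
    fun d hd => (hd.isTh.commutator hb.zpowers_le).norm
  set K := ⨆ d, ⨆ _ : S.Pt d, ⁅S.θ d, zpowers b⁆ with hK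
  have h1 : S.IsTh K := hH.of_le (iSup₂_le h) (le_normalizer_iSup₂ hA)
  have h2 : S.θ b ≤ normalizer (K : Set X) := hb.le_of_hyp fun D hD hbD => by
    have h3 : K = ⨆ d, ⨆ _ : S.Pt d ∧ d ∈ D, ⁅S.θ d, zpowers b⁆ := by
      refine le_antisymm (iSup₂_le fun e he => he.isTh.commutator_le hb.zpowers_le
        (hb.zpowers_le.trans (le_normalizer_iSup₂ fun d hd => hA d hd.1)) fun E hE => ?_)
        (iSup₂_le fun d hd => le_iSup₂_of_le d hd.1 le_rfl)
      obtain ⟨d, hd, h4, h5⟩ := hD.exists_pt hE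
      exact le_iSup₂_of_le d ⟨hd, h4⟩
        (commutator_mono ((he.isTh.le_th hE.1).trans (th_le hd h5)) le_rfl)
    rw [h3]
    exact le_normalizer_iSup₂ fun d hd => le_normalizer_commutator
      ((th_le hd.1 hd.2).trans le_normalizer) ((th_le hb hbD).trans hb.le_normalizer_zpowers)
  refine ⟨K ⊔ S.θ b, h1.sup hb.isTh h2, fun d hd => ?_⟩
  rw [← hd.isTh.commutator_sup hb.zpowers_le]
  exact sup_le_sup (le_iSup₂_of_le d hd le_rfl) (hd.isTh.le' hb)

theorem IsTh.coprime_r {q : ℕ} [hq : Fact q.Prime] {Q : Subgroup X} (h : S.IsTh Q)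
    (hQ : IsPGroup q Q) (h0 : Q ≠ ⊥) : S.r.Coprime q :=
  h.cop.symm.coprime_dvd_right ((IsPGroup.card_eq_or_dvd hQ).resolve_left
    fun h1 => h0 (card_eq_one.1 h1))

theorem Ctx.not_le_centralizer (hS : S.Ctx) {q : ℕ} [hq : Fact q.Prime] {Q : Subgroup X}
    (hQ : S.MaxQ q Q) (h0 : Q ≠ ⊥) {b : X} (hb : S.Pt b) :
    ¬ zpowers b ≤ centralizer (Q : Set X) := fun h => by
  obtain ⟨D, hD⟩ := S.exists_hyp
  obtain ⟨d, hd, -, h1⟩ := hQ.isTh.exists_pt hD h0
  obtain ⟨K, hK, -, h2⟩ := hS.pc {q}ᶜ ⟨d, hd, fun h2 => h1 (eq_bot_iff.2 (le_trans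
    (le_inf inf_le_left (hQ.isTh.le d hd)) (disjoint_of_isPiSubgroup disjoint_compl_right
      (isPGroup_iff_isPiSubgroup.1 hQ.isPGroup) h2).le))⟩
  refine hS.nc (complete_of_commutator_le hb hK fun e he => le_trans ?_ (h2 _ (he.isTh.piCoreOf _)
    (piCoreOf_isPi _) (he.thA_le.trans (le_normalizer_piCoreOf _))))
  exact commutator_le_piCoreOf_of_sylow he.isTh.solv (hQ.isSylowIn_θ he)
    (he.isTh.norm' hb.zpowers_le) (he.isTh.coprime hb.zpowers_le)
    (h.trans (centralizer_le inf_le_left))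

theorem IsTh.centralizer_fitting_le {M : Subgroup X} (h : S.IsTh M) :
    M ⊓ centralizer (fittingOf M : Set X) ≤ fittingOf M :=
  inf_centralizer_fittingOf_le (layerIn_eq_bot_of_isSolvable h.solv)

theorem IsTh.exists_pCoreOf_ne_bot {M : Subgroup X} (h : S.IsTh M) (h0 : M ≠ ⊥) :
    ∃ q, q.Prime ∧ Cfsg.pCoreOf q M ≠ ⊥ := by
  by_contra h1
  push Not at h1
  have h2 : fittingOf M = ⊥ := eq_bot_iff.2 (fittingOf_le_of_forall fun p hp => (h1 p hp.out).le)
  have h3 := h.centralizer_fitting_le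
  rw [h2] at h3
  exact h0 (eq_bot_iff.2 (le_trans (le_inf le_rfl (le_centralizer_iff.1 bot_le)) h3))

theorem Ctx.max_ne_bot (hS : S.Ctx) {M : Subgroup X} (hM : S.Max M) : M ≠ ⊥ := by
  rintro rfl
  exact hS.nc ⟨⊥, hM.1, fun a ha => hM.2 ha.isTh bot_le⟩

theorem Ctx.exists_commutator_ne_bot (hS : S.Ctx) {M : Subgroup X} (hM : S.Max M) {b : X}
    (hb : S.Pt b) : ∃ t, t.Prime ∧ ⁅pCoreOf t M, zpowers b⁆ ≠ ⊥ := by
  by_contra h
  push Not at h
  have h1 : zpowers b ≤ centralizer (fittingOf M : Set X) := le_centralizer_iff.1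
    (fittingOf_le_of_forall fun p hp =>
      le_centralizer_iff.1 (commutator_eq_bot_iff_le_centralizer'.1 (h p hp.out)))
  have hbM := hM.1.norm' hb.zpowers_le
  have h2 : ⁅M, zpowers b⁆ = ⊥ := by
    rw [← hM.1.commutator_commutator hb.zpowers_le, eq_bot_iff,
      ← commutator_eq_bot_iff_le_centralizer'.2 h1]
    refine commutator_mono (le_trans (le_inf (commutator_le_left_of_le_normalizer hbM) ?_)
      hM.1.centralizer_fitting_le) le_rfl
    exact (commutator_mono le_rfl h1).trans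
      (commutator_le_of_le_normalizer (le_normalizer_centralizer (le_normalizer_fittingOf M)))
  obtain ⟨q, hq, h3⟩ := hM.1.exists_pCoreOf_ne_bot (hS.max_ne_bot hM)
  have := Fact.mk hq
  have h4 := hM.1.pCoreOf q
  obtain ⟨Q, hQ, h5⟩ := h4.exists_maxQ (pCoreOf_isPGroup M)
  refine hS.not_le_centralizer hQ (ne_bot_of_le_ne_bot h3 h5) hb
    (commutator_eq_bot_iff_le_centralizer'.1 (commutator_eq_bot_of_pxq (pCoreOf_isPGroup M)
      hQ.isPGroup (hb.card ▸ h4.coprime_r (pCoreOf_isPGroup M) h3) (h5.trans le_normalizer)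
      (hQ.isTh.norm' hb.zpowers_le) (h q hq) (le_trans ?_
        (le_centralizer_iff.1 (commutator_eq_bot_iff_le_centralizer'.1 h2)))))
  exact (hS.ctrl hM h4 h3 (le_normalizer_pCoreOf M)).le_of_centralizer
    (hQ.isTh.inf_centralizer h4.norm) inf_le_right

/-! ### Bender's lemma -/

theorem Ctx.ctrl_center (hS : S.Ctx) {M : Subgroup X} (hM : S.Max M) {p : ℕ} [Fact p.Prime]
    (h : pCoreOf p M ≠ ⊥) : S.Ctrl M (pCoreOf p M ⊓ centralizer (pCoreOf p M : Set X)) :=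
  hS.ctrl hM ((hM.1.pCoreOf p).inf_centralizer (hM.1.pCoreOf p).norm)
    (inf_centralizer_ne_bot_of_isNilpotent (pCoreOf_isPGroup M).isNilpotent le_rfl le_normalizer h)
    (le_normalizer_inf_centralizer (le_normalizer_pCoreOf M) (le_normalizer_pCoreOf M))

theorem Ctx.center_le_centralizer (hS : S.Ctx) {M N : Subgroup X} (hM : S.Max M) (hN : S.IsTh N)
    {p q : ℕ} [Fact p.Prime] [Fact q.Prime] (hpq : p ≠ q) (h : pCoreOf p M ≠ ⊥)
    (h1 : pCoreOf p M ⊓ centralizer (pCoreOf p M : Set X) ≤ N)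
    (h2 : pCoreOf q M ⊓ centralizer (pCoreOf q M : Set X) ≤ N) :
    pCoreOf q M ⊓ centralizer (pCoreOf q M : Set X) ≤ centralizer (pCoreOf p N : Set X) := by
  have hP := (pCoreOf_isPGroup (p := p) M).to_inf_left (K := centralizer (pCoreOf p M : Set X))
  have hQ := (pCoreOf_isPGroup (p := q) M).to_inf_left (K := centralizer (pCoreOf q M : Set X))
  have hn : ∀ s, M ≤ normalizer ((pCoreOf s M ⊓ centralizer (pCoreOf s M : Set X) :
      Subgroup X) : Set X) := fun s =>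
    le_normalizer_inf_centralizer (le_normalizer_pCoreOf M) (le_normalizer_pCoreOf M)
  have hle : ∀ s, pCoreOf s M ⊓ centralizer (pCoreOf s M : Set X) ≤ M := fun s =>
    inf_le_left.trans (pCoreOf_le M)
  refine commutator_eq_bot_iff_le_centralizer'.1 (commutator_eq_bot_of_pxq hP (pCoreOf_isPGroup N)
    (coprime_card_of_isPGroup_of_ne hpq.symm hQ) (h1.trans (le_normalizer_pCoreOf N))
    (h2.trans (le_normalizer_pCoreOf N)) (commutator_eq_bot_of_coprime ((hle p).trans (hn q))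
      ((hle q).trans (hn p)) (coprime_card_of_isPGroup (coprime_card_of_isPGroup_of_ne hpq hP) hQ))
    ?_)
  have h3 := (hS.ctrl_center hM h).le_of_centralizer ((hN.pCoreOf p).inf_centralizer
    ((hM.1.pCoreOf p).inf_centralizer (hM.1.pCoreOf p).norm).norm) inf_le_right
  rw [← commutator_eq_bot_iff_le_centralizer', eq_bot_iff,
    ← (IsPGroup.disjoint_of_ne q p hpq.symm _ _ hQ (pCoreOf_isPGroup N)).eq_bot]
  exact le_inf (commutator_le_left_of_le_normalizer (h3.trans (hn q)))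
    ((commutator_mono le_rfl inf_le_left).trans
      (commutator_le_of_le_normalizer (h2.trans (le_normalizer_pCoreOf N))))

theorem Ctrl.center_le {M N Y : Subgroup X} (h : S.Ctrl N Y) (hM : S.IsTh M) {q : ℕ}
    [Fact q.Prime] (hY : Y ≤ pCoreOf q M) (s : ℕ) [Fact s.Prime] :
    pCoreOf s M ⊓ centralizer (pCoreOf s M : Set X) ≤ N ∧ (s ≠ q → pCoreOf s M ≤ N) := by
  have h1 : s ≠ q → pCoreOf s M ≤ N := fun hs => h.le_of_centralizer (hM.pCoreOf s)
    (le_trans (commutator_eq_bot_iff_le_centralizer'.1 (commutator_eq_bot_of_coprime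
      ((pCoreOf_le M).trans (le_normalizer_pCoreOf M))
      ((pCoreOf_le M).trans (le_normalizer_pCoreOf M)) (coprime_card_of_isPGroup
        (coprime_card_of_isPGroup_of_ne hs.symm (pCoreOf_isPGroup M)) (pCoreOf_isPGroup M))))
      (centralizer_le hY))
  refine ⟨?_, h1⟩
  by_cases hs : s = q
  · subst hs
    exact h.le_of_centralizer ((hM.pCoreOf s).inf_centralizer (hM.pCoreOf s).norm)
      (inf_le_right.trans (centralizer_le hY))
  · exact inf_le_left.trans (h1 hs)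

theorem Ctx.fitting_le (hS : S.Ctx) {M N Y Y' : Subgroup X} (hM : S.Max M) (hN : S.Max N)
    {p q s : ℕ} [Fact p.Prime] [Fact q.Prime] [Fact s.Prime] (h1 : S.Ctrl M Y')
    (h2 : Y' ≤ pCoreOf p N) (h3 : S.Ctrl N Y) (h4 : Y ≤ pCoreOf q M) (hp : pCoreOf p M ≠ ⊥)
    (hs : pCoreOf s M ≠ ⊥) (hsp : p ≠ s) : fittingOf N ≤ M := by
  refine fittingOf_le_of_forall fun t _ => ?_
  by_cases ht : t = p
  · subst ht
    exact (hS.ctrl_center hM hs).le_of_centralizer (hN.1.pCoreOf t) (le_centralizer_iff.1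
      (hS.center_le_centralizer hM hN.1 hsp hp (h3.center_le hM.1 h4 t).1
        (h3.center_le hM.1 h4 s).1))
  · exact (h1.center_le hN.1 h2 t).2 ht

theorem Ctx.eq_of_fitting_le (hS : S.Ctx) {M N : Subgroup X} (hM : S.Max M) (hN : S.Max N)
    (h1 : fittingOf M ≤ N) (h2 : fittingOf N ≤ M) {p s : ℕ} [Fact p.Prime] [Fact s.Prime]
    (hp : pCoreOf p M ≠ ⊥) (hs : pCoreOf s M ≠ ⊥) (hsp : p ≠ s) : M = N := by
  by_contra hne
  obtain ⟨t, ht, h3, -⟩ := bender_fitting hne h1 h2 hM.1.centralizer_fitting_le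
    hN.1.centralizer_fitting_le
    (fun t _ h => hS.ctrl hM (hM.1.pCoreOf t) h (le_normalizer_pCoreOf M) _
      (hN.1.inf_normalizer (hM.1.pCoreOf t).norm) inf_le_right)
    fun t _ h => hS.ctrl hN (hN.1.pCoreOf t) h (le_normalizer_pCoreOf N) _
      (hM.1.inf_normalizer (hN.1.pCoreOf t).norm) inf_le_right
  have := Fact.mk ht
  have key : ∀ (u : ℕ) [Fact u.Prime], pCoreOf u M ≠ ⊥ → u = t := fun u _ hu => by
    by_contra h4
    exact hu ((IsPGroup.disjoint_of_ne u t h4 _ _ (pCoreOf_isPGroup M)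
      (pCoreOf_isPGroup M)).eq_bot_of_le (h3 ▸ pCoreOf_le_fittingOf u M))
  exact hsp ((key p hp).trans (key s hs).symm)

theorem IsTh.charIn_or {M : Subgroup X} (hM : S.IsTh M) (q : ℕ) [Fact q.Prime] :
    CharIn q M ∨ ∃ s, s.Prime ∧ q ≠ s ∧ Cfsg.pCoreOf s M ≠ ⊥ := by
  by_contra h
  push Not at h
  have h1 : fittingOf M = Cfsg.pCoreOf q M := le_antisymm (fittingOf_le_of_forall fun s hs => by
    by_cases h2 : q = s
    · rw [h2]
    · rw [h.2 s hs.out h2]
      exact bot_le) (pCoreOf_le_fittingOf q M)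
  exact h.1 (by rw [CharIn, ← h1]; exact hM.centralizer_fitting_le)

theorem Ctx.not_charIn (hS : S.Ctx) {M N Y : Subgroup X} (hM : S.Max M) (hN : S.Max N)
    {q s : ℕ} [Fact q.Prime] [Fact s.Prime] (h3 : S.Ctrl N Y) (h4 : Y ≤ pCoreOf q M)
    (h0 : Y ≠ ⊥) (hs : pCoreOf s M ≠ ⊥) (hqs : q ≠ s) : ¬ CharIn q N := fun h =>
  inf_centralizer_ne_bot_of_isNilpotent (pCoreOf_isPGroup M).isNilpotent le_rfl le_normalizer hs
    ((IsPGroup.disjoint_of_ne s q hqs.symm _ _ (pCoreOf_isPGroup M).to_inf_left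
      (pCoreOf_isPGroup N)).eq_bot_of_le (le_trans (le_inf (h3.center_le hM.1 h4 s).1
        (hS.center_le_centralizer hM hN.1 hqs (ne_bot_of_le_ne_bot h0 h4)
          (h3.center_le hM.1 h4 q).1 (h3.center_le hM.1 h4 s).1)) h))

theorem Ctx.eq_or_charIn (hS : S.Ctx) {M N Y Y' : Subgroup X} (hM : S.Max M) (hN : S.Max N)
    {q : ℕ} [Fact q.Prime] (h1 : S.Ctrl M Y') (h2 : Y' ≤ pCoreOf q N) (h0' : Y' ≠ ⊥)
    (h3 : S.Ctrl N Y) (h4 : Y ≤ pCoreOf q M) (h0 : Y ≠ ⊥) : M = N ∨ CharIn q M ∧ CharIn q N := by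
  rcases hM.1.charIn_or q with h | ⟨s, hs, h5, h6⟩ <;>
    rcases hN.1.charIn_or q with h' | ⟨t, ht, h7, h8⟩
  · exact Or.inr ⟨h, h'⟩
  · have := Fact.mk ht
    exact absurd h (hS.not_charIn hN hM h1 h2 h0' h8 h7)
  · have := Fact.mk hs
    exact absurd h' (hS.not_charIn hM hN h3 h4 h0 h6 h5)
  · have := Fact.mk hs
    have := Fact.mk ht
    exact Or.inl (hS.eq_of_fitting_le hM hN
      (hS.fitting_le hN hM h3 h4 h1 h2 (ne_bot_of_le_ne_bot h0' h2) h8 h7)
      (hS.fitting_le hM hN h1 h2 h3 h4 (ne_bot_of_le_ne_bot h0 h4) h6 h5)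
      (ne_bot_of_le_ne_bot h0 h4) h6 h5)

end SF

end CfsgLib.Sig
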