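import Cfsg.Agent.Lib.Sig.ZCTwo

/-!
# Reduction of `ZC`-groups to local characteristic `2`
-/

set_option autoImplicit false

namespace CfsgLib.Sig

open Subgroup Cfsg CfsgLib.Cop CfsgLib.H1
open scoped commutatorElement

variable {G : Type*} [Group G]

/-- `Ω₁(Z(S))` -/
abbrev oz (S : Subgroup G) : Subgroup G := omegaOne 2 (S ⊓ centralizer (S : Set G))

theorem mem_oz {S : Subgroup G} {x : G} :
    x ∈ oz S ↔ x ∈ S ∧ x ∈ centralizer (S : Set G) ∧ x * x = 1 := by
  rw [oz, PGrp.mem_omegaOne_of_comm (A := S ⊓ centralizer (S : Set G))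
    ⟨⟨fun a b => Subtype.ext (b.2.2 a a.2.1)⟩⟩, sq, mem_inf, and_assoc]

theorem oz_le (S : Subgroup G) : oz S ≤ S := fun _ hx => (mem_oz.1 hx).1

theorem oz_le_centralizer (S : Subgroup G) : oz S ≤ centralizer (S : Set G) :=
  fun _ hx => (mem_oz.1 hx).2.1

theorem oz_elem (S : Subgroup G) : IsElementaryAbelian 2 (oz S) :=
  PGrp.isElementaryAbelian_omegaOne ⟨⟨fun a b => Subtype.ext (b.2.2 a a.2.1)⟩⟩

variable [Finite G]

theorem card_eq_two_or {V : Subgroup G} (hV : IsPGroup 2 V) (h : V ≠ ⊥) :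
    Nat.card V = 2 ∨ 4 ≤ Nat.card V := by
  have := Fact.mk Nat.prime_two
  obtain ⟨k, hk⟩ := hV.exists_card_eq
  rcases k with _ | _ | k
  · exact absurd (card_eq_one.1 hk) h
  · exact Or.inl hk
  · exact Or.inr (hk ▸ Nat.pow_le_pow_right two_pos (show 2 ≤ k + 1 + 1 by omega))

theorem card_eq_four_or {V : Subgroup G} (hV : IsPGroup 2 V) (h : 4 ≤ Nat.card V) :
    Nat.card V = 4 ∨ 8 ≤ Nat.card V := by
  have := Fact.mk Nat.prime_two
  obtain ⟨k, hk⟩ := hV.exists_card_eq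
  rcases k with _ | _ | _ | k
  · omega
  · omega
  · exact Or.inl hk
  · exact Or.inr (hk ▸ Nat.pow_le_pow_right two_pos (show 3 ≤ k + 1 + 1 + 1 by omega))

theorem sylow_inf_pResidual_ne_bot (heven : Even (Nat.card G)) (hO' : pPrimeCore 2 G = ⊥)
    (hO : pCore 2 G = ⊥) (S : Sylow 2 G) : (S : Subgroup G) ⊓ pResidual 2 G ≠ ⊥ := by
  have := Fact.mk Nat.prime_two
  have := PRes.pResidual_normal (p := 2) (G := G)
  refine (IsSylowIn.sylow_inf_normal S _).ne_bot (by_contra fun h => ?_)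
  have h1 : pResidual 2 G = ⊥ := eq_bot_iff.2 (hO' ▸ le_pPrimeCore
    ((Nat.prime_two.coprime_iff_not_dvd.2 h).symm))
  obtain ⟨k, hk⟩ := PRes.exists_index_pResidual_eq_pow (p := 2) (G := G)
  rw [h1, index_bot] at hk
  have h2 : (⊤ : Subgroup G) = ⊥ := eq_bot_iff.2 (hO ▸ le_pCore
    (IsPGroup.of_card (n := k) (by rw [card_top, hk])))
  rw [← card_top, h2, card_bot] at heven
  exact absurd heven (by decide)

theorem zc_reduction (heven : Even (Nat.card G)) (hC : SolC G) (S : Sylow 2 G)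
    (hZ : centralizer (oz (S : Subgroup G) : Set G) ≤ normalizer ((S : Subgroup G) : Set G))
    (hO' : pPrimeCore 2 G = ⊥) (hO : pCore 2 G = ⊥) :
    (∃ M : Subgroup ↥(pResidual 2 G), IsStronglyEmbedded M) ∨
    (Nat.card ↥(oz (S : Subgroup G) ⊓ pResidual 2 G) = 2 ∧ ∀ h ∈ pResidual 2 G,
      ∀ z ∈ oz (S : Subgroup G) ⊓ pResidual 2 G, h * z * h⁻¹ ∈ (S : Subgroup G) →
        h * z * h⁻¹ ∈ oz (S : Subgroup G)) ∨
    (Nat.card (oz (S : Subgroup G)) = 4 ∧
      omegaOne 2 ((S : Subgroup G) ⊓ pResidual 2 G) = oz (S : Subgroup G)) ∨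
    IsCharacteristicTwoType ↥(pResidual 2 G ⊔ oz (S : Subgroup G)) := by
  have := Fact.mk Nat.prime_two
  have := PRes.pResidual_normal (p := 2) (G := G)
  have hR0 := sylow_inf_pResidual_ne_bot heven hO' hO S
  have hR := IsSylowIn.sylow_inf_normal S (pResidual 2 G)
  have hS := IsSylowIn.sylow_top S
  set H := pResidual 2 G
  set P := (S : Subgroup G)
  set Z := oz P
  have hZP : IsPGroup 2 Z := IsElementaryAbelian.isPGroup (oz_elem P)
  have hZH : Z ⊓ H ≠ ⊥ := by
    obtain ⟨t, ht, h2⟩ := exists_involution_mem hR.isPGroup.to_inf_left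
      (inf_centralizer_ne_bot_of_isNilpotent hS.isPGroup.isNilpotent inf_le_left
        (le_normalizer_inf le_normalizer le_normalizer_of_normal) hR0)
    exact fun h => ne_one_of_orderOf h2 (mem_bot.1 (h ▸ mem_inf.2
      ⟨mem_oz.2 ⟨ht.1.1, ht.2, mul_self_of_orderOf h2⟩, ht.1.2⟩))
  have hKn : (H ⊔ Z).Normal := normal_of_le_normalizer_top (by
    rw [← hS.sup_eq_of_relIndex_eq_pow (N := H) le_top
      (by simpa using (PRes.exists_index_pResidual_eq_pow (p := 2) (G := G)).choose_spec)]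
    exact sup_le (le_sup_left.trans le_normalizer) (le_normalizer_sup le_normalizer_of_normal
      ((le_centralizer_iff.1 (oz_le_centralizer P)).trans (centralizer_le_normalizer _))))
  refine or_iff_not_imp_left.2 fun ha => or_iff_not_imp_left.2 fun hb =>
    or_iff_not_imp_left.2 fun hc => ?_
  suffices ∃ W : Subgroup G, (Nat.card W).Coprime 2 ∧
      (∀ t ∈ P ⊓ (H ⊔ Z), orderOf t = 2 → oc t ≤ W) ∧
      (∀ t ∈ P ⊓ H, orderOf t = 2 → centralizer ({t} : Set G) ≤ normalizer (W : Set G)) ∧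
      normalizer ((P ⊓ H : Subgroup G) : Set G) ≤ normalizer (W : Set G) by
    obtain ⟨W, h1, h2, h3, h4⟩ := this
    have h5 : W = ⊥ := by
      by_contra h5
      refine ha ⟨_, isStronglyEmbedded_subgroupOf (M := normalizer (W : Set G)) hR hR0
        (fun h6 => h5 (eq_bot_iff.2 ?_)) (inf_le_right.trans h4)
        fun t ht h6 => inf_le_right.trans (h3 t ht h6)⟩
      refine (le_piCoreOf_compl (fun x hx => PRes.mem_pResidual_of_coprime (h1.coprime_dvd_left
        (orderOf_dvd_natCard W hx))) h6 h1).trans (le_trans (le_piCoreOf (M := ⊤) le_top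
          (le_normalizer_of_normal.trans (normalizer_le_normalizer_piCoreOf H))
          (piCoreOf_isPi _)) ?_)
      rw [piCoreOf_top, ← pPrimeCore_eq_piCore, hO']
    refine hC.isCharacteristicTwoType (even_iff_two_dvd.2 (((IsPGroup.card_eq_or_dvd
      hR.isPGroup).resolve_left fun h => hR0 (card_eq_one.1 h)).trans
        (card_dvd_of_le (inf_le_right.trans le_sup_left)))) fun t ht h6 => ?_
    obtain ⟨g, -, h7⟩ := hS.exists_conj_le (isPGroup_zpowers_of_orderOf h6) le_top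
    rw [← card_eq_one, ← card_oc_conj g t, card_eq_one, eq_bot_iff, ← h5]
    exact h2 _ ⟨h7 (mem_map_of_mem _ (mem_zpowers t)), hKn.conj_mem t ht g⟩
      (by rw [H5.orderOf_conj', h6])
  have hu : Nat.card ↥(Z ⊓ H) = 2 → ∃ h ∈ H, ∃ z ∈ Z ⊓ H, h * z * h⁻¹ ∈ P ∧ h * z * h⁻¹ ∉ Z :=
    fun h => by
      by_contra h1
      push Not at h1
      exact hb ⟨h, h1⟩
  rcases card_eq_two_or hZP (ne_bot_of_le_ne_bot hZH inf_le_left) with h2 | h4
  · have h1 : Z ⊓ H = Z := eq_of_le_of_card_le inf_le_left (by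
      rcases card_eq_two_or hZP.to_inf_left hZH with h | h <;> omega)
    obtain ⟨g, -, z, hz, h3, h4⟩ := hu (h1.symm ▸ h2)
    have h5 := mem_oz.1 hz.1
    have h6 : orderOf z = 2 := orderOf_eq_two_of_mul_self h5.2.2 fun h => h4 (by simp [h])
    have h7 : zpowers z = Z :=
      eq_of_le_of_card_le (zpowers_le.2 hz.1) (by rw [Nat.card_zpowers, h6, h2])
    have hpr : Pr z P := ⟨hS, h5.1, h6, fun x hx => mem_centralizer_singleton_iff.2 (h5.2.1 x hx),
      by rwa [← centralizer_zpowers_eq, h7], fun x hx h8 h9 => by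
        have h10 : x ∈ zpowers z := h7 ▸ mem_oz.2 ⟨hx, fun y hy =>
          mem_centralizer_singleton_iff.1 (h8 hy), h9⟩
        have := mem_four h5.2.2 (one_mul 1) (by simp) (mem_sup_left h10)
        rw [mul_one] at this
        tauto⟩
    have key : ∀ t ∈ P ⊓ H, orderOf t = 2 → oc t = oc z := fun t ht h8 =>
      hpr.oc_eq_of_mem hC h3 (isConj_iff.2 ⟨g, rfl⟩) (fun h => h4 (h.symm ▸ hz.1)) ht h8
    refine ⟨oc z, oc_coprime z, fun t ht h8 => (key t ⟨ht.1, ?_⟩ h8).le,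
      fun t ht h8 => key t ht h8 ▸ le_normalizer_oc t, fun n hn =>
        mem_normalizer_of_map_conj_eq ?_⟩
    · exact sup_le le_rfl (h1.ge.trans inf_le_right) ht.2
    · rw [← oc_conj]
      exact key _ (conj_mem_of_mem_normalizer hn ⟨h5.1, hz.2⟩) (by rw [H5.orderOf_conj', h6])
  suffices ∃ V B : Subgroup G, IsElementaryAbelian 2 V ∧ V ≤ P ⊓ H ∧ 4 ≤ Nat.card V ∧
      IsElementaryAbelian 2 B ∧ Z ≤ B ∧ 8 ≤ Nat.card B by
    obtain ⟨V, B, h1, h2, h3, h5, h6, h7⟩ := this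
    have key := fun t ht h8 => hC.centralizer_le_normalizer_wc (t := t) hS (oz_elem P) (oz_le P)
      (oz_le_centralizer P) h4 ht h8
    refine ⟨wc Z, (hC.wc_eq h5 h7 h6 h4).1 ▸ (hC.wc_eq h5 h7 h6 h4).2,
      fun t ht h8 => (key t ht.1 h8).1, fun t ht h8 => (key t ht.1 h8).2, fun n hn =>
        mem_normalizer_of_map_conj_eq ?_⟩
    have h8 := hC.wc_eq_center (oz_elem P) (oz_le_centralizer P) h4 h1 (h2.trans inf_le_left) h3
    rw [← h8, ← wc_map_conj, h8]
    exact hC.wc_eq_center (oz_elem P) (oz_le_centralizer P) h4 (isElementaryAbelian_map h1 _)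
      ((map_mono h2).trans ((map_conj_eq_of_mem_normalizer hn).le.trans inf_le_left))
      (h3.trans (card_map_conj _ _).ge)
  by_cases h : ∃ u ∈ P ⊓ H, u * u = 1 ∧ u ∉ Z
  · obtain ⟨u, h1, h2, h3⟩ := h
    have h5 := isElementaryAbelian_sup (oz_elem P) (isElementaryAbelian_zpowers
      (show u ^ 2 = 1 by rw [sq, h2]))
      ((zpowers_le.2 h1.1).trans (le_centralizer_iff.1 (oz_le_centralizer P)))
    have h6 : 2 ≤ Nat.card ↥(Z ⊓ H) := by
      rcases card_eq_two_or hZP.to_inf_left hZH with h | h <;> omega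
    have h7 := four_le_card_sup h6 fun h : u ∈ Z ⊓ H => h3 h.1
    have h8 := four_le_card_sup (A := Z) (by omega) h3
    exact ⟨Z ⊓ H ⊔ zpowers u, Z ⊔ zpowers u, isElementaryAbelian_of_le h5
      (sup_le_sup_right inf_le_left _), sup_le (inf_le_inf_right _ (oz_le P)) (zpowers_le.2 h1),
      by omega, h5, le_sup_left, by omega⟩
  push Not at h
  have h1 : 4 ≤ Nat.card ↥(Z ⊓ H) := (card_eq_two_or hZP.to_inf_left hZH).resolve_left fun h1 => by
    obtain ⟨g, -, z, hz, h3, h5⟩ := hu h1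
    exact h5 (h _ ⟨h3, this.conj_mem z hz.2 g⟩ (by rw [conj_mul, (mem_oz.1 hz.1).2.2]; simp))
  refine ⟨Z ⊓ H, Z, isElementaryAbelian_of_le (oz_elem P) inf_le_left,
    inf_le_inf_right _ (oz_le P), h1, oz_elem P, le_rfl,
    (card_eq_four_or hZP h4).resolve_left fun h2 => hc ⟨h2, le_antisymm
      ((closure_le _).2 fun x hx => h x hx.1 (by rw [← sq, hx.2])) fun x hx => subset_closure
        ⟨⟨oz_le P hx, ((eq_of_le_of_card_le inf_le_left (h2.le.trans h1)).ge hx).2⟩,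
          (oz_elem P).2 x hx⟩⟩⟩

end CfsgLib.Sig
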