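import Cfsg.Agent.Lib.Sig.ZCBase
import Cfsg.Agent.Lib.TwoGroupMaxClass

/-!
# The case of a `2`-closed centralizer of a `2`-central involution
-/

set_option autoImplicit false

namespace CfsgLib.Sig

open Subgroup Cfsg CfsgLib.Cop CfsgLib.H1
open scoped commutatorElement

variable {G : Type*} [Group G]

theorem mul_self_of_orderOf {t : G} (h : orderOf t = 2) : t * t = 1 := by
  rw [← sq, ← h, pow_orderOf_eq_one]

theorem orderOf_eq_two_of_mul_self {t : G} (h : t * t = 1) (h1 : t ≠ 1) : orderOf t = 2 :=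
  haveI := Fact.mk Nat.prime_two
  orderOf_eq_prime (by rw [sq, h]) h1

theorem ne_one_of_orderOf {t : G} (h : orderOf t = 2) : t ≠ 1 := fun h1 => by simp [h1] at h

theorem IsConj.orderOf_two {z w : G} (h : IsConj z w) (hz : orderOf z = 2) : orderOf w = 2 := by
  obtain ⟨g, rfl⟩ := isConj_iff.1 h
  rw [H5.orderOf_conj', hz]

theorem isElementaryAbelian_four {a b : G} (ha : a * a = 1) (hb : b * b = 1)
    (hab : a * b = b * a) : IsElementaryAbelian 2 (zpowers a ⊔ zpowers b) :=
  isElementaryAbelian_sup (isElementaryAbelian_zpowers (by rw [sq, ha]))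
    (isElementaryAbelian_zpowers (by rw [sq, hb]))
    (zpowers_le.2 (centralizer_zpowers_eq a ▸ mem_centralizer_singleton_iff.2 hab.symm))

theorem four_le_card_sup [Finite G] {A : Subgroup G} {b : G} (hA : 2 ≤ Nat.card A) (hb : b ∉ A) :
    2 * Nat.card A ≤ Nat.card ↥(A ⊔ zpowers b) := by
  obtain ⟨k, hk⟩ := card_dvd_of_le (le_sup_left : A ≤ A ⊔ zpowers b)
  have h1 : Nat.card A ≠ Nat.card ↥(A ⊔ zpowers b) := fun h =>
    hb ((eq_of_le_of_card_le le_sup_left h.ge).ge (mem_sup_right (mem_zpowers b)))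
  have h2 : 0 < Nat.card ↥(A ⊔ zpowers b) := Nat.card_pos
  rw [hk] at h1 h2 ⊢
  rcases k with _ | _ | k
  · simp at h2
  · simp at h1
  · nlinarith

theorem le_of_four [Finite G] {a b : G} (ha : orderOf a = 2) (hb : orderOf b = 2)
    (hab : a * b = b * a) (hne : a ≠ b) {K L : Subgroup G} (hK : (Nat.card K).Coprime 2)
    (h1 : a ∈ normalizer (K : Set G)) (h2 : b ∈ normalizer (K : Set G))
    (h3 : K ⊓ centralizer ({a} : Set G) ≤ L) (h4 : K ⊓ centralizer ({b} : Set G) ≤ L)
    (h5 : K ⊓ centralizer ({a * b} : Set G) ≤ L) : K ≤ L := by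
  have := Fact.mk Nat.prime_two
  have ha2 := mul_self_of_orderOf ha
  have hb2 := mul_self_of_orderOf hb
  have hV := isElementaryAbelian_four ha2 hb2 hab
  refine le_of_centralizer_le_of_not_isCyclic hV.1 (fun hc => hne ?_)
    (sup_le (zpowers_le.2 h1) (zpowers_le.2 h2))
    (coprime_card_of_isPGroup hK (IsElementaryAbelian.isPGroup hV)).symm fun x hx hx1 => ?_
  · have h6 := PGrp.mem_zpowers_of_orderOf_dvd (C := zpowers a ⊔ zpowers b)
      (mem_sup_left (mem_zpowers a)) (mem_sup_right (mem_zpowers b)) (by rw [ha, hb])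
    rcases mem_four hb2 (one_mul 1) (by simp) (mem_sup_left h6) with h | h | h | h
    · exact absurd h (ne_one_of_orderOf ha)
    · exact h
    · exact absurd h (ne_one_of_orderOf ha)
    · simpa using h
  · rcases mem_four ha2 hb2 hab hx with rfl | rfl | rfl | rfl
    · exact absurd rfl hx1
    all_goals assumption

/-- `z` is the unique central involution of the Sylow subgroup `S`, and `S ⊴ C(z)` -/
structure Pr (z : G) (S : Subgroup G) : Prop where
  syl : IsSylowIn 2 S ⊤
  mem : z ∈ S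
  ord : orderOf z = 2
  cent : S ≤ centralizer ({z} : Set G)
  norm : centralizer ({z} : Set G) ≤ normalizer (S : Set G)
  uniq : ∀ x ∈ S, S ≤ centralizer ({x} : Set G) → x * x = 1 → x = 1 ∨ x = z

/-- `⟨z, u⟩` is a normal four-subgroup of `S` -/
structure NF (z : G) (S : Subgroup G) (u : G) : Prop where
  mem : u ∈ S
  sq : u * u = 1
  ne_one : u ≠ 1
  ne : u ≠ z
  conj : ∀ s ∈ S, s * u ≠ u * s → s * u = u * z * s

variable {z u : G} {S : Subgroup G}

theorem Pr.comm (h : Pr z S) {s : G} (hs : s ∈ S) : s * z = z * s :=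
  mem_centralizer_singleton_iff.1 (h.cent hs)

theorem Pr.sq (h : Pr z S) : z * z = 1 := mul_self_of_orderOf h.ord

theorem Pr.conj (h : Pr z S) (g : G) :
    Pr (g * z * g⁻¹) (S.map (MulAut.conj g).toMonoidHom) where
  syl := h.syl.map_conj_of_mem_normalizer (le_normalizer (mem_top g))
  mem := mem_map_of_mem _ h.mem
  ord := by rw [H5.orderOf_conj', h.ord]
  cent := by rw [centralizer_singleton_conj]; exact map_mono h.cent
  norm := by rw [centralizer_singleton_conj, normalizer_map_conj]; exact map_mono h.norm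
  uniq := by
    rintro _ ⟨x, hx, rfl⟩ h1 h2
    simp only [MulEquiv.coe_toMonoidHom, MulAut.conj_apply] at h1 h2 ⊢
    rw [centralizer_singleton_conj, map_le_map_iff_of_injective (MulAut.conj g).injective] at h1
    rcases h.uniq x hx h1 (by
      rw [conj_mul] at h2
      simpa using h2) with rfl | rfl <;> simp

theorem NF.conj' (h : NF z S u) (g : G) :
    NF (g * z * g⁻¹) (S.map (MulAut.conj g).toMonoidHom) (g * u * g⁻¹) where
  mem := mem_map_of_mem _ h.mem
  sq := by simp [mul_assoc, h.sq, ← mul_assoc u]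
  ne_one := by simpa using h.ne_one
  ne := by simpa using h.ne
  conj := by
    rintro _ ⟨s, hs, rfl⟩ h1
    have := h.conj s hs fun h2 => h1 (by simp [mul_assoc, ← mul_assoc s, h2])
    simp [mul_assoc, ← mul_assoc s, this]

theorem NF.mul_comm (h : NF z S u) (hz : Pr z S) {s t : G} (hs : s ∈ S) (ht : t ∈ S)
    (h1 : s * u ≠ u * s) (h2 : t * u ≠ u * t) : s * t * u = u * (s * t) := by
  calc s * t * u = s * u * z * t := by rw [mul_assoc, h.conj t ht h2]; group
    _ = u * (z * (s * z)) * t := by rw [h.conj s hs h1]; group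
    _ = u * (s * t) := by rw [hz.comm hs, ← mul_assoc z, hz.sq]; group

theorem NF.relIndex_dvd (h : NF z S u) (hz : Pr z S) :
    (centralizer ({u} : Set G)).relIndex S ∣ 2 := by
  by_cases h1 : S ≤ centralizer ({u} : Set G)
  · rw [relIndex_eq_one.2 h1]
    exact one_dvd _
  obtain ⟨a, ha, h2⟩ := SetLike.not_le_iff_exists.1 h1
  refine relIndex_dvd_two_iff.2 ⟨a, ha, fun b hb => or_iff_not_imp_right.2 fun h3 => ?_⟩
  rw [mem_centralizer_singleton_iff] at h2 h3 ⊢
  exact h.mul_comm hz hb ha h3 h2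

variable [Finite G]

theorem Pr.le (h : Pr z S) {U : Subgroup G} (hU : IsPGroup 2 U)
    (h1 : U ≤ centralizer ({z} : Set G)) : U ≤ S :=
  haveI := Fact.mk Nat.prime_two
  le_sup_left.trans (h.syl.eq_of_le (isPGroup_sup_of_le_normalizer hU h.syl.isPGroup
    (h1.trans h.norm)) le_sup_right le_top).le

theorem Pr.mem_of_le_normalizer (h : Pr z S) {U N : Subgroup G} (hN : N ≤ S) (hU : U ≤ N)
    (h1 : N ≤ normalizer (U : Set G)) (h0 : U ≠ ⊥) :
    ∃ t ∈ U, orderOf t = 2 ∧ N ≤ centralizer ({t} : Set G) := by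
  have := Fact.mk Nat.prime_two
  obtain ⟨t, ht, h2⟩ := exists_involution_mem (h.syl.isPGroup.to_le (hU.trans hN)).to_inf_left
    (inf_centralizer_ne_bot_of_isNilpotent (h.syl.isPGroup.to_le hN).isNilpotent hU h1 h0)
  exact ⟨t, ht.1, h2, fun x hx => mem_centralizer_singleton_iff.2 (ht.2 x hx)⟩

theorem Pr.oc_le_centralizer (h : Pr z S) : oc z ≤ centralizer (S : Set G) :=
  haveI := Fact.mk Nat.prime_two
  commutator_eq_bot_iff_le_centralizer'.1 (commutator_eq_bot_of_coprime
    (h.cent.trans (le_normalizer_oc z)) ((oc_le z).trans h.norm)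
    (coprime_card_of_isPGroup (oc_coprime z) h.syl.isPGroup).symm)

theorem Pr.oc_le (h : Pr z S) (hC : SolC G) {t : G} (ht : t ∈ S) (h2 : orderOf t = 2) :
    oc z ≤ oc t :=
  (le_inf le_rfl (h.oc_le_centralizer.trans (centralizer_le (Set.singleton_subset_iff.2 ht)))).trans
    (hC.bal h.ord h2 (h.comm ht).symm)

theorem Pr.oc_eq (h : Pr z S) (hC : SolC G) {w : G} (hw : w ∈ S) (h1 : IsConj z w) :
    oc w = oc z := by
  refine (eq_of_le_of_card_le (h.oc_le hC hw (IsConj.orderOf_two h1 h.ord)) ?_).symm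
  obtain ⟨g, rfl⟩ := isConj_iff.1 h1
  exact (card_oc_conj g z).le

theorem Pr.oc_le_of_comm (h : Pr z S) (hC : SolC G) {w : G} (hw : w ∈ S) (h1 : IsConj z w)
    (h2 : w ≠ z) (t : G) (ht : t ∈ S) (h3 : orderOf t = 2) (h4 : w * t = t * w) : oc t ≤ oc z := by
  have := Fact.mk Nat.prime_two
  have hw2 := IsConj.orderOf_two h1 h.ord
  have hzw : z * w ∈ S := mul_mem h.mem hw
  have key : ∀ t ∈ S, orderOf t = 2 → w * t = t * w → oc t ≤ centralizer ({z * w} : Set G) :=
    fun t ht h3 h4 => le_of_four h.ord hw2 (h.comm hw).symm h2.symm (oc_coprime t)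
      (le_normalizer_oc t (mem_centralizer_singleton_iff.2 (h.comm ht).symm))
      (le_normalizer_oc t (mem_centralizer_singleton_iff.2 h4))
      ((hC.bal h3 h.ord (h.comm ht)).trans (h.oc_le_centralizer.trans
        (centralizer_le (Set.singleton_subset_iff.2 hzw))))
      ((hC.bal h3 hw2 h4.symm).trans ((h.oc_eq hC hw h1).le.trans (h.oc_le_centralizer.trans
        (centralizer_le (Set.singleton_subset_iff.2 hzw))))) inf_le_right
  generalize hT : S ⊓ centralizer ({t} : Set G) = T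
  induction T using WellFoundedGT.induction generalizing t with
  | ind T ih =>
  have hTS : T ≤ S := hT ▸ inf_le_left
  rcases hTS.eq_or_lt with h5 | h5
  · rcases h.uniq t ht (h5 ▸ hT ▸ inf_le_right) (mul_self_of_orderOf h3) with rfl | rfl
    · exact absurd rfl (ne_one_of_orderOf h3)
    · exact le_rfl
  have h6 := lt_inf_normalizer_of_isNilpotent h.syl.isPGroup.isNilpotent h5
  set N := S ⊓ normalizer (T : Set G)
  have hzT : z ∈ T := hT ▸ ⟨h.mem, mem_centralizer_singleton_iff.2 (h.comm ht).symm⟩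
  have hwT : w ∈ T := hT ▸ ⟨hw, mem_centralizer_singleton_iff.2 h4⟩
  obtain ⟨t₁, h7, h8, h9⟩ := h.mem_of_le_normalizer (N := N)
    (U := T ⊓ centralizer (conjClosure (oc t) N : Set G)) inf_le_left (inf_le_left.trans h6.le)
    (le_normalizer_inf_centralizer inf_le_right (le_normalizer_conjClosure _ _)) fun h0 => by
      have h7 : z * w ∈ T ⊓ centralizer (conjClosure (oc t) N : Set G) := ⟨mul_mem hzT hwT, by
        refine zpowers_le.1 (le_centralizer_iff.1 (conjClosure_le_iff.2 fun s hs => ?_))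
        rw [← oc_conj, centralizer_zpowers_eq]
        refine key _ (mul_mem (mul_mem hs.1 ht) (S.inv_mem hs.1)) (by rw [H5.orderOf_conj', h3]) ?_
        have h8 := conj_mem_of_mem_normalizer' hs.2 hwT
        rw [← hT] at h8
        rw [← mem_centralizer_singleton_iff, centralizer_singleton_conj, CfsgLib.mem_map_conj_iff]
        exact h8.2⟩
      rw [h0, mem_bot, mul_eq_one_iff_inv_eq, inv_eq_of_mul_eq_one_right h.sq] at h7
      exact h2 h7.symm
  refine le_trans (le_trans (le_inf le_rfl fun x hx => ?_) (hC.bal h3 h8 ?_))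
    (ih _ (h6.trans_le (le_inf inf_le_left h9)) t₁ (hTS h7.1) h8
      (mem_centralizer_singleton_iff.1 (h9 (h6.le hwT))) rfl)
  · exact mem_centralizer_singleton_iff.2 (h7.2 x (le_conjClosure _ _ hx))
  · exact (mem_centralizer_singleton_iff.1 (hT.ge h7.1).2).symm

theorem NF.oc_le (hu : NF z S u) (h : Pr z S) (hC : SolC G) {w : G} (hw : w ∈ S)
    (h1 : IsConj z w) (h2 : w ≠ z) (h3 : w * u = u * w) {t : G} (ht : t ∈ S) (h4 : orderOf t = 2)
    (h5 : t * u = u * t) : oc t ≤ oc z := by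
  have hu2 := orderOf_eq_two_of_mul_self hu.sq hu.ne_one
  have h6 : orderOf (z * u) = 2 := orderOf_eq_two_of_mul_self
    (by rw [mul_assoc, ← mul_assoc u, h.comm hu.mem, mul_assoc, hu.sq, mul_one, h.sq])
    fun h6 => hu.ne (by rw [← inv_eq_of_mul_eq_one_right h6, inv_eq_of_mul_eq_one_right h.sq])
  exact le_of_four h.ord hu2 (h.comm hu.mem).symm hu.ne.symm (oc_coprime t)
    (le_normalizer_oc t (mem_centralizer_singleton_iff.2 (h.comm ht).symm))
    (le_normalizer_oc t (mem_centralizer_singleton_iff.2 h5.symm)) (hC.bal h4 h.ord (h.comm ht))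
    ((hC.bal h4 hu2 h5).trans (h.oc_le_of_comm hC hw h1 h2 u hu.mem hu2 h3))
    ((hC.bal h4 h6 (by rw [← mul_assoc, h.comm ht, mul_assoc, h5, mul_assoc])).trans
      (h.oc_le_of_comm hC hw h1 h2 _ (mul_mem h.mem hu.mem) h6
        (by rw [← mul_assoc, h.comm hw, mul_assoc, h3, mul_assoc])))

theorem Pr.nf_of_le_normalizer (h : Pr z S) {u : G} (hu : u ∈ S) (h1 : u * u = 1) (h2 : u ≠ 1)
    (h3 : u ≠ z) (h4 : S ≤ normalizer ((zpowers z ⊔ zpowers u : Subgroup G) : Set G)) :
    NF z S u := by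
  refine ⟨hu, h1, h2, h3, fun s hs h5 => ?_⟩
  rcases mem_four h.sq h1 (h.comm hu).symm
    (conj_mem_of_mem_normalizer (h4 hs) (mem_sup_right (mem_zpowers u))) with h6 | h6 | h6 | h6
  · exact absurd (by simpa using h6) h2
  · rw [mul_inv_eq_iff_eq_mul, ← h.comm hs, mul_right_inj] at h6
    exact absurd h6 h3
  · exact absurd (mul_inv_eq_iff_eq_mul.1 h6) h5
  · rw [mul_inv_eq_iff_eq_mul.1 h6, h.comm hu]

theorem NF.nf_of_bad (hu : NF z S u) (h : Pr z S) {w : G} (hw : w ∈ S) (h1 : IsConj z w)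
    (h2 : w ≠ z) (hb : ∀ x ∈ S, IsConj z x → x * u = u * x → x = z) : NF z S w := by
  have := Fact.mk Nat.prime_two
  have hw2 := IsConj.orderOf_two h1 h.ord
  have hww := mul_self_of_orderOf hw2
  have hzw := h.comm hw
  obtain ⟨g, hg⟩ := isConj_iff.1 h1
  have h' := hg ▸ h.conj g
  have hu' := hg ▸ hu.conj' g
  set S' := S.map (MulAut.conj g).toMonoidHom
  set u' := g * u * g⁻¹ with hu'def
  have hb' : ∀ x ∈ S', IsConj z x → x * u' = u' * x → x = w := by
    rintro _ ⟨x, hx, rfl⟩ h3 h4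
    rw [← hg, hb x hx (h3.trans (isConj_iff.2 ⟨g⁻¹, by simp [mul_assoc]⟩))
      (by
        simp only [hu'def, MulEquiv.coe_toMonoidHom, MulAut.conj_apply, conj_mul] at h4
        simpa using h4)]
    rfl
  have hD : ∀ x ∈ S, x * w = w * x → x ∈ S' := fun x hx h3 =>
    h'.le h.syl.isPGroup.to_inf_left inf_le_right ⟨hx, mem_centralizer_singleton_iff.2 h3⟩
  have hz' := hD z h.mem hzw.symm
  have k1 : w * u ≠ u * w := fun h3 => h2 (hb w hw h1 h3)
  have k2 : z * u' ≠ u' * z := fun h3 => h2 (hb' z hz' (IsConj.refl z) h3).symm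
  have c1 : ∀ x ∈ S, IsConj z x → x * w = w * x → x ∈ zpowers z ⊔ zpowers w := by
    intro x hx h3 h4
    by_cases h5 : x = z
    · exact h5 ▸ mem_sup_left (mem_zpowers _)
    by_cases h6 : x = w
    · exact h6 ▸ mem_sup_right (mem_zpowers _)
    have h7 := hu.mul_comm h hx hw (fun h7 => h5 (hb x hx h3 h7)) k1
    have h8 := hu'.mul_comm h' (hD x hx h4) hz' (fun h7 => h6 (hb' x (hD x hx h4) h3 h7)) k2
    have h9 : x * w = z := hb _ (mul_mem hx hw) (h3.trans (isConj_iff.2 ⟨u'⁻¹, by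
      have h9 := hu'.conj x (hD x hx h4) fun h7 => h6 (hb' x (hD x hx h4) h3 h7)
      rw [inv_inv, mul_assoc, h9, h4]
      group⟩)) h7
    rw [eq_mul_inv_of_mul_eq h9]
    exact mul_mem (mem_sup_left (mem_zpowers z)) (mem_sup_right (inv_mem (mem_zpowers w)))
  have c2 : ∀ s ∈ S, s * w * s⁻¹ ∈ zpowers z ⊔ zpowers w →
      s ∈ normalizer ((zpowers z ⊔ zpowers w : Subgroup G) : Set G) := fun s hs h3 =>
    mem_normalizer_of_map_conj_eq (eq_of_le_of_card_le (by
      rw [Subgroup.map_sup, MonoidHom.map_zpowers, MonoidHom.map_zpowers]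
      refine sup_le (zpowers_le.2 (mem_sup_left ?_)) (zpowers_le.2 h3)
      simp [h.comm hs]) (card_map_conj _ _).ge)
  refine h.nf_of_le_normalizer hw hww (ne_one_of_orderOf hw2) h2 ?_
  set D := S ⊓ normalizer ((zpowers z ⊔ zpowers w : Subgroup G) : Set G)
  by_contra h3
  obtain ⟨s, hs, h4⟩ := SetLike.exists_of_lt (lt_inf_normalizer_of_isNilpotent
    h.syl.isPGroup.isNilpotent (lt_of_le_of_ne (inf_le_left : D ≤ S) fun h4 =>
      h3 (h4 ▸ inf_le_right)))
  have h5 : s * w * s⁻¹ ∈ D := conj_mem_of_mem_normalizer hs.2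
    ⟨hw, le_normalizer (mem_sup_right (mem_zpowers w))⟩
  have h6 : IsConj z (s * w * s⁻¹) := h1.trans (isConj_iff.2 ⟨s, rfl⟩)
  have h7 : s * w * s⁻¹ ∉ zpowers z ⊔ zpowers w := fun h7 => h4 ⟨hs.1, c2 s hs.1 h7⟩
  set x := s * w * s⁻¹
  have hxx := mul_self_of_orderOf (IsConj.orderOf_two h6 h.ord)
  have h8 : x * u = u * z * x := hu.conj x h5.1 fun h8 =>
    h7 (mem_sup_left ((hb x h5.1 h6 h8).symm ▸ mem_zpowers z))
  have h9 : x * w = z * w * x := by
    rcases mem_four h.sq hww hzw.symm (conj_mem_of_mem_normalizer h5.2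
      (mem_sup_right (mem_zpowers w))) with h9 | h9 | h9 | h9
    · exact absurd (by simpa using h9) (ne_one_of_orderOf hw2)
    · rw [mul_inv_eq_iff_eq_mul, ← h.comm h5.1, mul_right_inj] at h9
      exact absurd h9 h2
    · exact absurd (c1 x h5.1 h6 (mul_inv_eq_iff_eq_mul.1 h9)) h7
    · exact mul_inv_eq_iff_eq_mul.1 h9
  have h10 : x * u ∈ S' := hD _ (mul_mem h5.1 hu.mem) (by
    have h10 : u * w = z * (w * u) := by
      rw [hu.conj w hw k1, ← mul_assoc, ← mul_assoc, ← h.comm hu.mem, mul_assoc u, h.sq, mul_one]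
    calc x * u * w = x * z * w * u := by rw [mul_assoc, h10]; group
      _ = z * (x * w) * u := by rw [h.comm h5.1]; group
      _ = z * z * (w * (x * u)) := by rw [h9]; group
      _ = w * (x * u) := by rw [h.sq, one_mul])
  have h11 : x * u * (x * u) = z := by
    calc x * u * (x * u) = u * z * (x * x) * u := by nth_rewrite 1 [h8]; group
      _ = z := by rw [hxx, mul_one, h.comm hu.mem, mul_assoc, hu.sq, mul_one]
  refine k2 ?_
  by_cases h12 : x * u * u' = u' * (x * u)
  · rw [← h11, mul_assoc, h12, ← mul_assoc, h12, mul_assoc]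
  · exact h11 ▸ hu'.mul_comm h' h10 h10 h12 h12

theorem Pr.exists_index_two (h : Pr z S) (hC : SolC G) {w : G} (hw : w ∈ S) (h1 : IsConj z w)
    (h2 : w ≠ z) : ∃ S₀ : Subgroup G, S₀.relIndex S ∣ 2 ∧
      ∀ t ∈ S, t ∈ S₀ → orderOf t = 2 → oc t ≤ oc z := by
  have := Fact.mk Nat.prime_two
  have hcen : ∀ t : S, t ∈ center S → orderOf (t : G) = 2 → oc (t : G) ≤ oc z := fun t ht h3 => by
    rcases h.uniq t t.2 (fun x hx => mem_centralizer_singleton_iff.2
      (congrArg Subtype.val (mem_center_iff.1 ht ⟨x, hx⟩))) (mul_self_of_orderOf h3) with h4 | h4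
    · exact absurd h4 (ne_one_of_orderOf h3)
    · rw [h4]
  rcases PGrp.isCyclic_or_isDQSD_or_exists_normal_card_sq h.syl.isPGroup with
    h3 | ⟨-, n, x, y, h3⟩ | ⟨E, hE, h3, h4⟩
  · refine ⟨S, by simp, fun t ht _ h4 => hcen ⟨t, ht⟩ (mem_center_iff.2 fun g => ?_) h4⟩
    exact (IsCyclic.isMulCommutative (α := S)).is_comm.comm _ _
  · refine ⟨(zpowers x).map S.subtype, ?_, ?_⟩
    · rw [relIndex, ← comap_subtype, comap_map_eq_self_of_injective S.subtype_injective,
        h3.index_zpowers]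
    · rintro _ - ⟨t, ht, rfl⟩ h4
      refine hcen t ?_ h4
      rw [h3.center_eq]
      exact PGrp.mem_zpowers_of_orderOf_dvd ht (pow_mem (mem_zpowers x) _)
        (by rw [h3.pow_mem_center.1, ← h4, coe_subtype, Subgroup.orderOf_coe])
  set U := E.map S.subtype with hUdef
  have hU : Nat.card U = 4 := by rw [card_map_of_injective S.subtype_injective, h4]; rfl
  have hUn : S ≤ normalizer (U : Set G) := by
    have h5 := map_normalizer_le' (le_normalizer_of_normal (H := E) (K := ⊤)) S.subtype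
    rwa [← MonoidHom.range_eq_map, range_subtype] at h5
  obtain ⟨t, h5, h6, h7⟩ := h.mem_of_le_normalizer le_rfl (map_subtype_le E) hUn
    fun h0 => by rw [← hUdef] at h0; simp [h0] at hU
  obtain rfl : t = z := (h.uniq t (map_subtype_le E h5) h7 (mul_self_of_orderOf h6)).resolve_left
    (ne_one_of_orderOf h6)
  have h8 : Nat.card (zpowers t) = 2 := by rw [Nat.card_zpowers, h6]
  obtain ⟨u, hu, h9⟩ := SetLike.not_le_iff_exists.1 fun h9 : U ≤ zpowers t => by
    have := card_le_of_le h9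
    omega
  have hu' : NF t S u := h.nf_of_le_normalizer (map_subtype_le E hu)
    (by rw [← _root_.sq]; exact (isElementaryAbelian_map h3 S.subtype).2 u hu)
    (fun h10 => h9 (h10 ▸ one_mem _)) (fun h10 => h9 (h10 ▸ mem_zpowers _)) (by
      rwa [eq_of_le_of_card_le (sup_le (zpowers_le.2 h5) (zpowers_le.2 hu)) (by
        have := four_le_card_sup h8.ge h9
        rw [h8] at this
        exact hU.le.trans this)])
  by_cases hb : ∀ x ∈ S, IsConj t x → x * u = u * x → x = t
  · have h10 := hu'.nf_of_bad h hw h1 h2 hb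
    exact ⟨_, h10.relIndex_dvd h, fun s hs h11 h12 => h10.oc_le h hC hw h1 h2 rfl hs h12
      (mem_centralizer_singleton_iff.1 h11)⟩
  · push Not at hb
    obtain ⟨x, k1, k2, k3, k4⟩ := hb
    exact ⟨_, hu'.relIndex_dvd h, fun s hs h11 h12 => hu'.oc_le h hC k1 k2 k4 k3 hs h12
      (mem_centralizer_singleton_iff.1 h11)⟩

theorem Pr.oc_eq_of_mem (h : Pr z S) (hC : SolC G) {w : G} (hw : w ∈ S) (h1 : IsConj z w)
    (h2 : w ≠ z) {t : G} (ht : t ∈ S ⊓ pResidual 2 G) (h3 : orderOf t = 2) : oc t = oc z := by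
  have := PRes.pResidual_normal (p := 2) (G := G)
  obtain ⟨S₀, h4, h5⟩ := h.exists_index_two hC hw h1 h2
  obtain ⟨g, -, h6⟩ := exists_conj_mem_of_relIndex_dvd (R₀ := S₀) (h.syl.inf_of_le_normalizer
    le_top le_normalizer_of_normal) (by
      obtain ⟨a, -, h6⟩ := relIndex_dvd_two_iff.1 h4
      by_cases h7 : S ⊓ pResidual 2 G ≤ S₀
      · rw [relIndex_eq_one.2 h7]
        exact one_dvd _
      obtain ⟨b, hb, h8⟩ := SetLike.not_le_iff_exists.1 h7
      refine relIndex_dvd_two_iff.2 ⟨b⁻¹, inv_mem hb, fun c hc => or_iff_not_imp_right.2 fun h9 => ?_⟩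
      simpa [mul_assoc] using mul_mem ((h6 c hc.1).resolve_right h9)
        (inv_mem ((h6 b hb.1).resolve_right h8))) ht h3
  refine (eq_of_le_of_card_le (h.oc_le hC ht.1 h3) ?_).symm
  rw [← card_oc_conj g⁻¹ t, inv_inv]
  exact card_le_of_le (h5 _ h6.1.1 h6.2 (by rw [H5.orderOf_conj'', h3]))

end CfsgLib.Sig
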