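import Cfsg.Agent.Lib.Sig.ZNPar

/-!
# The amalgams `(S₄, S₄)` and `(S₄ × C₂, S₄ × C₂)`
-/

set_option autoImplicit false

namespace CfsgLib.Sig

open Subgroup Cfsg CfsgLib.Cop CfsgLib.H1

variable {G : Type*} [Group G]

structure Am (B : Subgroup G) (d d' z v v' : G) : Prop where
  l : Par B d z v
  r : Par B d' z v'
  nc : v * v' ≠ v' * v
  noN : ∀ N ≤ B, B ⊔ zpowers d ≤ normalizer (N : Set G) →
    B ⊔ zpowers d' ≤ normalizer (N : Set G) → N = ⊥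

namespace Am

variable {B : Subgroup G} {d d' z v v' : G} (h : Am B d d' z v v')
include h

theorem symm : Am B d' d z v' v := ⟨h.r, h.l, h.nc.symm, fun N h1 h2 h3 => h.noN N h1 h3 h2⟩

theorem conj_v : v' * v * v'⁻¹ = z * v :=
  (h.l.v_conj _ h.r.v_mem).resolve_left fun e => h.nc (mul_inv_eq_iff_eq_mul.1 e).symm

theorem swap : v' * v = z * (v * v') := by rw [← mul_assoc, ← h.conj_v, inv_mul_cancel_right]

theorem mem_Q_cases {q : G} (hq : q ∈ B ⊓ centralizer {v}) :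
    q ∈ B ⊓ centralizer {v'} ∨ q * v ∈ B ⊓ centralizer {v'} :=
  (h.r.v_conj q hq.1).imp (h.r.mem_Q hq.1) (h.r.mul_mem_Q hq.1 h.l.v_mem · h.symm.conj_v)

theorem sq_mem {q : G} (hq : q ∈ B ⊓ centralizer {v}) :
    ∃ e ∈ B ⊓ centralizer {v'}, e * e = q * q := by
  rcases h.mem_Q_cases hq with e | e
  · exact ⟨q, e, rfl⟩
  · refine ⟨_, e, ?_⟩
    rw [mul_assoc, ← mul_assoc v, ← mem_centralizer_singleton_iff.1 hq.2, mul_assoc q, h.l.v_sq,
      mul_one]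

theorem Q_sq {q : G} (hq : q ∈ B ⊓ centralizer {v}) : q * q = 1 := by
  have key : ∀ {Q P : Subgroup G}, P ≤ normalizer (Q : Set G) →
      P ≤ normalizer ((closure {x | ∃ q ∈ Q, q * q = x} : Subgroup G) : Set G) := by
    intro Q P hP
    refine le_normalizer_iff.2 fun g hg x hx => ?_
    have : closure {x | ∃ q ∈ Q, q * q = x} ≤
        (closure {x | ∃ q ∈ Q, q * q = x}).comap (MulAut.conj g).toMonoidHom := by
      rw [closure_le]
      rintro _ ⟨q, hq, rfl⟩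
      exact subset_closure ⟨_, conj_mem_of_le_normalizer hP hg hq, conj_mul⟩
    exact this hx
  have h1 : {x | ∃ q ∈ B ⊓ centralizer {v}, q * q = x} =
      {x | ∃ q ∈ B ⊓ centralizer {v'}, q * q = x} := by
    ext x
    constructor
    · rintro ⟨q, hq, rfl⟩; exact h.sq_mem hq
    · rintro ⟨q, hq, rfl⟩; exact h.symm.sq_mem hq
  have := h.noN _ ((closure_le _).2 (by rintro _ ⟨q, hq, rfl⟩; exact B.mul_mem hq.1 hq.1))
    (key h.l.le_normalizer_Q) (h1 ▸ key h.r.le_normalizer_Q)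
  exact mem_bot.1 (this ▸ subset_closure ⟨q, hq, rfl⟩)

theorem Q_comm {p q : G} (hp : p ∈ B ⊓ centralizer {v}) (hq : q ∈ B ⊓ centralizer {v}) :
    p * q = q * p := by
  rw [← inv_eq_of_mul_eq_one_right (h.Q_sq (mul_mem hp hq)), mul_inv_rev,
    inv_eq_of_mul_eq_one_right (h.Q_sq hp), inv_eq_of_mul_eq_one_right (h.Q_sq hq)]

theorem v_mem_Q : v ∈ B ⊓ centralizer {v} := ⟨h.l.v_mem, mem_centralizer_singleton_iff.2 rfl⟩

theorem z_mem_Q : z ∈ B ⊓ centralizer {v} :=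
  ⟨h.l.z_mem, mem_centralizer_singleton_iff.2 h.l.vz.symm⟩

theorem central {e : G} (h1 : e ∈ B ⊓ centralizer {v}) (h2 : e ∈ B ⊓ centralizer {v'}) {b : G}
    (hb : b ∈ B) : b * e = e * b := by
  rcases h.l.v_conj b hb with e1 | e1
  · exact h.Q_comm (h.l.mem_Q hb e1) h1
  · have h3 := h.Q_comm (h.l.mul_mem_Q hb h.r.v_mem e1 h.conj_v) h1
    rwa [mul_assoc, ← mem_centralizer_singleton_iff.1 h2.2, ← mul_assoc, ← mul_assoc,
      mul_left_inj] at h3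

theorem fix_or {e : G} (h1 : e ∈ B ⊓ centralizer {v}) (h2 : e ∈ B ⊓ centralizer {v'}) :
    d * e * d⁻¹ = e ∨ d * (z * e) * d⁻¹ = z * e := by
  have hd := mem_normalizer_iff.1 h.l.norm
  have hd' := mem_normalizer_iff''.1 h.l.norm
  have e1 := (hd e).1 h1
  have e2 := (hd' e).1 h1
  have hv' : v' * e * v'⁻¹ = e := mul_inv_eq_iff_eq_mul.2 (h.central h1 h2 h.r.v_mem)
  have q0 := h.l.conj_d h.r.v_mem h.conj_v
  have s1 : v' * (d * e * d⁻¹) * v'⁻¹ = d⁻¹ * e * d := by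
    have : v' * (d * e * d⁻¹) * v'⁻¹ = d⁻¹ * ((d * (v' * d * v'⁻¹)) * (v' * e * v'⁻¹) *
      (d * (v' * d * v'⁻¹))⁻¹) * d := by group
    rw [this, hv', h.Q_comm q0 h1, mul_inv_cancel_right]
  have s2 : ∀ q ∈ B ⊓ centralizer {v}, v' * q * v'⁻¹ = q ∨ v' * q * v'⁻¹ = z * q := fun q hq => by
    rcases h.r.v_conj q hq.1 with e | e
    · left
      rw [mul_inv_eq_iff_eq_mul] at e ⊢
      exact e.symm
    · right
      rw [mul_inv_eq_iff_eq_mul] at e ⊢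
      rw [mul_assoc, e, ← mul_assoc, ← mul_assoc, h.l.z_sq, one_mul]
  have s3 : d⁻¹ * e * d = d * e * d⁻¹ ∨ d⁻¹ * e * d = z * (d * e * d⁻¹) := s1 ▸ s2 _ e1
  have c3 : d * (d * e * d⁻¹) * d⁻¹ = d⁻¹ * e * d := by
    rw [show d * (d * e * d⁻¹) * d⁻¹ = d * d * e * (d * d)⁻¹ by group, ← h.l.d_inv, inv_inv]
  rcases s3 with s3 | s3
  · left
    rw [← c3] at s3
    exact mul_left_cancel (mul_right_cancel s3)
  · right
    have s4 : e = v * (z * (d * e * d⁻¹)) :=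
      calc e = d * (d⁻¹ * e * d) * d⁻¹ := by group
        _ = d * z * d⁻¹ * (d * (d * e * d⁻¹) * d⁻¹) := by rw [s3, conj_mul]
        _ = _ := by rw [h.l.dz, c3, s3]
    rw [← conj_mul, h.l.dz]
    conv_rhs => rw [s4, ← mul_assoc v, h.l.vz, ← mul_assoc z, ← mul_assoc z, h.l.z_sq, one_mul]

theorem eq_one {e : G} (h1 : e ∈ B ⊓ centralizer {v}) (h2 : e ∈ B ⊓ centralizer {v'})
    (h3 : d * e * d⁻¹ = e) (h4 : d' * e * d'⁻¹ = e) : e = 1 := by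
  have key : ∀ x, x * e * x⁻¹ = e → B ⊔ zpowers x ≤ normalizer (zpowers e : Set G) := fun x hx => by
    refine le_trans ?_ (centralizer_le_normalizer _)
    rw [centralizer_zpowers']
    exact sup_le (fun b hb => mem_centralizer_singleton_iff.2 (h.central h1 h2 hb))
      (zpowers_le_of_mem (mem_centralizer_singleton_iff.2 (mul_inv_eq_iff_eq_mul.1 hx)))
  exact zpowers_eq_bot.1 (h.noN _ (zpowers_le_of_mem h1.1) (key d h3) (key d' h4))

theorem exists_c : ∃ c, c ∈ B ⊓ centralizer {v} ∧ c ∈ B ⊓ centralizer {v'} ∧ d * c * d⁻¹ = c ∧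
    (c = 1 ∨ d' * (z * c) * d'⁻¹ = z * c) ∧ ∀ e ∈ B ⊓ centralizer {v}, e ∈ B ⊓ centralizer {v'} →
      e = 1 ∨ e = z ∨ e = c ∨ e = z * c := by
  have zz : ∀ x, z * (z * x) = x := fun x => by rw [← mul_assoc, h.l.z_sq, one_mul]
  have key : ∀ e ∈ B ⊓ centralizer {v}, e ∈ B ⊓ centralizer {v'} → e = 1 ∨ e = z ∨
      (d * e * d⁻¹ = e ∧ d' * (z * e) * d'⁻¹ = z * e) ∨
      (d * (z * e) * d⁻¹ = z * e ∧ d' * (z * (z * e)) * d'⁻¹ = z * (z * e)) := fun e h1 h2 => by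
    rcases h.fix_or h1 h2 with e1 | e1 <;> rcases h.symm.fix_or h2 h1 with e2 | e2
    · exact Or.inl (h.eq_one h1 h2 e1 e2)
    · exact Or.inr (Or.inr (Or.inl ⟨e1, e2⟩))
    · exact Or.inr (Or.inr (Or.inr ⟨e1, by rwa [zz]⟩))
    · have := h.eq_one (mul_mem h.z_mem_Q h1) (mul_mem h.symm.z_mem_Q h2) e1 e2
      exact Or.inr (Or.inl (by rw [← zz e, this, mul_one]))
  by_cases hc : ∃ c, c ∈ B ⊓ centralizer {v} ∧ c ∈ B ⊓ centralizer {v'} ∧ d * c * d⁻¹ = c ∧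
    d' * (z * c) * d'⁻¹ = z * c
  · obtain ⟨c, c1, c2, c3, c4⟩ := hc
    have key2 : ∀ e ∈ B ⊓ centralizer {v}, e ∈ B ⊓ centralizer {v'} → d * e * d⁻¹ = e →
        d' * (z * e) * d'⁻¹ = z * e → e = c := fun e h1 h2 h3 h4 => by
      have e1 : e * c = z * e * (z * c) := by
        rw [mul_assoc, ← mul_assoc e, h.l.z_comm h1.1, mul_assoc, zz]
      have := h.eq_one (mul_mem h1 c1) (mul_mem h2 c2) (by rw [← conj_mul, h3, c3])
        (by rw [e1, ← conj_mul, h4, c4])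
      rw [eq_inv_of_mul_eq_one_left this, inv_eq_of_mul_eq_one_right (h.Q_sq c1)]
    refine ⟨c, c1, c2, c3, Or.inr c4, fun e h1 h2 => ?_⟩
    rcases key e h1 h2 with e1 | e1 | e1 | e1
    · exact Or.inl e1
    · exact Or.inr (Or.inl e1)
    · exact Or.inr (Or.inr (Or.inl (key2 e h1 h2 e1.1 e1.2)))
    · have := key2 _ (mul_mem h.z_mem_Q h1) (mul_mem h.symm.z_mem_Q h2) e1.1 e1.2
      exact Or.inr (Or.inr (Or.inr (by rw [← this, zz])))
  · refine ⟨1, one_mem _, one_mem _, by simp, Or.inl rfl, fun e h1 h2 => ?_⟩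
    rcases key e h1 h2 with e1 | e1 | e1 | e1
    · exact Or.inl e1
    · exact Or.inr (Or.inl e1)
    · exact absurd ⟨e, h1, h2, e1⟩ hc
    · exact absurd ⟨_, mul_mem h.z_mem_Q h1, mul_mem h.symm.z_mem_Q h2, e1⟩ hc

theorem cases {b : G} (hb : b ∈ B) : ∃ e ∈ B ⊓ centralizer {v}, e ∈ B ⊓ centralizer {v'} ∧
    (b = e ∨ b = e * v ∨ b = e * v' ∨ b = e * (v * v')) := by
  have key : ∀ q ∈ B ⊓ centralizer {v}, ∃ e ∈ B ⊓ centralizer {v}, e ∈ B ⊓ centralizer {v'} ∧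
      (q = e ∨ q = e * v) := fun q hq => by
    rcases h.mem_Q_cases hq with e | e
    · exact ⟨q, hq, e, Or.inl rfl⟩
    · exact ⟨_, mul_mem hq h.v_mem_Q, e, Or.inr (by rw [mul_assoc, h.l.v_sq, mul_one])⟩
  rcases h.l.v_conj b hb with e | e
  · obtain ⟨x, h1, h2, h3⟩ := key b (h.l.mem_Q hb e)
    exact ⟨x, h1, h2, h3.imp_right Or.inl⟩
  · obtain ⟨x, h1, h2, h3⟩ := key _ (h.l.mul_mem_Q hb h.r.v_mem e h.conj_v)
    refine ⟨x, h1, h2, Or.inr (Or.inr (h3.imp (fun e => ?_) fun e => ?_))⟩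
    · rw [← e, mul_assoc, h.r.v_sq, mul_one]
    · rw [← mul_assoc, ← e, mul_assoc, h.r.v_sq, mul_one]

theorem vv_sq : v * v' * (v * v') = z := by
  rw [mul_assoc, ← mul_assoc v', h.swap, mul_assoc, mul_assoc, h.r.v_sq, mul_one, ← mul_assoc,
    h.l.vz, mul_assoc, h.l.v_sq, mul_one]

theorem sq_cases {b : G} (hb : b ∈ B) :
    (b * b = 1 ∧ (b ∈ B ⊓ centralizer {v} ∨ b ∈ B ⊓ centralizer {v'})) ∨ b * b = z := by
  obtain ⟨e, h1, h2, rfl | rfl | rfl | rfl⟩ := h.cases hb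
  · exact Or.inl ⟨h.Q_sq h1, Or.inl h1⟩
  · exact Or.inl ⟨h.Q_sq (mul_mem h1 h.v_mem_Q), Or.inl (mul_mem h1 h.v_mem_Q)⟩
  · exact Or.inl ⟨h.symm.Q_sq (mul_mem h2 h.symm.v_mem_Q), Or.inr (mul_mem h2 h.symm.v_mem_Q)⟩
  · right
    rw [mul_assoc, ← mul_assoc (v * v'), h.central h1 h2 (mul_mem h.l.v_mem h.r.v_mem), mul_assoc,
      h.vv_sq, ← mul_assoc, h.Q_sq h1, one_mul]

theorem conj_z {x : G} (hx : x ∈ normalizer (B : Set G)) : x * z * x⁻¹ = z := by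
  have h1 := conj_mem_of_le_normalizer le_rfl hx (mul_mem h.l.v_mem h.r.v_mem)
  have h2 : x * (v * v') * x⁻¹ * (x * (v * v') * x⁻¹) = x * z * x⁻¹ := by rw [conj_mul, h.vv_sq]
  rcases h.sq_cases h1 with e | e
  · exact absurd (by simpa using h2.symm.trans e.1) h.l.z_ne
  · exact h2.symm.trans e

theorem mem_oz {e : G} : e ∈ oz B ↔ e ∈ B ⊓ centralizer {v} ∧ e ∈ B ⊓ centralizer {v'} := by
  rw [Sig.mem_oz]
  exact ⟨fun h1 => ⟨⟨h1.1, mem_centralizer_singleton_iff.2 (h1.2.1 _ h.l.v_mem).symm⟩,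
    ⟨h1.1, mem_centralizer_singleton_iff.2 (h1.2.1 _ h.r.v_mem).symm⟩⟩,
    fun h1 => ⟨h1.1.1, fun b hb => h.central h1.1 h1.2 hb, h.Q_sq h1.1⟩⟩

end Am

end CfsgLib.Sig
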