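import Cfsg.Agent.Lib.Sig.ZCMain

/-!
# The amalgam method on a cubic graph with normal four-groups
-/

set_option autoImplicit false

namespace CfsgLib.Sig

open Subgroup MulAction CfsgLib.Cop CfsgLib.H1

/-- A cubic graph with a four-group `{z α β}` attached to each vertex `α`. -/
structure Cub (G Ω : Type*) [Group G] [MulAction G Ω] where
  adj : Ω → Ω → Prop
  z : Ω → Ω → G
  symm : ∀ {α β}, adj α β → adj β α
  smul : ∀ (g : G) {α β}, adj α β → adj (g • α) (g • β)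
  z_smul : ∀ (g : G) {α β}, adj α β → z (g • α) (g • β) = g * z α β * g⁻¹
  z_sq : ∀ {α β}, adj α β → z α β * z α β = 1
  z_ne : ∀ {α β}, adj α β → z α β ≠ 1
  z_fix : ∀ {α β}, adj α β → z α β • α = α
  z_fix' : ∀ {α β γ}, adj α β → adj α γ → z α β • γ = γ
  nb : ∀ α, ∃ β γ δ, (∀ ε, adj α ε ↔ ε = β ∨ ε = γ ∨ ε = δ) ∧ β ≠ γ ∧ β ≠ δ ∧ γ ≠ δ ∧
    z α β * z α γ = z α δ ∧ (∃ g : G, g • α = α ∧ g • β = γ ∧ g • γ = δ) ∧
      ∃ g : G, g • α = α ∧ g • β = β ∧ g • γ = δ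
  noN : ∀ {α β}, adj α β → ∀ N : Subgroup G, N ≤ stabilizer G α → N ≤ stabilizer G β →
    stabilizer G α ≤ normalizer (N : Set G) → stabilizer G β ≤ normalizer (N : Set G) → N = ⊥

namespace Cub

variable {G Ω : Type*} [Group G] [MulAction G Ω] (C : Cub G Ω)

structure Tri (α β γ δ : Ω) : Prop where
  a1 : C.adj α β
  a2 : C.adj α γ
  a3 : C.adj α δ
  n12 : β ≠ γ
  n13 : β ≠ δ
  n23 : γ ≠ δ

def Q (α : Ω) : Subgroup G where
  carrier := {g | g • α = α ∧ ∀ β, C.adj α β → g • β = β}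
  mul_mem' := fun {a b} ha hb => ⟨by rw [mul_smul, hb.1, ha.1],
    fun β h => by rw [mul_smul, hb.2 β h, ha.2 β h]⟩
  one_mem' := ⟨one_smul _ _, fun _ _ => one_smul _ _⟩
  inv_mem' := fun {a} ha => ⟨inv_smul_eq_iff.2 ha.1.symm,
    fun β h => inv_smul_eq_iff.2 (ha.2 β h).symm⟩

def V (α : Ω) : Subgroup G := closure {x | ∃ β, C.adj α β ∧ C.z α β = x}

variable {C}
variable {α β γ δ ε : Ω} {g : G}

theorem mem_Q : g ∈ C.Q α ↔ g • α = α ∧ ∀ β, C.adj α β → g • β = β := Iff.rfl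

theorem V_le {K : Subgroup G} : C.V α ≤ K ↔ ∀ β, C.adj α β → C.z α β ∈ K := by
  rw [V, closure_le]
  exact ⟨fun h β hβ => h ⟨β, hβ, rfl⟩, by rintro h _ ⟨β, hβ, rfl⟩; exact h β hβ⟩

theorem z_mem_V (h : C.adj α β) : C.z α β ∈ C.V α := V_le.1 le_rfl β h

theorem V_le_Q : C.V α ≤ C.Q α := V_le.2 fun _ h => ⟨C.z_fix h, fun _ h' => C.z_fix' h h'⟩

theorem z_inv (h : C.adj α β) : (C.z α β)⁻¹ = C.z α β := inv_eq_of_mul_eq_one_right (C.z_sq h)

theorem conj_z (hg : g • α = α) (h : C.adj α β) : g * C.z α β * g⁻¹ = C.z α (g • β) := by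
  rw [← C.z_smul g h, hg]

theorem conj_z' (hg : g • α = α) (hg' : g • β = β) (h : C.adj α β) :
    g * C.z α β * g⁻¹ = C.z α β := by
  rw [conj_z hg h, hg']

theorem adj_smul (hg : g • α = α) (h : C.adj α β) : C.adj α (g • β) := by
  have := C.smul g h
  rwa [hg] at this

theorem Tri.swap23 (h : C.Tri α β γ δ) : C.Tri α β δ γ :=
  ⟨h.a1, h.a3, h.a2, h.n13, h.n12, h.n23.symm⟩

theorem Tri.swap12 (h : C.Tri α β γ δ) : C.Tri α γ β δ :=
  ⟨h.a2, h.a1, h.a3, h.n12.symm, h.n23, h.n13⟩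

theorem Tri.rot (h : C.Tri α β γ δ) : C.Tri α γ δ β := h.swap12.swap23

theorem Tri.cases (h : C.Tri α β γ δ) (hε : C.adj α ε) : ε = β ∨ ε = γ ∨ ε = δ := by
  obtain ⟨a, b, c, h1, -⟩ := C.nb α
  have h2 := (h1 _).1 h.a1
  have h3 := (h1 _).1 h.a2
  have h4 := (h1 _).1 h.a3
  have h5 := (h1 _).1 hε
  have := h.n12
  have := h.n13
  have := h.n23
  grind

theorem exists_third (h1 : C.adj α β) (h2 : C.adj α γ) (h : β ≠ γ) : ∃ δ, C.Tri α β γ δ := by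
  obtain ⟨a, b, c, h3, h4, h5, h6, -⟩ := C.nb α
  obtain ⟨δ, hδ, h7, h8⟩ : ∃ δ, (δ = a ∨ δ = b ∨ δ = c) ∧ β ≠ δ ∧ γ ≠ δ := by
    by_contra hn
    push Not at hn
    have := hn a (Or.inl rfl)
    have := hn b (Or.inr (Or.inl rfl))
    have := hn c (Or.inr (Or.inr rfl))
    grind
  exact ⟨δ, h1, h2, (h3 _).2 hδ, h, h7, h8⟩

theorem exists_tri (h : C.adj α β) : ∃ γ δ, C.Tri α β γ δ := by
  obtain ⟨a, b, c, h3, h4, -⟩ := C.nb α
  by_cases h1 : β = a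
  · exact ⟨b, exists_third h ((h3 _).2 (Or.inr (Or.inl rfl))) (h1 ▸ h4)⟩
  · exact ⟨a, exists_third h ((h3 _).2 (Or.inl rfl)) h1⟩

theorem Tri.smul (h : C.Tri α β γ δ) (g : G) : C.Tri (g • α) (g • β) (g • γ) (g • δ) :=
  ⟨C.smul g h.a1, C.smul g h.a2, C.smul g h.a3, fun e => h.n12 (smul_left_cancel g e),
    fun e => h.n13 (smul_left_cancel g e), fun e => h.n23 (smul_left_cancel g e)⟩

theorem Tri.swap (h : C.Tri α β γ δ) (h1 : g • α = α) (h2 : g • β = β) :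
    (g • γ = γ ∧ g • δ = δ) ∨ (g • γ = δ ∧ g • δ = γ) := by
  have h3 := h.smul g
  rw [h1, h2] at h3
  have := h.cases h3.a2
  have := h.cases h3.a3
  have := h3.n12
  have := h3.n13
  have := h3.n23
  grind

theorem Tri.mem_Q (h : C.Tri α β γ δ) (h1 : g • α = α) (h2 : g • β = β) (h3 : g • γ = γ) :
    g ∈ C.Q α := by
  refine ⟨h1, fun ε hε => ?_⟩
  rcases h.swap h1 h2 with h4 | h4
  · rcases h.cases hε with rfl | rfl | rfl
    exacts [h2, h3, h4.2]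
  · exact absurd (h3.symm.trans h4.1) h.n23

theorem Tri.swap_of_notMem (h : C.Tri α β γ δ) (h1 : g • α = α) (h2 : g • β = β)
    (h3 : g ∉ C.Q α) : g • γ = δ ∧ g • δ = γ :=
  (h.swap h1 h2).resolve_left fun h4 => h3 (h.mem_Q h1 h2 h4.1)

theorem exists_base (α : Ω) : ∃ a b c, C.Tri α a b c ∧ C.z α a * C.z α b = C.z α c ∧
    ∀ β γ δ, C.Tri α β γ δ → ∃ g : G, g • α = α ∧ g • a = β ∧ g • b = γ ∧ g • c = δ := by
  obtain ⟨a, b, c, h1, h2, h3, h4, h5, ⟨r, r0, r1, r2⟩, s, s0, s1, s2⟩ := C.nb α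
  have T : C.Tri α a b c := ⟨(h1 _).2 (Or.inl rfl), (h1 _).2 (Or.inr (Or.inl rfl)),
    (h1 _).2 (Or.inr (Or.inr rfl)), h2, h3, h4⟩
  have r3 : r • c = a := by
    have h6 := T.smul r
    rw [r0, r1, r2] at h6
    have := T.cases h6.a3
    have := h6.n13
    have := h6.n23
    grind
  have s3 : s • c = b := ((T.swap s0 s1).resolve_left fun h => h4 (h.1.symm.trans s2)).2
  refine ⟨a, b, c, T, h5, fun β γ δ h => ?_⟩
  have e1 := T.cases h.a1
  have e2 := T.cases h.a2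
  have e3 := T.cases h.a3
  have := h.n12
  have := h.n13
  have := h.n23
  have : (β = a ∧ γ = b ∧ δ = c) ∨ (β = a ∧ γ = c ∧ δ = b) ∨ (β = b ∧ γ = c ∧ δ = a) ∨
    (β = b ∧ γ = a ∧ δ = c) ∨ (β = c ∧ γ = a ∧ δ = b) ∨ (β = c ∧ γ = b ∧ δ = a) := by grind
  rcases this with ⟨rfl, rfl, rfl⟩ | ⟨rfl, rfl, rfl⟩ | ⟨rfl, rfl, rfl⟩ | ⟨rfl, rfl, rfl⟩ |
    ⟨rfl, rfl, rfl⟩ | ⟨rfl, rfl, rfl⟩
  · exact ⟨1, by simp⟩
  · exact ⟨s, s0, s1, s2, s3⟩
  · exact ⟨r, r0, r1, r2, r3⟩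
  · exact ⟨r * s, by simp [mul_smul, r0, r1, r2, r3, s0, s1, s2, s3]⟩
  · exact ⟨r * r, by simp [mul_smul, r0, r1, r2, r3]⟩
  · exact ⟨r * r * s, by simp [mul_smul, r0, r1, r2, r3, s0, s1, s2, s3]⟩

theorem Tri.trans {β' γ' δ' : Ω} (h : C.Tri α β γ δ) (h' : C.Tri α β' γ' δ') :
    ∃ g : G, g • α = α ∧ g • β = β' ∧ g • γ = γ' ∧ g • δ = δ' := by
  obtain ⟨a, b, c, -, -, h1⟩ := C.exists_base α
  obtain ⟨g, g0, rfl, rfl, rfl⟩ := h1 _ _ _ h
  obtain ⟨k, k0, rfl, rfl, rfl⟩ := h1 _ _ _ h'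
  exact ⟨k * g⁻¹, by rw [mul_smul, inv_smul_eq_iff.2 g0.symm, k0], by simp [mul_smul]⟩

theorem Tri.z_mul (h : C.Tri α β γ δ) : C.z α β * C.z α γ = C.z α δ := by
  obtain ⟨a, b, c, T, h2, h1⟩ := C.exists_base α
  obtain ⟨g, g0, rfl, rfl, rfl⟩ := h1 _ _ _ h
  rw [← conj_z g0 T.a1, ← conj_z g0 T.a2, ← conj_z g0 T.a3, ← h2]
  group

theorem exists_smul_eq (h1 : C.adj α β) (h2 : C.adj α γ) : ∃ g : G, g • α = α ∧ g • β = γ := by
  obtain ⟨a, b, T⟩ := exists_tri h1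
  obtain ⟨a', b', T'⟩ := exists_tri h2
  obtain ⟨g, g0, g1, -⟩ := T.trans T'
  exact ⟨g, g0, g1⟩

theorem z_inj (h1 : C.adj α β) (h2 : C.adj α γ) (h : C.z α β = C.z α γ) : β = γ := by
  by_contra hn
  obtain ⟨δ, T⟩ := exists_third h1 h2 hn
  exact C.z_ne T.a3 (by rw [← T.z_mul, h, C.z_sq h2])

theorem Q_le_centralizer : C.Q α ≤ centralizer (C.V α : Set G) := by
  rw [le_centralizer_iff, V_le]
  intro β h g hg
  exact mul_inv_eq_iff_eq_mul.1 (conj_z' hg.1 (hg.2 β h) h)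

theorem mem_Q_of_comm (h1 : g • α = α) (h2 : g ∈ centralizer (C.V α : Set G)) : g ∈ C.Q α :=
  ⟨h1, fun β h => z_inj (adj_smul h1 h) h (by
    rw [← conj_z h1 h, ← h2 _ (z_mem_V h), mul_inv_cancel_right])⟩

theorem conj_mem_Q (hg : g ∈ C.Q α) (k : G) : k * g * k⁻¹ ∈ C.Q (k • α) := by
  refine ⟨by rw [mul_smul, mul_smul, inv_smul_smul, hg.1], fun β h => ?_⟩
  have := C.smul k⁻¹ h
  rw [inv_smul_smul] at this
  rw [mul_smul, mul_smul, hg.2 _ this, smul_inv_smul]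

theorem conj_mem_V (hg : g ∈ C.V α) (k : G) : k * g * k⁻¹ ∈ C.V (k • α) :=
  (V_le (K := (C.V (k • α)).comap (MulAut.conj k).toMonoidHom)).2 (fun β h => by
    show k * _ * k⁻¹ ∈ C.V (k • α)
    rw [← C.z_smul k h]
    exact z_mem_V (C.smul k h)) hg

theorem V_le_Q_smul (h : C.V α ≤ C.Q β) (k : G) : C.V (k • α) ≤ C.Q (k • β) := fun x hx => by
  have h1 := conj_mem_V hx k⁻¹
  rw [inv_smul_smul] at h1
  have := conj_mem_Q (h h1) k
  simpa [mul_assoc] using this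

/-- action of `G_{αβ}` on `V α` -/
theorem conj_V (h : C.adj α β) (h1 : g • α = α) (h2 : g • β = β) {x : G} (hx : x ∈ C.V α) :
    g * x * g⁻¹ = x ∨ g * x * g⁻¹ = x * C.z α β := by
  obtain ⟨γ, δ, T⟩ := exists_tri h
  have hc : ∀ y ∈ C.V α, C.z α β * y = y * C.z α β := fun y hy =>
    (Q_le_centralizer (V_le_Q (z_mem_V h)) y hy).symm
  induction hx using closure_induction with
  | mem x hx =>
    obtain ⟨ε, hε, rfl⟩ := hx
    rw [conj_z h1 hε]
    rcases T.swap h1 h2 with h3 | h3 <;> rcases T.cases hε with rfl | rfl | rfl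
    · exact Or.inl (by rw [h2])
    · exact Or.inl (by rw [h3.1])
    · exact Or.inl (by rw [h3.2])
    · exact Or.inl (by rw [h2])
    · exact Or.inr (by rw [h3.1, T.swap12.z_mul])
    · exact Or.inr (by rw [h3.2, T.swap23.swap12.z_mul])
  | one => exact Or.inl (by simp)
  | mul x y hx hy ihx ihy =>
    have e : g * (x * y) * g⁻¹ = (g * x * g⁻¹) * (g * y * g⁻¹) := by group
    rw [e]
    rcases ihx with ihx | ihx <;> rcases ihy with ihy | ihy <;> rw [ihx, ihy]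
    · exact Or.inl rfl
    · exact Or.inr (mul_assoc _ _ _).symm
    · exact Or.inr (by rw [mul_assoc, hc y hy, mul_assoc])
    · exact Or.inl (by rw [mul_assoc, ← mul_assoc (C.z α β), hc y hy, mul_assoc y, C.z_sq h,
        mul_one])
  | inv x hx ih =>
    have e : g * x⁻¹ * g⁻¹ = (g * x * g⁻¹)⁻¹ := by group
    rw [e]
    rcases ih with ih | ih <;> rw [ih]
    · exact Or.inl rfl
    · exact Or.inr (by rw [mul_inv_rev, z_inv h, hc _ (inv_mem hx)])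

theorem stabilizer_le (h : C.adj α β) {K : Subgroup G}
    (hK : ∀ g : G, g • α = α → g • β = β → g ∈ K) {t : G} (ht : t ∈ K) (h1 : t • α = α)
    (h2 : t • β ≠ β) : stabilizer G α ≤ K := by
  intro g hg
  rw [mem_stabilizer_iff] at hg
  obtain ⟨δ, T⟩ := exists_third h (adj_smul h1 h) h2.symm
  have key : ∀ k : G, k • α = α → k • β = t • β → k ∈ K := fun k k0 k1 => by
    have := hK (t⁻¹ * k) (by rw [mul_smul, k0, inv_smul_eq_iff, h1])
      (by rw [mul_smul, k1, inv_smul_smul])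
    simpa using mul_mem ht this
  rcases T.cases (adj_smul hg h) with h3 | h3 | h3
  · exact hK g hg h3
  · exact key g hg h3
  · obtain ⟨s, s0, s1, -, s3⟩ := T.trans T.swap23
    have := key (s * g) (by rw [mul_smul, hg, s0]) (by rw [mul_smul, h3, s3])
    simpa using mul_mem (inv_mem (hK s s0 s1)) this

theorem eq_one_of_central (h : C.adj α β) {x : G} (h1 : x • α = α) (h2 : x • β = β)
    (h3 : stabilizer G α ≤ centralizer {x}) (h4 : stabilizer G β ≤ centralizer {x}) : x = 1 := by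
  rw [← centralizer_zpowers'] at h3 h4
  have := C.noN h (zpowers x) (zpowers_le_of_mem h1) (zpowers_le_of_mem h2)
    (h3.trans (centralizer_le_normalizer _)) (h4.trans (centralizer_le_normalizer _))
  exact zpowers_eq_bot.1 this

theorem le_normalizer_Q : stabilizer G α ≤ normalizer (C.Q α : Set G) := by
  refine le_normalizer_iff.2 fun g hg x hx => ?_
  have := conj_mem_Q hx g
  rwa [mem_stabilizer_iff.1 hg] at this

theorem exists_mem_Q_notMem (h : C.adj α β) : ∃ q ∈ C.Q α, q ∉ C.Q β := by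
  by_contra hn
  push Not at hn
  obtain ⟨γ, δ, T⟩ := exists_tri h
  obtain ⟨γ', δ', T'⟩ := exists_tri (C.symm h)
  obtain ⟨s, s0, s1, s2, -⟩ := T'.trans T'.swap23
  have hs : s ∉ C.Q β := fun hs => T'.n23 ((hs.2 _ T'.a2).symm.trans s2)
  have h1 : C.Q β ≤ C.Q α := fun g hg => by
    by_contra h2
    have h3 := T.swap_of_notMem (hg.2 _ T'.a1) hg.1 h2
    have h4 := T.swap_of_notMem s1 s0 fun h => hs (hn _ h)
    have h5 := hn _ (T.mem_Q (g := g * s) (by rw [mul_smul, s1, hg.2 _ T'.a1])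
      (by rw [mul_smul, s0, hg.1]) (by rw [mul_smul, h4.1, h3.2]))
    exact hs (by simpa using mul_mem (inv_mem hg) h5)
  have h2 : C.Q α = C.Q β := le_antisymm hn h1
  have := C.noN h (C.Q α) (fun g hg => hg.1) (fun g hg => hg.2 _ h) le_normalizer_Q
    (h2 ▸ le_normalizer_Q)
  exact C.z_ne h (mem_bot.1 (this ▸ V_le_Q (z_mem_V h)))

theorem V_smul (k : G) : C.V (k • α) = (C.V α).map (MulAut.conj k).toMonoidHom := by
  refine le_antisymm (fun x hx => ?_) (by rintro _ ⟨x, hx, rfl⟩; exact conj_mem_V hx k)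
  have := conj_mem_V hx k⁻¹
  rw [inv_smul_smul] at this
  exact ⟨_, this, by simp [mul_assoc]⟩

variable (C) in
/-- `V α V β` does not depend on the neighbour `β`. -/
def N (α : Ω) : Prop := ∀ β γ, C.adj α β → C.adj α γ → C.V β ≤ C.V α ⊔ C.V γ

variable (C) in
/-- `z β α` does not depend on the neighbour `β`. -/
def Cn (α : Ω) : Prop := ∀ β γ, C.adj α β → C.adj α γ → C.z β α = C.z γ α

theorem N.smul (h : C.N α) (g : G) : C.N (g • α) := fun β γ h1 h2 => by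
  have h3 := C.smul g⁻¹ h1
  have h4 := C.smul g⁻¹ h2
  rw [inv_smul_smul] at h3 h4
  have := map_mono (f := (MulAut.conj g).toMonoidHom) (h _ _ h3 h4)
  rwa [Subgroup.map_sup, ← V_smul, ← V_smul, ← V_smul, smul_inv_smul, smul_inv_smul] at this

theorem N.step (h : C.N α) (h1 : C.adj β α) (h2 : C.adj β γ) : C.N γ := by
  obtain ⟨g, -, rfl⟩ := exists_smul_eq h1 h2
  exact h.smul g

theorem Tri.N (h : C.Tri α β γ δ) (h1 : C.V δ ≤ C.V α ⊔ C.V γ) : C.N α := fun β' γ' h2 h3 => by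
  by_cases e : β' = γ'
  · exact e ▸ le_sup_right
  obtain ⟨δ', T⟩ := exists_third h2 h3 e
  obtain ⟨g, g0, -, rfl, rfl⟩ := h.trans T.rot.swap12
  have := map_mono (f := (MulAut.conj g).toMonoidHom) h1
  rwa [Subgroup.map_sup, ← V_smul, ← V_smul, ← V_smul, g0] at this

theorem Tri.Cn (h : C.Tri α β γ δ) (h1 : C.z γ α = C.z δ α) : C.Cn α := fun β' γ' h2 h3 => by
  by_cases e : β' = γ'
  · rw [e]
  obtain ⟨δ', T⟩ := exists_third h2 h3 e
  obtain ⟨g, g0, -, rfl, rfl⟩ := h.trans T.rot.rot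
  have h4 := C.z_smul g (C.symm h.a2)
  have h5 := C.z_smul g (C.symm h.a3)
  rw [g0] at h4 h5
  rw [h4, h5, h1]

theorem Cn.central (h : C.Cn α) (h1 : C.adj α β) : stabilizer G α ≤ centralizer {C.z β α} := by
  intro g hg
  rw [mem_stabilizer_iff] at hg
  have h2 := C.z_smul g (C.symm h1)
  rw [hg, h _ _ (adj_smul hg h1) h1] at h2
  rw [mem_centralizer_singleton_iff, ← mul_inv_eq_iff_eq_mul, ← h2]

theorem N.mem_Q (h : C.N α) (h1 : C.adj α β) (h2 : C.adj α γ) (h3 : g ∈ C.Q α) (h4 : g ∈ C.Q β) :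
    g ∈ C.Q γ :=
  mem_Q_of_comm (h3.2 _ h2) (centralizer_le (h _ _ h2 h1) (by
    rw [centralizer_sup']; exact ⟨Q_le_centralizer h3, Q_le_centralizer h4⟩))

theorem N.Cn (h : C.N α) : C.Cn α := fun β γ h1 h2 => by
  obtain ⟨q, hq, hq'⟩ := exists_mem_Q_notMem h1
  obtain ⟨a, b, T⟩ := exists_tri (C.symm h1)
  have h3 := T.swap_of_notMem (hq.2 _ h1) hq.1 hq'
  set r := C.z γ α with hr
  have hr2 : r * r = 1 := C.z_sq (C.symm h2)
  let K : Subgroup G :=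
    { carrier := {x | x * r = r * x ∧ (q * x * q⁻¹ = x ∨ q * x * q⁻¹ = x * r)}
      one_mem' := ⟨by simp, Or.inl (by simp)⟩
      mul_mem' := fun {x y} hx hy => ⟨by rw [mul_assoc, hy.1, ← mul_assoc, hx.1, mul_assoc], by
        have e : q * (x * y) * q⁻¹ = (q * x * q⁻¹) * (q * y * q⁻¹) := by group
        rw [e]
        rcases hx.2 with ihx | ihx <;> rcases hy.2 with ihy | ihy <;> rw [ihx, ihy]
        · exact Or.inl rfl
        · exact Or.inr (mul_assoc _ _ _).symm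
        · exact Or.inr (by rw [mul_assoc, ← hy.1, mul_assoc])
        · exact Or.inl (by rw [mul_assoc, ← mul_assoc r, ← hy.1, mul_assoc y, hr2, mul_one])⟩
      inv_mem' := fun {x} hx => ⟨(Commute.inv_left hx.1).eq, by
        have e : q * x⁻¹ * q⁻¹ = (q * x * q⁻¹)⁻¹ := by group
        rw [e]
        rcases hx.2 with ih | ih <;> rw [ih]
        · exact Or.inl rfl
        · exact Or.inr (by rw [mul_inv_rev, inv_eq_of_mul_eq_one_right hr2,
            (Commute.inv_left hx.1).eq])⟩ }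
  have h4 : C.V α ⊔ C.V γ ≤ K := sup_le
    (fun x hx => ⟨mul_inv_eq_iff_eq_mul.1 (conj_z' ((V_le_Q hx).2 _ h2) (V_le_Q hx).1 (C.symm h2)),
      Or.inl (mul_inv_eq_iff_eq_mul.2 (Q_le_centralizer hq x hx).symm)⟩)
    (fun x hx => ⟨(Q_le_centralizer (V_le_Q hx) _ (z_mem_V (C.symm h2))).symm,
      conj_V (C.symm h2) (hq.2 _ h2) hq.1 hx⟩)
  have h5 := (h4 (h _ _ h1 h2 (z_mem_V T.a2))).2
  rw [conj_z (hq.2 _ h1) T.a2, h3.1, ← T.swap12.z_mul] at h5
  rcases h5 with h5 | h5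
  · exact absurd (mul_eq_left.1 h5) (C.z_ne T.a1)
  · exact mul_left_cancel h5

variable (C) in
def Walk (w : ℕ → Ω) (n : ℕ) : Prop := ∀ i < n, C.adj (w i) (w (i + 1))

/-- prepend a vertex -/
def cons (γ : Ω) (w : ℕ → Ω) : ℕ → Ω
  | 0 => γ
  | i + 1 => w i

variable {w : ℕ → Ω} {n b : ℕ}

theorem Walk.adj' (h : C.Walk w n) (i j : ℕ) (h1 : j = i + 1) (h2 : j ≤ n) : C.adj (w i) (w j) :=
  h1 ▸ h i (by omega)

theorem Walk.cons (h : C.Walk w n) (h1 : C.adj γ (w 0)) : C.Walk (cons γ w) n := by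
  rintro (_ | i) hi
  · exact h1
  · exact h i (by omega)

theorem Walk.rev (h : C.Walk w n) : C.Walk (fun i => w (n - i)) n := fun i hi =>
  C.symm (h.adj' _ _ (by omega) (by omega))

variable (C) in
def MinB (b : ℕ) : Prop := ∀ n < b, ∀ w, C.Walk w n → C.V (w 0) ≤ C.Q (w n)

theorem MinB.le (hb : C.MinB b) (h : C.Walk w n) (i j : ℕ) (hi : i ≤ n) (hj : j ≤ n)
    (h1 : i < j + b) (h2 : j < i + b) : C.V (w i) ≤ C.Q (w j) := by
  rcases le_total i j with h3 | h3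
  · have := hb (j - i) (by omega) (fun k => w (i + k)) fun k hk => h.adj' _ _ rfl (by omega)
    simpa [Nat.add_sub_cancel' h3] using this
  · have := hb (i - j) (by omega) (fun k => w (i - k)) fun k hk =>
      C.symm (h.adj' _ _ (by omega) (by omega))
    simpa [Nat.sub_sub_self h3] using this

variable (C) in
def Crit (b : ℕ) (w : ℕ → Ω) : Prop := C.Walk w b ∧ ¬ C.V (w 0) ≤ C.Q (w b)

theorem Crit.exists (hb : C.MinB b) (h0 : 1 ≤ b) (h : C.Crit b w) :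
    (∃ t ∈ C.V (w b), t ∉ C.Q (w 0)) ∧ C.z (w 0) (w 1) = C.z (w b) (w (b - 1)) := by
  obtain ⟨hw, h⟩ := h
  obtain ⟨β, hβ, hs⟩ : ∃ β, C.adj (w 0) β ∧ C.z (w 0) β ∉ C.Q (w b) := by
    by_contra hn
    push Not at hn
    exact h (V_le.2 hn)
  have a1 := hw.adj' 0 1 rfl h0
  have a2 := C.symm (hw.adj' (b - 1) b (by omega) le_rfl)
  have h1 := hb.le hw 0 (b - 1) (by omega) (by omega) (by omega) (by omega) (z_mem_V hβ)
  obtain ⟨γ, hγ, ht⟩ : ∃ γ, C.adj (w b) γ ∧ C.z (w b) γ ∉ centralizer {C.z (w 0) β} := by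
    by_contra hn
    push Not at hn
    exact hs (mem_Q_of_comm (h1.2 _ (C.symm a2)) fun x hx =>
      mem_centralizer_singleton_iff.1 (V_le.2 hn hx))
  rw [mem_centralizer_singleton_iff] at ht
  have h2 := hb.le hw b 1 (by omega) (by omega) (by omega) (by omega) (z_mem_V hγ)
  have h3 := (conj_V a2 (h1.2 _ (C.symm a2)) h1.1 (z_mem_V hγ)).resolve_left
    fun e => ht (mul_inv_eq_iff_eq_mul.1 e).symm
  have h4 := (conj_V a1 (h2.2 _ (C.symm a1)) h2.1 (z_mem_V hβ)).resolve_left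
    fun e => ht (mul_inv_eq_iff_eq_mul.1 e)
  refine ⟨⟨_, z_mem_V hγ, fun e => ht (Q_le_centralizer e _ (z_mem_V hβ)).symm⟩, ?_⟩
  rw [← inv_mul_eq_iff_eq_mul] at h3 h4
  rw [← z_inv a2, ← h3, ← h4]
  simp only [mul_inv_rev, z_inv hβ, z_inv hγ, mul_assoc]

theorem Crit.rev (hb : C.MinB b) (h0 : 1 ≤ b) (h : C.Crit b w) : C.Crit b fun i => w (b - i) := by
  obtain ⟨⟨t, ht, h1⟩, -⟩ := h.exists hb h0
  exact ⟨h.1.rev, fun e => h1 (by simpa using e ht)⟩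

theorem Crit.conj (hb : C.MinB b) (h0 : 1 ≤ b) (h : C.Crit b w) {t x : G} (ht : t ∈ C.V (w b))
    (hx : x ∈ C.Q (w (b - 1))) : x⁻¹ * (t * x * t⁻¹) ∈ C.V (w 0) := by
  have a2 := C.symm (h.1.adj' (b - 1) b (by omega) le_rfl)
  have hx' := inv_mem hx
  rcases conj_V a2 (hx'.2 _ (C.symm a2)) hx'.1 ht with e | e
  · rw [show x⁻¹ * (t * x * t⁻¹) = x⁻¹ * t * x⁻¹⁻¹ * t⁻¹ by group, e, mul_inv_cancel]
    exact one_mem _
  · rw [show x⁻¹ * (t * x * t⁻¹) = x⁻¹ * t * x⁻¹⁻¹ * t⁻¹ by group, e,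
      conj_z' (V_le_Q ht).1 ((V_le_Q ht).2 _ a2) a2, ← (h.exists hb h0).2]
    exact z_mem_V (h.1.adj' 0 1 rfl h0)

theorem Crit.shift (hb : C.MinB b) (h0 : 1 ≤ b) (h : C.Crit b w)
    (T : C.Tri (w 0) (w 1) γ δ) : C.Crit b (cons γ w) ∨ C.N (w 0) := by
  obtain ⟨b, rfl⟩ : ∃ c, b = c + 1 := ⟨b - 1, by omega⟩
  by_cases h1 : C.V γ ≤ C.Q (w b)
  swap
  · exact Or.inl ⟨h.1.cons (C.symm T.a2), h1⟩
  obtain ⟨⟨t, ht, h2⟩, -⟩ := h.exists hb h0
  have h3 := hb.le h.1 (b + 1) 1 (by omega) (by omega) (by omega) (by omega) ht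
  have h4 := T.swap_of_notMem (h3.2 _ (C.symm T.a1)) h3.1 h2
  refine Or.inr (T.N ?_)
  rw [← h4.1, V_smul]
  rintro _ ⟨x, hx, rfl⟩
  have := mul_mem (mem_sup_right hx) (mem_sup_left (S := C.V (w 0)) (h.conj hb h0 ht (h1 hx)))
  simpa using this

theorem Crit.Cn (hb : C.MinB b) (h0 : 2 ≤ b) (h : C.Crit b w) : C.Cn (w 0) := by
  obtain ⟨γ, δ, T⟩ := exists_tri (h.1.adj' 0 1 rfl (by omega))
  rcases h.shift hb (by omega) T with h1 | h1
  swap
  · exact h1.Cn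
  obtain ⟨⟨t, ht, h2⟩, -⟩ := h.exists hb (by omega)
  obtain ⟨b, rfl⟩ : ∃ c, b = c + 2 := ⟨b - 2, by omega⟩
  have h3 := hb.le h.1 (b + 2) 1 (by omega) (by omega) (by omega) (by omega) ht
  have h4 := T.swap_of_notMem (h3.2 _ (C.symm T.a1)) h3.1 h2
  have h5 : C.z γ (w 0) = C.z (w (b + 1)) (w b) := (h1.exists hb (by omega)).2
  have h6 := hb.le h.1 (b + 2) (b + 1) (by omega) (by omega) (by omega) (by omega) ht
  have h7 := C.z_smul t (C.symm T.a2)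
  have a := C.symm (h.1.adj' b (b + 1) rfl (by omega))
  rw [h4.1, h3.2 _ (C.symm T.a1), h5, conj_z' h6.1 (h6.2 _ a) a, ← h5] at h7
  exact T.Cn h7.symm

theorem Tri.z_notMem (T : C.Tri α β γ δ) {K : Subgroup G} (h : ¬ C.V α ≤ K) (h1 : C.z α β ∈ K) :
    C.z α γ ∉ K := fun h2 => h (V_le.2 fun ε hε => by
  rcases T.cases hε with rfl | rfl | rfl
  exacts [h1, h2, T.z_mul ▸ mul_mem h1 h2])

theorem Tri.mul_sq (T : C.Tri α β γ δ) {v : G} (h1 : v ∈ C.Q β) (h2 : v ∉ C.Q α) (h3 : v * v = 1) :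
    (C.z α γ * v) * (C.z α γ * v) = C.z α β := by
  have h4 := h1.2 _ (C.symm T.a1)
  have h5 := conj_z h4 T.a2
  rw [(T.swap_of_notMem h4 h1.1 h2).1, inv_eq_of_mul_eq_one_right h3] at h5
  rw [mul_assoc, ← mul_assoc v, h5, T.rot.z_mul]

theorem Tri.mul_mem_Q (T : C.Tri α β γ δ) {u v : G} (hu : u ∈ C.Q β) (hu' : u ∉ C.Q α)
    (hv : v ∈ C.Q β) (hv' : v ∉ C.Q α) : u * v ∈ C.Q α := by
  have h1 := hu.2 _ (C.symm T.a1)
  have h2 := hv.2 _ (C.symm T.a1)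
  exact T.mem_Q (by rw [mul_smul, h2, h1]) (by rw [mul_smul, hv.1, hu.1])
    (by rw [mul_smul, (T.swap_of_notMem h2 hv.1 hv').1, (T.swap_of_notMem h1 hu.1 hu').2])

theorem MinB.adj (hb : C.MinB b) (h0 : 2 ≤ b) (h : C.adj α β) : C.V α ≤ C.Q β :=
  hb 1 h0 (cons α fun _ => β) (by rintro (_ | i) hi; exacts [h, by omega])

theorem Crit.two (hb : C.MinB 2) (h : C.Crit 2 w) : C.Cn (w 1) ∧
    ∀ a a' c c', C.adj (w 1) a' → a ≠ a' → C.Tri a (w 1) c c' → C.z a c ∉ C.Q a' := by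
  have a1 := C.symm (h.1.adj' 0 1 rfl (by omega))
  have a2 := h.1.adj' 1 2 rfl le_rfl
  have h1 : w 0 ≠ w 2 := fun e => h.2 (e ▸ V_le_Q)
  obtain ⟨δ, T⟩ := exists_third a1 a2 h1
  have h2 : C.Cn (w 1) := T.rot.rot.Cn (h.exists hb (by omega)).2
  refine ⟨h2, fun a a' c c' h3 h4 T' => T'.z_notMem (fun e => ?_) ?_⟩
  · obtain ⟨ε, T''⟩ := exists_third (C.symm T'.a1) h3 h4
    obtain ⟨g, -, g1, g2, -⟩ := T''.trans T
    exact h.2 (g1 ▸ g2 ▸ V_le_Q_smul e g)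
  · rw [h2 _ _ (C.symm T'.a1) h3]
    exact V_le_Q (z_mem_V (C.symm h3))

theorem Crit.false_two (hb : C.MinB 2) (h : C.Crit 2 w) : False := by
  obtain ⟨h1, h2⟩ := h.two hb
  have a1 := h.1.adj' 0 1 rfl (by omega)
  have a2 := h.1.adj' 1 2 rfl le_rfl
  have h3 : w 0 ≠ w 2 := fun e => h.2 (e ▸ V_le_Q)
  obtain ⟨a, T⟩ := exists_third (C.symm a1) a2 h3
  obtain ⟨γ, γ', T0⟩ := exists_tri a1
  obtain ⟨δ, δ', T2⟩ := exists_tri (C.symm a2)
  have s1 := hb.adj le_rfl T2.a1 (z_mem_V T2.a2)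
  have s2 := h2 _ _ _ _ T.a1 h3.symm T2
  rcases h.shift hb (by omega) T0 with h4 | h4
  · obtain ⟨h5, h6⟩ := h4.two hb
    change C.Cn (w 0) at h5
    obtain ⟨μ, μ', T1⟩ := exists_tri (C.symm T0.a2)
    have t1 : C.z γ μ ∉ C.Q (w 1) := h6 _ _ _ _ a1 T0.n12.symm T1
    have t2 := hb.adj le_rfl T1.a1 (z_mem_V T1.a2)
    have t3 := T.swap_of_notMem (t2.2 _ a1) t2.1 t1
    set t := C.z γ μ with ht
    have T3 := T2.smul t
    rw [t3.1, t2.2 _ a1] at T3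
    have e := C.z_smul t T2.a2
    rw [t3.1] at e
    have v1 := hb.adj le_rfl T3.a1 (z_mem_V T3.a2)
    have h7 := T2.mul_sq v1 (h2 _ _ _ _ a2 T.n23.symm T3) (C.z_sq T3.a2)
    have h8 := T0.mul_mem_Q s1 s2 v1 (h2 _ _ _ _ T.a1 T.n13.symm T3)
    rw [e] at h7 h8
    have h9 := conj_V T1.a1 (h8.2 _ T0.a2) h8.1 (z_mem_V T1.a2)
    have e1 := z_inv T1.a2
    have e2 := z_inv T2.a2
    rw [← ht] at h9 e1
    have e3 : C.z (w 2) δ * (t * C.z (w 2) δ * t⁻¹) * t * (C.z (w 2) δ * (t * C.z (w 2) δ * t⁻¹))⁻¹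
        = C.z (w 2) (w 1) * t := by
      have e4 : t * t = 1 := C.z_sq T1.a2
      have e5 : ∀ y, t * (t * y) = y := fun y => by rw [← mul_assoc, e4, one_mul]
      rw [← h7]
      simp only [mul_inv_rev, e1, e2, mul_assoc, e5, e4, mul_one]
    rw [e3] at h9
    rcases h9 with h9 | h9
    · exact C.z_ne T2.a1 (mul_eq_right.1 h9)
    · rw [Q_le_centralizer (V_le_Q (z_mem_V T1.a1)) t (z_mem_V T1.a2)] at h9
      have h10 := mul_right_cancel h9
      refine C.z_ne T2.a1 (eq_one_of_central a1 (s1.2 _ T.a1 ▸ ?_) (C.z_fix' T2.a1 T2.a1)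
        (h10 ▸ h5.central T0.a2) (h1.central a2))
      rw [h10, s1.2 _ T.a1]
      exact C.z_fix' T1.a1 T1.a1
  · obtain ⟨ε, ε', T3⟩ := exists_tri (C.symm T.a3)
    have v1 := hb.adj le_rfl T3.a1 (z_mem_V T3.a2)
    have h7 := T2.mul_sq v1 (h2 _ _ _ _ a2 T.n23.symm T3) (C.z_sq T3.a2)
    have h8 := T0.mul_mem_Q s1 s2 v1 (h2 _ _ _ _ T.a1 T.n13.symm T3)
    obtain ⟨g, g0, g1⟩ := exists_smul_eq a1 T0.a2
    have h9 := conj_mem_Q h8 g
    have h10 := conj_mem_Q (mul_mem s1 v1) g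
    rw [g0] at h9
    rw [g1] at h10
    have h11 := h4.mem_Q T0.a2 a1 h9 h10
    refine h2 _ _ _ _ a2 h3 T0 ?_
    rw [← g1, ← conj_z g0 a1, h1 _ _ T.a1 T.a2, ← h7, ← conj_mul]
    by_cases h12 : g * (C.z (w 2) δ * C.z a ε) * g⁻¹ ∈ C.Q (w 2)
    · exact mul_mem h12 h12
    · exact T2.mul_mem_Q h11 h12 h11 h12

theorem Crit.false_of_not_N (hb : C.MinB b) (h0 : 3 ≤ b) (h : C.Crit b w)
    (hN : ∀ w, C.Crit b w → ¬ C.N (w 0)) : False := by
  obtain ⟨b, rfl⟩ : ∃ c, b = c + 3 := ⟨b - 3, by omega⟩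
  have key : ∀ γ δ, C.Tri (w 0) (w 1) γ δ → C.z (w 0) γ = C.z (w (b + 1)) (w b) := by
    intro γ δ T
    have h1 := (h.shift hb (by omega) T).resolve_right (hN _ h)
    obtain ⟨ν, ν', T'⟩ := exists_tri (C.symm T.a2)
    have h2 := (h1.shift hb (by omega) T').resolve_right (hN _ h1)
    exact (h1.Cn hb (by omega) _ _ T'.a1 T'.a2).trans (h2.exists hb (by omega)).2
  obtain ⟨γ, δ, T⟩ := exists_tri (h.1.adj' 0 1 rfl (by omega))
  exact T.n23 (z_inj T.a2 T.a3 ((key _ _ T).trans (key _ _ T.swap23).symm))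

theorem Crit.false_of_N [Finite G] (hb : C.MinB b) (h0 : 3 ≤ b) (h : C.Crit b w)
    (hN : C.N (w 0)) : False := by
  obtain ⟨b, rfl⟩ : ∃ c, b = c + 3 := ⟨b - 3, by omega⟩
  have hw := h.1
  have h1 : ∀ k, 2 * k ≤ b + 3 → C.N (w (2 * k)) := by
    intro k
    induction k with
    | zero => exact fun _ => hN
    | succ k ih =>
      exact fun hk => (ih (by omega)).step (C.symm (hw.adj' (2 * k) (2 * k + 1) rfl (by omega)))
        (hw.adj' _ _ (by omega) hk)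
  have h2 : C.N (w (b + 1)) := by
    obtain ⟨k, hk | hk⟩ := Nat.even_or_odd' b
    · exfalso
      have h3 := h1 (k + 1) (by omega)
      rw [show 2 * (k + 1) = b + 2 by omega] at h3
      exact h.2 fun x hx => h3.mem_Q (C.symm (hw.adj' (b + 1) (b + 2) rfl (by omega)))
        (hw.adj' (b + 2) (b + 3) rfl le_rfl)
        (hb.le hw 0 _ (by omega) (by omega) (by omega) (by omega) hx)
        (hb.le hw 0 _ (by omega) (by omega) (by omega) (by omega) hx)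
    · have h3 := h1 (k + 1) (by omega)
      rwa [show 2 * (k + 1) = b + 1 by omega] at h3
  obtain ⟨γ, γ', T⟩ := exists_tri (hw.adj' 0 1 rfl (by omega))
  obtain ⟨⟨t, ht, t0⟩, -⟩ := h.exists hb (by omega)
  have t1 := hb.le hw _ 1 le_rfl (by omega) (by omega) (by omega) ht
  have t2 := t1.2 _ (C.symm T.a1)
  have t3 := T.swap_of_notMem t2 t1.1 t0
  have t4 : t • γ ≠ γ := t3.1 ▸ T.n23.symm
  have hw' : ∀ ν, C.adj γ ν → C.Walk (cons ν (cons γ w)) (b + 3) := fun ν hν =>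
    (hw.cons (C.symm T.a2)).cons (C.symm hν)
  have key : ∀ ν ν', C.Tri γ (w 0) ν ν' → ¬ C.V ν' ≤ C.Q (w (b + 1)) := by
    intro ν ν' T' h3
    have h4 : C.V ν' ≤ C.Q (w b) :=
      hb.le (hw' _ T'.a3) 0 (b + 2) (by omega) (by omega) (by omega) (by omega)
    have h5 : C.V ν' ≤ C.Q (w (b + 2)) := fun x hx =>
      h2.mem_Q (C.symm (hw.adj' b (b + 1) rfl (by omega))) (hw.adj' _ _ rfl (by omega))
        (h3 hx) (h4 hx)
    set Y := C.V (w 0) ⊔ C.V γ ⊔ (C.V ν ⊔ C.V ν') with hY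
    have y0 : C.V (w 0) ≤ Y := le_sup_left.trans le_sup_left
    have y1 : C.V γ ≤ Y := le_sup_right.trans le_sup_left
    have y2 : ∀ ε, C.adj γ ε → C.V ε ≤ Y := fun ε hε => by
      rcases T'.cases hε with rfl | rfl | rfl
      exacts [y0, le_sup_left.trans le_sup_right, le_sup_right.trans le_sup_right]
    have y3 : ∀ g : G, C.V (g • w 0) ≤ Y → C.V (g • γ) ≤ Y → C.V (g • ν) ≤ Y → C.V (g • ν') ≤ Y →
        g ∈ normalizer (Y : Set G) := fun g e0 e1 e2 e3 => by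
      have : Y.map (MulAut.conj g).toMonoidHom ≤ Y := by
        rw [V_smul] at e0 e1 e2 e3
        conv_lhs => rw [hY, Subgroup.map_sup, Subgroup.map_sup, Subgroup.map_sup]
        exact sup_le (sup_le e0 e1) (sup_le e2 e3)
      exact mem_normalizer_fintype fun n hn => this (mem_map_of_mem _ hn)
    have y4 : stabilizer G γ ≤ normalizer (Y : Set G) := fun g hg =>
      y3 g (y2 _ (adj_smul hg T'.a1)) (by rw [mem_stabilizer_iff.1 hg]; exact y1)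
        (y2 _ (adj_smul hg T'.a2)) (y2 _ (adj_smul hg T'.a3))
    have y5 : C.V (t • ν') ≤ C.V (w 0) ⊔ C.V ν' := by
      rw [V_smul]
      rintro _ ⟨x, hx, rfl⟩
      have := mul_mem (mem_sup_right hx)
        (mem_sup_left (S := C.V (w 0)) (h.conj hb (by omega) ht (h5 hx)))
      simpa using this
    obtain ⟨q, hq, hq'⟩ := exists_mem_Q_notMem T.a2
    have q1 := T'.swap_of_notMem (hq.2 _ T.a2) hq.1 hq'
    have q2 := conj_mem_Q t1 q
    rw [hq.2 _ T.a1] at q2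
    have q3 : q * t * q⁻¹ ∉ C.Q (w 0) := fun e => t0 (by
      simpa [mul_assoc] using mul_mem (mul_mem (inv_mem hq) e) hq)
    have q4 := hN.mem_Q T.a1 T.a2 (T.mul_mem_Q (inv_mem q2) (fun e => q3 (inv_mem_iff.1 e)) t1 t0)
      (mul_mem (inv_mem q2) t1)
    have q5 : t • ν = q • t • ν' := by
      have := q4.2 _ T'.a2
      rw [mul_smul, inv_smul_eq_iff] at this
      rw [this, mul_smul, mul_smul, inv_smul_eq_iff.2 q1.2.symm]
    have y6 : t ∈ normalizer (Y : Set G) := by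
      refine y3 t (by rw [t2]; exact y0) ?_ ?_ (y5.trans (sup_le y0 (y2 _ T'.a3)))
      · rw [t3.1]
        exact (hN _ _ T.a3 T.a2).trans le_sup_left
      · rw [q5, V_smul]
        refine (map_mono y5).trans ?_
        rw [Subgroup.map_sup, ← V_smul, ← V_smul, hq.1, q1.2]
        exact sup_le y0 (y2 _ T'.a2)
    have y7 : Y ≤ C.Q γ := sup_le (sup_le (hb.adj (by omega) T.a2) V_le_Q)
      (sup_le (hb.adj (by omega) (C.symm T'.a2)) (hb.adj (by omega) (C.symm T'.a3)))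
    have := C.noN T.a2 Y (fun g hg => (y7 hg).2 _ T'.a1) (fun g hg => (y7 hg).1)
      (stabilizer_le T.a2 (fun g _ g1 => y4 g1) y6 t2 t4) y4
    exact C.z_ne T.a2 (mem_bot.1 (this ▸ y0 (z_mem_V T.a2)))
  obtain ⟨ν, ν', T'⟩ := exists_tri (C.symm T.a2)
  have e1 : C.z ν' γ = C.z (w (b + 1)) (w b) :=
    (Crit.exists hb (by omega) ⟨hw' _ T'.a3, key _ _ T'⟩).2
  have e2 : C.z ν γ = C.z (w (b + 1)) (w b) :=
    (Crit.exists hb (by omega) ⟨hw' _ T'.a2, key _ _ T'.swap23⟩).2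
  have e3 := T'.Cn (e2.trans e1.symm)
  have e4 := e3.central T'.a1
  have t5 := hb.le hw _ (b + 1) le_rfl (by omega) (by omega) (by omega) ht
  have a := C.symm (hw.adj' b (b + 1) rfl (by omega))
  refine C.z_ne T.a2 (eq_one_of_central T.a2 (C.z_fix T.a2) (C.z_fix' T.a2 T.a2)
    (stabilizer_le T.a2 (fun g _ g1 => e4 g1) ?_ t2 t4) e4)
  rw [mem_centralizer_singleton_iff, e3 _ _ T'.a1 T'.a2, e2, ← mul_inv_eq_iff_eq_mul]
  exact conj_z' t5.1 (t5.2 _ a) a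

theorem exists_crit (h : C.adj α β) : ∃ b w, C.MinB b ∧ C.Crit b w := by
  classical
  have h1 : ∃ b, ∃ w, C.Crit b w := by
    by_contra hn
    push Not at hn
    have h2 : ∀ b w, C.Walk w b → C.V (w 0) ≤ C.Q (w b) := fun b w hw => by
      by_contra e
      exact hn b w ⟨hw, e⟩
    let S : Set Ω := {γ | ∃ n w, C.Walk w n ∧ w 0 = γ ∧ (w n = α ∨ w n = β)}
    have h3 : ∀ γ ∈ S, C.V γ ≤ stabilizer G α ⊓ stabilizer G β := by
      rintro _ ⟨n, w, hw, rfl, e | e⟩ x hx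
      · have := e ▸ h2 n w hw hx
        exact ⟨this.1, this.2 _ h⟩
      · have := e ▸ h2 n w hw hx
        exact ⟨this.2 _ (C.symm h), this.1⟩
    have h4 : ∀ n w a a', C.Walk w n → w n = a → C.adj a a' →
        ∃ w', C.Walk w' (n + 1) ∧ w' 0 = w 0 ∧ w' (n + 1) = a' := fun n w a a' hw e h' =>
      ⟨fun i => if i ≤ n then w i else a', fun i hi => by
        by_cases e1 : i + 1 ≤ n
        · simp only [e1, show i ≤ n by omega, if_true]
          exact hw i (by omega)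
        · obtain rfl : i = n := by omega
          simpa [e] using h', by simp, by simp⟩
    have h5 : ∀ g : G, (g • α = α ∨ g • β = β) → ∀ γ ∈ S, g • γ ∈ S := by
      rintro g hg _ ⟨n, w, hw, rfl, e⟩
      have hw' : C.Walk (fun i => g • w i) n := fun i hi => C.smul g (hw i hi)
      rcases hg with hg | hg <;> rcases e with e | e
      · exact ⟨n, _, hw', rfl, Or.inl (by simp only [e, hg])⟩
      · obtain ⟨w', e1, e2, e3⟩ := h4 n _ _ α hw' rfl (C.symm (e ▸ adj_smul hg h))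
        exact ⟨_, w', e1, e2, Or.inl e3⟩
      · obtain ⟨w', e1, e2, e3⟩ := h4 n _ _ β hw' rfl (C.symm (e ▸ adj_smul hg (C.symm h)))
        exact ⟨_, w', e1, e2, Or.inr e3⟩
      · exact ⟨n, _, hw', rfl, Or.inr (by simp only [e, hg])⟩
    have h6 : ∀ K : Subgroup G, (∀ g ∈ K, g • α = α ∨ g • β = β) →
        K ≤ normalizer ((⨆ γ ∈ S, C.V γ : Subgroup G) : Set G) := fun K hK =>
      le_normalizer_iff.2 fun g hg x hx => by
        have : (⨆ γ ∈ S, C.V γ) ≤ (⨆ γ ∈ S, C.V γ).comap (MulAut.conj g).toMonoidHom :=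
          iSup₂_le fun γ hγ y hy =>
            le_iSup₂_of_le (f := fun γ (_ : γ ∈ S) => C.V γ) _ (h5 g (hK g hg) γ hγ) le_rfl
              (conj_mem_V hy g)
        exact this hx
    have h7 := C.noN h _ ((iSup₂_le h3).trans inf_le_left) ((iSup₂_le h3).trans inf_le_right)
      (h6 _ fun g hg => Or.inl hg) (h6 _ fun g hg => Or.inr hg)
    have h8 : α ∈ S := ⟨0, fun _ => α, fun i hi => by omega, rfl, Or.inl rfl⟩
    exact C.z_ne h (mem_bot.1 (h7 ▸ le_iSup₂_of_le (f := fun γ (_ : γ ∈ S) => C.V γ) _ h8 le_rfl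
      (z_mem_V h)))
  obtain ⟨w, hw⟩ := Nat.find_spec h1
  refine ⟨_, w, fun n hn w' hw' => ?_, hw⟩
  by_contra e
  exact Nat.find_min h1 hn ⟨w', hw', e⟩

/-- The critical distance is `1`. -/
theorem exists_edge [Finite G] (h : C.adj α β) : ∃ α β, C.adj α β ∧ ¬ C.V α ≤ C.Q β ∧
    ¬ C.V β ≤ C.Q α ∧ C.z α β = C.z β α := by
  obtain ⟨b, w, hb, hw⟩ := exists_crit h
  rcases b with _ | _ | _ | b
  · exact absurd V_le_Q hw.2
  · exact ⟨w 0, w 1, hw.1 0 (by omega), hw.2, (hw.rev hb le_rfl).2, (hw.exists hb le_rfl).2⟩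
  · exact (hw.false_two hb).elim
  · exact (hw.false_of_not_N hb (by omega) fun w' h1 h2 => h1.false_of_N hb (by omega) h2).elim

end Cub

end CfsgLib.Sig
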