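import Cfsg.Agent.Lib.Sig.ZNAm

/-!
# Identification of the Sylow `2`-subgroup from the amalgam
-/

set_option autoImplicit false

namespace CfsgLib.Sig

open Subgroup Cfsg CfsgLib.Cop CfsgLib.H1

variable {G : Type*} [Group G]

theorem mem_sup_zpowers_of_sq_mem {K : Subgroup G} {a x : G} (h1 : a ∈ normalizer (K : Set G))
    (h2 : a * a ∈ K) (hx : x ∈ K ⊔ zpowers a) : x ∈ K ∨ x * a ∈ K := by
  have e1 := mem_normalizer_iff.1 h1
  have e2 := mem_normalizer_iff''.1 h1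
  let L : Subgroup G :=
    { carrier := {x | x ∈ K ∨ x * a ∈ K}
      one_mem' := Or.inl K.one_mem
      mul_mem' := by
        rintro x y (hx | hx) (hy | hy)
        · exact Or.inl (mul_mem hx hy)
        · exact Or.inr (mul_assoc x y a ▸ mul_mem hx hy)
        · exact Or.inr (by simpa [mul_assoc] using mul_mem hx ((e2 y).1 hy))
        · exact Or.inl (by
            simpa [mul_assoc] using mul_mem (mul_mem hx ((e2 _).1 hy)) (inv_mem h2))
      inv_mem' := by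
        rintro x (hx | hx)
        · exact Or.inl (inv_mem hx)
        · exact Or.inr (by simpa [mul_assoc] using mul_mem ((e1 _).1 (inv_mem hx)) h2) }
  exact (sup_le (fun x hx => Or.inl hx) (zpowers_le_of_mem (Or.inr h2)) : K ⊔ zpowers a ≤ L) hx

/-- `B` is the Baumann subgroup of each `2`-overgroup in a `2`-local subgroup containing `P`. -/
def Star (B P : Subgroup G) : Prop :=
  ∀ U T : Subgroup G, IsPGroup 2 U → U ≠ ⊥ → P ≤ normalizer (U : Set G) → IsPGroup 2 T → B ≤ T →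
    T ≤ normalizer (U : Set G) → T ≤ normalizer (B : Set G) ∧ T ⊓ centralizer (oz B : Set G) ≤ B

theorem Par.mem_pResidual {B : Subgroup G} {d z v : G} (h : Par B d z v) :
    z ∈ pResidual 2 G ∧ v ∈ pResidual 2 G := by
  have hn := PRes.pResidual_normal (p := 2) (G := G)
  have hd : d ∈ pResidual 2 G := PRes.mem_pResidual_of_coprime
    (coprime_orderOf_of_pow (p := 3) (k := 1) (by norm_num) (by simpa [pow_succ] using h.d3))
  have h1 : z ∈ pResidual 2 G := by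
    have := mul_mem hd (hn.conj_mem _ (inv_mem hd) v)
    rwa [show d * (v * d⁻¹ * v⁻¹) = d * v * d⁻¹ * v⁻¹ by group, h.dv, mul_inv_cancel_right] at this
  exact ⟨h1, h.dz ▸ hn.conj_mem _ h1 d⟩

theorem Par.normalizes {B : Subgroup G} {d z v : G} (h : Par B d z v)
    (hs : Star B (B ⊔ zpowers d)) {S : Subgroup G} (hS : IsPGroup 2 S) (hB : B ≤ S) {s : G}
    (h1 : s ∈ S) (h2 : s * z = z * s) (h3 : s * v = v * s) :
    s ∈ normalizer (B : Set G) ∧ (s ∈ centralizer (oz B : Set G) → s ∈ B) := by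
  have h4 : s ∈ S ⊓ normalizer ((zpowers z ⊔ zpowers v : Subgroup G) : Set G) :=
    ⟨h1, centralizer_le_normalizer _ (by
      rw [centralizer_sup', centralizer_zpowers', centralizer_zpowers']
      exact ⟨mem_centralizer_singleton_iff.2 h2, mem_centralizer_singleton_iff.2 h3⟩)⟩
  have := hs _ _ ((hS.to_le hB).to_le h.four_le)
    (fun e => h.z_ne (mem_bot.1 (e ▸ mem_sup_left (mem_zpowers z)))) h.le_normalizer_four
    hS.to_inf_left (le_inf hB (le_sup_left.trans h.le_normalizer_four)) inf_le_right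
  exact ⟨this.1 h4, fun e => this.2 ⟨h4, e⟩⟩

structure En (B : Subgroup G) (d d' z v v' c : G) : Prop extends Am B d d' z v v' where
  star : Star B (B ⊔ zpowers d)
  star' : Star B (B ⊔ zpowers d')
  two : IsPGroup 2 B
  c1 : c ∈ B ⊓ centralizer {v}
  c2 : c ∈ B ⊓ centralizer {v'}
  dc : d * c * d⁻¹ = c
  dc' : d' * (z * c) * d'⁻¹ = z * c
  D : ∀ e ∈ B ⊓ centralizer {v}, e ∈ B ⊓ centralizer {v'} → e = 1 ∨ e = z ∨ e = c ∨ e = z * c

namespace En

variable {B S : Subgroup G} {d d' z v v' c : G} (h : En B d d' z v v' c)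
include h

theorem zz (x : G) : z * (z * x) = x := by rw [← mul_assoc, h.l.z_sq, one_mul]

theorem symm : En B d' d z v' v (z * c) where
  toAm := h.toAm.symm
  star := h.star'
  star' := h.star
  two := h.two
  c1 := mul_mem h.toAm.symm.z_mem_Q h.c2
  c2 := mul_mem h.z_mem_Q h.c1
  dc := h.dc'
  dc' := by rw [h.zz, h.dc]
  D := fun e h1 h2 => by rw [h.zz]; have := h.D e h2 h1; tauto

theorem c_ne_z : c ≠ z := fun e => h.l.v_ne (by rw [← h.l.dz, ← e, h.dc])

theorem c_ne : c ≠ 1 := fun e => h.symm.c_ne_z (by rw [e, mul_one])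

theorem c_sq : c * c = 1 := h.Q_sq h.c1

theorem c_comm {b : G} (hb : b ∈ B) : b * c = c * b := h.central h.c1 h.c2 hb

theorem mem_cent {s : G} (h1 : s * z = z * s) (h2 : s * c = c * s) :
    s ∈ centralizer (oz B : Set G) := fun e he => by
  rcases h.D e (h.mem_oz.1 he).1 (h.mem_oz.1 he).2 with rfl | rfl | rfl | rfl
  · simp
  · exact h1.symm
  · exact h2.symm
  · rw [← mul_assoc, h1, mul_assoc, mul_assoc, h2]

theorem le_of_cent {T : Subgroup G} (hT : IsPGroup 2 T) (h1 : B ≤ T) (h2 : T ≤ centralizer {c}) :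
    T ≤ B := by
  have h3 : B ⊔ zpowers d ≤ centralizer {c} := sup_le (h1.trans h2)
    (zpowers_le_of_mem (mem_centralizer_singleton_iff.2 (mul_inv_eq_iff_eq_mul.1 h.dc)))
  rw [← centralizer_zpowers'] at h2 h3
  have := h.star _ T (h.two.to_le (zpowers_le_of_mem h.c1.1)) (fun e => h.c_ne (zpowers_eq_bot.1 e))
    (h3.trans (centralizer_le_normalizer _)) hT h1 (h2.trans (centralizer_le_normalizer _))
  exact fun t ht => this.2 ⟨ht, h.mem_cent (mul_inv_eq_iff_eq_mul.1 (h.conj_z (this.1 ht)))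
    (h2 ht c (mem_zpowers c)).symm⟩

theorem conj_c (hS : IsPGroup 2 S) (hB : B ≤ S) {s : G} (h1 : s ∈ S)
    (h2 : s ∈ normalizer (B : Set G)) (h3 : s ∉ B) : s * c * s⁻¹ = z * c := by
  have h4 : s * c * s⁻¹ ∈ oz B := by
    refine Sig.mem_oz.2 ⟨(mem_normalizer_iff.1 h2 c).1 h.c1.1, fun b hb => ?_, by
      rw [conj_mul, h.c_sq, mul_one, mul_inv_cancel]⟩
    have := h.c_comm ((mem_normalizer_iff''.1 h2 b).1 hb)
    rw [show b * (s * c * s⁻¹) = s * (s⁻¹ * b * s * c) * s⁻¹ by group, this]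
    group
  rcases h.D _ (h.mem_oz.1 h4).1 (h.mem_oz.1 h4).2 with e | e | e | e
  · exact absurd (by simpa using e) h.c_ne
  · rw [← h.conj_z h2] at e
    exact absurd (by simpa using e) h.c_ne_z
  · exact absurd (h.le_of_cent (T := S ⊓ centralizer {c}) hS.to_inf_left
      (le_inf hB fun b hb => mem_centralizer_singleton_iff.2 (h.c_comm hb)) inf_le_right
      ⟨h1, mem_centralizer_singleton_iff.2 (mul_inv_eq_iff_eq_mul.1 e)⟩) h3
  · exact e

theorem mul_mem_B (hS : IsPGroup 2 S) (hB : B ≤ S) {s t : G} (h1 : s ∈ S)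
    (h2 : s ∈ normalizer (B : Set G)) (h3 : s ∉ B) (h4 : t ∈ S)
    (h5 : t ∈ normalizer (B : Set G)) (h6 : t ∉ B) : s * t ∈ B := by
  by_contra e
  have h7 := h.conj_c hS hB (mul_mem h1 h4) (mul_mem h2 h5) e
  rw [show s * t * c * (s * t)⁻¹ = s * (t * c * t⁻¹) * s⁻¹ by group, h.conj_c hS hB h4 h5 h6,
    ← conj_mul, h.conj_z h2, h.conj_c hS hB h1 h2 h3, h.zz] at h7
  exact h.l.z_ne (mul_eq_right.1 h7.symm)

variable [Finite G]

theorem sylow : IsSylowIn 2 B (centralizer {c}) :=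
  haveI := Fact.mk Nat.prime_two
  IsSylowIn.of_maximal (fun _ hb => mem_centralizer_singleton_iff.2 (h.c_comm hb)) h.two
    fun _ h1 h2 h3 => h.le_of_cent h1 h2 h3

theorem exists_conj {y : G} (h1 : y * c = c * y) (h2 : y * y * (y * y) = 1) :
    ∃ x, x * c * x⁻¹ = c ∧ x * y * x⁻¹ ∈ B := by
  have := Fact.mk Nat.prime_two
  obtain ⟨x, hx, e⟩ := h.sylow.exists_conj_le (isPGroup_zpowers_of_pow (x := y) (k := 2)
    (by simpa [pow_succ, mul_assoc] using h2))
    (zpowers_le_of_mem (mem_centralizer_singleton_iff.2 h1))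
  exact ⟨x, mul_inv_eq_iff_eq_mul.2 (mem_centralizer_singleton_iff.1 hx),
    e (mem_map_of_mem _ (mem_zpowers y))⟩

theorem not_isConj : ¬ IsConj z c := fun e => by
  obtain ⟨g, hg⟩ := isConj_iff.1 e
  have h1 : g * (v * v') * g⁻¹ * (g * (v * v') * g⁻¹) = c := by rw [conj_mul, h.vv_sq, hg]
  obtain ⟨x, h2, h3⟩ := h.exists_conj (y := g * (v * v') * g⁻¹)
    (by rw [← h1]; simp only [mul_assoc]) (by rw [h1, h.c_sq])
  rcases h.sq_cases h3 with e | e
  · exact h.c_ne (by rw [← h2, ← h1, ← conj_mul, e.1])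
  · exact h.c_ne_z (by rw [← h2, ← h1, ← conj_mul, e])

theorem Q_conj {x : G} (h1 : x ∈ B ⊓ centralizer {v}) (h2 : IsConj z x) :
    x = z ∨ x = v ∨ x = z * v := by
  obtain ⟨e, e1, e2, e3⟩ : ∃ e ∈ B ⊓ centralizer {v}, e ∈ B ⊓ centralizer {v'} ∧
      (x = e ∨ x = e * v) := by
    rcases h.mem_Q_cases h1 with e | e
    · exact ⟨x, h1, e, Or.inl rfl⟩
    · exact ⟨_, mul_mem h1 h.v_mem_Q, e, Or.inr (by rw [mul_assoc, h.l.v_sq, mul_one])⟩
  have n1 := h.not_isConj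
  have n2 := h.symm.not_isConj
  rcases h.D e e1 e2 with rfl | rfl | rfl | rfl <;> rcases e3 with rfl | rfl
  · exact absurd (isConj_one_left.1 h2) h.l.z_ne
  · exact Or.inr (Or.inl (one_mul _))
  · exact Or.inl rfl
  · exact Or.inr (Or.inr rfl)
  · exact absurd h2 n1
  · refine absurd (h2.trans (isConj_iff.2 ⟨d⁻¹, ?_⟩)) n2
    rw [← h.c_comm h.l.v_mem]
    conv_lhs => rw [← h.l.dz, ← h.dc]
    group
  · exact absurd h2 n2
  · refine absurd (h2.trans (isConj_iff.2 ⟨d, ?_⟩)) n2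
    rw [mul_assoc z, ← h.c_comm h.l.v_mem, ← mul_assoc z, ← conj_mul, h.l.dzv, h.dc]

omit [Finite G] in
theorem Q_cases {x : G} (h1 : x ∈ B ⊓ centralizer {v}) :
    x ∈ zpowers z ⊔ zpowers v ∨ x * c ∈ zpowers z ⊔ zpowers v := by
  have hz : z ∈ zpowers z ⊔ zpowers v := mem_sup_left (mem_zpowers z)
  have hv : v ∈ zpowers z ⊔ zpowers v := mem_sup_right (mem_zpowers v)
  have key : ∀ e ∈ B ⊓ centralizer {v}, e ∈ B ⊓ centralizer {v'} →
      e ∈ zpowers z ⊔ zpowers v ∨ e * c ∈ zpowers z ⊔ zpowers v := fun e e1 e2 => by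
    rcases h.D e e1 e2 with rfl | rfl | rfl | rfl
    · exact Or.inl (one_mem _)
    · exact Or.inl hz
    · exact Or.inr (h.c_sq ▸ one_mem _)
    · exact Or.inr (by rwa [mul_assoc, h.c_sq, mul_one])
  rcases h.mem_Q_cases h1 with e | e
  · exact key x h1 e
  · refine (key _ (mul_mem h1 h.v_mem_Q) e).imp (fun e => (mul_mem_cancel_right hv).1 e) fun e => ?_
    rwa [mul_assoc, h.c_comm h.l.v_mem, ← mul_assoc, mul_mem_cancel_right hv] at e

omit [Finite G] in
theorem c_notMem : c ∉ zpowers z ⊔ zpowers v := fun e => by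
  have h1 := h.c_comm h.r.v_mem
  rcases h.l.mem_four e with e | e | e | e
  · exact h.c_ne e
  · exact h.c_ne_z e
  · exact h.nc (e ▸ h1.symm)
  · rw [e, ← mul_assoc, h.l.z_comm h.r.v_mem, mul_assoc, mul_assoc, mul_right_inj] at h1
    exact h.nc h1.symm

theorem mem_of_cent (hS : IsPGroup 2 S) (hB : B ≤ S) {s : G} (h1 : s ∈ S) (h2 : s * z = z * s)
    (h3 : s * v = v * s) : s ∈ B := by
  have := Fact.mk Nat.prime_two
  by_contra hs
  have h4 := (h.l.normalizes h.star hS hB h1 h2 h3).1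
  have h5 := h.conj_c hS hB h1 h4 hs
  obtain ⟨K, hK⟩ : ∃ K, K = centralizer ((zpowers z ⊔ zpowers v : Subgroup G) : Set G) ⊓
    normalizer ((B ⊓ centralizer {v} : Subgroup G) : Set G) := ⟨_, rfl⟩
  have hP : B ⊔ zpowers d ≤ normalizer (K : Set G) := hK ▸ le_normalizer_inf
    (le_normalizer_centralizer h.l.le_normalizer_four)
    (le_normalizer_normalizer h.l.le_normalizer_Q)
  have hsK : s ∈ K := by
    rw [hK, centralizer_sup', centralizer_zpowers', centralizer_zpowers']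
    refine ⟨⟨mem_centralizer_singleton_iff.2 h2, mem_centralizer_singleton_iff.2 h3⟩, ?_⟩
    rw [← centralizer_zpowers']
    exact le_normalizer_inf_centralizer (zpowers_le_of_mem h4) (zpowers_le_of_mem
      (centralizer_le_normalizer _ (by
        rw [centralizer_zpowers']; exact mem_centralizer_singleton_iff.2 h3))) (mem_zpowers s)
  have hK1 : ∀ k ∈ K, ∀ x ∈ zpowers z ⊔ zpowers v, x * k = k * x := fun k hk => (hK ▸ hk).1
  have hK2 : K ≤ normalizer ((B ⊓ centralizer {v} : Subgroup G) : Set G) := hK ▸ inf_le_right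
  have hu : ∀ k ∈ K, k * c * k⁻¹ * c ∈ zpowers z ⊔ zpowers v := fun k hk =>
    (h.Q_cases (conj_mem_of_le_normalizer hK2 hk h.c1)).resolve_left fun e => h.c_notMem (by
      have := hK1 k hk _ e
      rw [inv_mul_cancel_right, mul_right_inj] at this
      exact this ▸ e)
  let φ : K →* G := MonoidHom.mk' (fun k => k * c * (k : G)⁻¹ * c) fun k l => by
    have e1 := hK1 k k.2 _ (hu l l.2)
    have e2 := (isElementaryAbelian_four h.l.z_sq h.l.v_sq h.l.vz.symm).1.is_comm.comm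
      ⟨_, hu k k.2⟩ ⟨_, hu l l.2⟩
    have e3 := congrArg Subtype.val e2
    simp only [coe_mul] at e3 ⊢
    rw [e3, ← mul_assoc, ← mul_assoc, ← mul_assoc, e1]
    simp only [mul_assoc, mul_inv_rev, ← mul_assoc c c, h.c_sq, one_mul]
  obtain ⟨T, hBT, hT⟩ := IsSylowIn.exists_ge (H := B ⊔ K) h.two le_sup_left
  have t1 := (h.star _ T h.two.to_inf_left (fun e => h.c_ne (mem_bot.1 (e ▸ h.c1)))
    h.l.le_normalizer_Q hT.isPGroup hBT
    (hT.le.trans (sup_le (le_sup_left.trans h.l.le_normalizer_Q) hK2))).1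
  have t2 := ((hT.inf_of_le_normalizer le_sup_right
    (hT.le.trans (sup_le (le_sup_left.trans hP) le_normalizer))).subgroupOf le_rfl).map φ
  have t3 := t2.eq_of_le (T := (K.subgroupOf K).map φ) ((h.two.to_le h.l.four_le).to_le
    (by rintro _ ⟨k, -, rfl⟩; exact hu k k.2)) t2.le le_rfl
  have t4 : d * s * d⁻¹ ∈ K := conj_mem_of_le_normalizer hP (mem_sup_right (mem_zpowers d)) hsK
  obtain ⟨k, hk, e⟩ := t3.le (mem_map_of_mem φ (x := ⟨_, t4⟩) t4)
  have e' : (k : G) * c * (k : G)⁻¹ * c = v := by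
    refine e.trans ?_
    change d * s * d⁻¹ * c * (d * s * d⁻¹)⁻¹ * c = v
    conv_lhs => rw [← h.dc]
    rw [show d * s * d⁻¹ * (d * c * d⁻¹) * (d * s * d⁻¹)⁻¹ = d * (s * c * s⁻¹) * d⁻¹ by group, h5,
      conj_mul, mul_assoc z, h.c_sq, mul_one, h.l.dz]
  by_cases hkB : (k : G) ∈ B
  · rw [h.c_comm hkB, mul_inv_cancel_right, h.c_sq] at e'
    exact h.l.v_ne_one e'.symm
  · rw [h.conj_c (s := k) hT.isPGroup hBT hk.1 (t1 hk.1) hkB, mul_assoc, h.c_sq, mul_one] at e'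
    exact h.l.v_ne e'.symm

theorem conj_v' (hS : IsPGroup 2 S) (hB : B ≤ S) {s : G} (h1 : s ∈ S)
    (h2 : s ∈ normalizer (B : Set G)) (h3 : s ∉ B) : s * v * s⁻¹ = v' ∨ s * v * s⁻¹ = z * v' := by
  have h4 := (mem_normalizer_iff.1 h2 v).1 h.l.v_mem
  have h5 : IsConj z (s * v * s⁻¹) := (isConj_iff.2 ⟨d, h.l.dz⟩).trans (isConj_iff.2 ⟨s, rfl⟩)
  have h6 := h.conj_z h2
  have h7 : s * v * s⁻¹ ≠ z := fun e => h.l.v_ne (by rw [← h6] at e; simpa using e)
  rcases h.sq_cases h4 with ⟨-, e | e⟩ | e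
  · exfalso
    rcases (h.Q_conj e h5).resolve_left h7 with e | e
    · exact h3 (h.mem_of_cent hS hB h1 (mul_inv_eq_iff_eq_mul.1 h6) (mul_inv_eq_iff_eq_mul.1 e))
    · have := h.mem_of_cent hS hB (mul_mem (hB h.r.v_mem) h1) (s := v' * s)
        (by rw [mul_assoc, mul_inv_eq_iff_eq_mul.1 h6, ← mul_assoc, h.r.vz, mul_assoc])
        (mul_inv_eq_iff_eq_mul.1 (by
          rw [show v' * s * v * (v' * s)⁻¹ = v' * (s * v * s⁻¹) * v'⁻¹ by group, e, ← conj_mul,
            h.l.z_cent _ h.r.v_mem, h.conj_v, h.zz]))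
      exact h3 ((mul_mem_cancel_left h.r.v_mem).1 this)
  · exact (h.symm.Q_conj e h5).resolve_left h7
  · rw [conj_mul, h.l.v_sq] at e
    exact absurd (by simpa using e.symm) h.l.z_ne

theorem fixed (hS : IsPGroup 2 S) (hB : B ≤ S) {s : G} (h1 : s ∈ S)
    (h2 : s ∈ normalizer (B : Set G)) (h3 : s ∉ B) {y : G} (hy : y ∈ B) (h4 : y * y = 1)
    (h5 : s * y * s⁻¹ = y) : y = 1 ∨ y = z := by
  have key : ∀ {x x' : G}, (s * x * s⁻¹ = x' ∨ s * x * s⁻¹ = z * x') → y ∈ B ⊓ centralizer {x} →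
      y ∈ B ⊓ centralizer {x'} := fun {x x'} e hx => by
    have e1 : y * (s * x * s⁻¹) = s * x * s⁻¹ * y := by
      conv_lhs => rw [← h5]
      conv_rhs => rw [← h5]
      rw [conj_mul, conj_mul, mem_centralizer_singleton_iff.1 hx.2]
    refine ⟨hy, mem_centralizer_singleton_iff.2 ?_⟩
    rcases e with e | e
    · rwa [e] at e1
    · rwa [e, ← mul_assoc, h.l.z_comm hy, mul_assoc, mul_assoc, mul_right_inj] at e1
  have h6 : y ∈ B ⊓ centralizer {v} ∧ y ∈ B ⊓ centralizer {v'} := by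
    rcases h.sq_cases hy with ⟨-, e | e⟩ | e
    · exact ⟨e, key (h.conj_v' hS hB h1 h2 h3) e⟩
    · exact ⟨key (h.symm.conj_v' hS hB h1 h2 h3) e, e⟩
    · exact absurd (e.symm.trans h4) h.l.z_ne
  rcases h.D y h6.1 h6.2 with e | e | e | e
  · exact Or.inl e
  · exact Or.inr e
  · rw [e, h.conj_c hS hB h1 h2 h3] at h5
    exact absurd (mul_eq_right.1 h5) h.l.z_ne
  · rw [e, h.symm.conj_c hS hB h1 h2 h3] at h5
    exact absurd (mul_eq_right.1 h5) h.l.z_ne

theorem mem_of_comm (hS : IsPGroup 2 S) (hB : B ≤ S) {s t : G} (h1 : s ∈ S)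
    (h2 : s ∈ normalizer (B : Set G)) (h3 : t ∈ S) (h4 : t ∈ normalizer (B : Set G))
    (h5 : s * s = 1) (h6 : t * t = 1) (h7 : s * t = t * s) (h8 : ¬ (t = 1 ∨ t = z))
    (h9 : ¬ (s * t = 1 ∨ s * t = z)) : s ∈ B := by
  by_contra e
  by_cases e' : t ∈ B
  · exact h8 (h.fixed hS hB h1 h2 e e' h6 (by rw [h7, mul_inv_cancel_right]))
  · exact h9 (h.fixed hS hB h1 h2 e (h.mul_mem_B hS hB h1 h2 e h3 h4 e')
      (by rw [mul_assoc, ← mul_assoc t, ← h7, mul_assoc, h6, mul_one, h5])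
      (by rw [mul_assoc, h7, mul_inv_cancel_right, h7]))

theorem sq_mem (hS : IsPGroup 2 S) (hB : B ≤ S) {s : G} (h1 : s ∈ S)
    (h2 : s ∈ normalizer (B : Set G)) (h3 : s ∉ B) :
    s * s ∈ zpowers z ⊔ zpowers v ⊔ zpowers v' := by
  have hz : z ∈ zpowers z ⊔ zpowers v ⊔ zpowers v' := mem_sup_left (mem_sup_left (mem_zpowers z))
  have hv := mul_mem (mem_sup_left (mem_sup_right (mem_zpowers v)) :
    v ∈ zpowers z ⊔ zpowers v ⊔ zpowers v') (mem_sup_right (mem_zpowers v'))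
  have h4 := h.mul_mem_B hS hB h1 h2 h3 h1 h2 h3
  have h5 : s * (s * s) * s⁻¹ = s * s := by group
  by_cases h6 : s * s * (s * s) = 1
  · rcases h.fixed hS hB h1 h2 h3 h4 h6 h5 with e | e <;> rw [e]
    exacts [one_mem _, hz]
  obtain ⟨e, e1, e2, e3⟩ := h.cases h4
  obtain e3 : s * s = e * (v * v') := by
    rcases e3 with e3 | e3 | e3 | e3
    · exact absurd (e3 ▸ h.Q_sq e1) h6
    · exact absurd (e3 ▸ h.Q_sq (mul_mem e1 h.v_mem_Q)) h6
    · exact absurd (e3 ▸ h.toAm.symm.Q_sq (mul_mem e2 h.toAm.symm.v_mem_Q)) h6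
    · exact e3
  have key : s * e * s⁻¹ ≠ z * e := fun e4 => by
    have e5 : s * (s * v * s⁻¹) * s⁻¹ = z * v := by
      rw [show s * (s * v * s⁻¹) * s⁻¹ = s * s * v * (s * s)⁻¹ by group, e3,
        show e * (v * v') * v * (e * (v * v'))⁻¹ = e * (v * (v' * v * v'⁻¹) * v⁻¹) * e⁻¹ by group,
        h.conj_v, ← mul_assoc v, mul_inv_cancel_right, h.l.vz,
        ← h.central e1 e2 (mul_mem h.l.z_mem h.l.v_mem), mul_inv_cancel_right]
    have e6 := h.conj_z h2
    rw [e3, ← conj_mul, ← conj_mul, e4, mul_assoc z, ← mul_assoc z, ← h.l.z_comm e1.1, mul_assoc,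
      mul_right_inj] at h5
    rcases h.conj_v' hS hB h1 h2 h3 with a | a <;>
      rcases h.symm.conj_v' hS hB h1 h2 h3 with b | b <;> rw [a] at e5 <;> rw [a, b] at h5
    · exact h.l.zv_ne (e5.symm.trans b)
    · rw [← mul_assoc v', h.r.vz, mul_assoc, h.zz] at h5
      exact h.nc h5.symm
    · rw [mul_assoc, h.zz] at h5
      exact h.nc h5.symm
    · rw [← conj_mul, e6, b, h.zz] at e5
      exact h.l.zv_ne e5.symm
  rw [e3]
  rcases h.D e e1 e2 with rfl | rfl | rfl | rfl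
  · rwa [one_mul]
  · exact mul_mem hz hv
  · exact absurd (h.conj_c hS hB h1 h2 h3) key
  · exact absurd (h.symm.conj_c hS hB h1 h2 h3) key

theorem le_normalizer_B (hS : IsPGroup 2 S) (hB : B ≤ S) (hz : S ≤ centralizer {z}) :
    S ≤ normalizer (B : Set G) := by
  have := Fact.mk Nat.prime_two
  by_contra hn
  obtain ⟨x, hx, hx'⟩ := SetLike.exists_of_lt (lt_inf_normalizer_of_isPGroup hS
    (inf_lt_left.2 hn))
  have h1 : x * z * x⁻¹ = z := mul_inv_eq_iff_eq_mul.2 (mem_centralizer_singleton_iff.1 (hz hx.1))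
  have h2 : ∀ b ∈ B, x * b * x⁻¹ ∈ S ⊓ normalizer (B : Set G) := fun b hb =>
    (mem_normalizer_iff.1 hx.2 b).1 ⟨hB hb, le_normalizer hb⟩
  have h3 : ∀ a, ¬ (a = 1 ∨ a = z) → ¬ (x * a * x⁻¹ = 1 ∨ x * a * x⁻¹ = z) := fun a ha e =>
    ha (e.imp (by simp) fun e => by rw [← h1] at e; simpa using e)
  have h4 : ∀ a ∈ B, ∀ b ∈ B, a * a = 1 → b * b = 1 → a * b = b * a → ¬ (b = 1 ∨ b = z) →
      ¬ (a * b = 1 ∨ a * b = z) → x * a * x⁻¹ ∈ B := fun a ha b hb e1 e2 e3 e4 e5 =>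
    h.mem_of_comm hS hB (h2 a ha).1 (h2 a ha).2 (h2 b hb).1 (h2 b hb).2
      (by rw [conj_mul, e1, mul_one, mul_inv_cancel]) (by rw [conj_mul, e2, mul_one, mul_inv_cancel])
      (by rw [conj_mul, conj_mul, e3]) (h3 b e4) (by rw [conj_mul]; exact h3 _ e5)
  have n1 : ¬ (c = 1 ∨ c = z) := not_or.2 ⟨h.c_ne, h.c_ne_z⟩
  have n2 : ∀ {d d' v v' c : G}, En B d d' z v v' c → ¬ (v * c = 1 ∨ v * c = z) :=
    fun {d d' v v' c} h e => h.c_notMem ((mul_mem_cancel_left (mem_sup_right (mem_zpowers v))).1 (by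
      rcases e with e | e <;> rw [e]
      exacts [one_mem _, mem_sup_left (mem_zpowers z)]))
  have n3 : ¬ (v' * c = 1 ∨ v' * c = z) := fun e => n2 h.symm (by
    rw [← mul_assoc, h.r.vz, mul_assoc]
    rcases e with e | e <;> rw [e]
    exacts [Or.inr (mul_one _), Or.inl h.l.z_sq])
  have a1 := h4 v h.l.v_mem c h.c1.1 h.l.v_sq h.c_sq (h.c_comm h.l.v_mem) n1 (n2 h)
  have a2 := h4 v' h.r.v_mem c h.c1.1 h.r.v_sq h.c_sq (h.c_comm h.r.v_mem) n1 n3
  have a3 := h4 c h.c1.1 v h.l.v_mem h.c_sq h.l.v_sq (h.c_comm h.l.v_mem).symm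
    (not_or.2 ⟨h.l.v_ne_one, h.l.v_ne⟩) (h.c_comm h.l.v_mem ▸ n2 h)
  refine hx' ⟨hx.1, mem_normalizer_fintype fun b hb => ?_⟩
  obtain ⟨e, e1, e2, e3⟩ := h.cases hb
  have a4 : x * e * x⁻¹ ∈ B := by
    rcases h.D e e1 e2 with rfl | rfl | rfl | rfl
    · simp
    · exact h1.symm ▸ h.l.z_mem
    · exact a3
    · rw [← conj_mul, h1]; exact mul_mem h.l.z_mem a3
  rcases e3 with rfl | rfl | rfl | rfl
  · exact a4
  · rw [← conj_mul]; exact mul_mem a4 a1
  · rw [← conj_mul]; exact mul_mem a4 a2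
  · rw [← conj_mul, ← conj_mul]; exact mul_mem a4 (mul_mem a1 a2)

omit [Finite G] in
theorem mem_D0 {b : G} (hb : b ∈ B) : b * c ∈ zpowers z ⊔ zpowers v ⊔ zpowers v' ∨
    b ∈ zpowers z ⊔ zpowers v ⊔ zpowers v' := by
  rcases h.l.v_conj b hb with e | e
  · exact ((h.Q_cases (h.l.mem_Q hb e)).imp mem_sup_left mem_sup_left).symm
  · have hv' : v' ∈ zpowers z ⊔ zpowers v ⊔ zpowers v' := mem_sup_right (mem_zpowers v')
    refine ((h.Q_cases (h.l.mul_mem_Q hb h.r.v_mem e h.conj_v)).imp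
      (fun e => (mul_mem_cancel_right hv').1 (mem_sup_left e)) fun e => ?_).symm
    rw [mul_assoc, h.c_comm h.r.v_mem, ← mul_assoc] at e
    exact (mul_mem_cancel_right hv').1 (mem_sup_left e)

theorem notMem_D0 {u : G} (hu : IsConj c u) : u ∉ zpowers z ⊔ zpowers v ⊔ zpowers v' := by
  intro e
  have h1 : ¬ IsConj z u := fun e => h.not_isConj (e.trans hu.symm)
  have h2 : u ≠ 1 := fun e => h.c_ne (isConj_one_left.1 (e ▸ hu))
  have h3 : u * u = 1 := by
    obtain ⟨g, rfl⟩ := isConj_iff.1 hu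
    rw [conj_mul, h.c_sq, mul_one, mul_inv_cancel]
  have key : ∀ {d v : G}, Par B d z v → u ≠ v ∧ u ≠ z * v := fun {d v} h =>
    ⟨fun e => h1 (e ▸ isConj_iff.2 ⟨d, h.dz⟩), fun e => h1 (e ▸ (isConj_iff.2 ⟨d, h.dzv⟩).symm)⟩
  rcases mem_sup_zpowers_of_sq_mem (h.l.le_normalizer_four (mem_sup_left h.r.v_mem))
    (h.r.v_sq ▸ one_mem _) e with e | e
  · rcases h.l.mem_four e with e | e | e | e
    exacts [h2 e, h1 (e ▸ IsConj.refl _), (key h.l).1 e, (key h.l).2 e]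
  · have e1 : u = u * v' * v' := by rw [mul_assoc, h.r.v_sq, mul_one]
    rcases h.l.mem_four e with e | e | e | e <;> rw [e] at e1
    · exact (key h.r).1 (e1.trans (one_mul _))
    · exact (key h.r).2 e1
    · exact h.l.z_ne (by rw [← h.vv_sq, ← e1, h3])
    · refine h.l.z_ne ?_
      rw [e1, mul_assoc z, mul_assoc z, ← mul_assoc (v * v'),
        h.l.z_comm (mul_mem h.l.v_mem h.r.v_mem), mul_assoc z, h.zz, h.vv_sq] at h3
      exact h3

theorem notMem_pResidual (hS : IsSylowIn 2 S ⊤) (hB : B ≤ S) (hz : S ≤ centralizer {z})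
    (hZ : centralizer (oz S : Set G) ≤ normalizer (S : Set G)) : c ∉ pResidual 2 G := by
  have := Fact.mk Nat.prime_two
  have hn := PRes.pResidual_normal (p := 2) (G := G)
  intro hc
  set R := S ⊓ pResidual 2 G with hR
  set D := zpowers z ⊔ zpowers v ⊔ zpowers v' with hD
  have hR1 : IsSylowIn 2 R (pResidual 2 G) := hS.inf_of_le_normalizer le_top le_normalizer_of_normal
  have hD1 : D ≤ pResidual 2 G := sup_le (sup_le (zpowers_le_of_mem h.l.mem_pResidual.1)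
    (zpowers_le_of_mem h.l.mem_pResidual.2)) (zpowers_le_of_mem h.r.mem_pResidual.2)
  have hBR : B ≤ R := le_inf hB fun b hb => (h.mem_D0 hb).elim
    (fun e => (mul_mem_cancel_right hc).1 (hD1 e)) fun e => hD1 e
  have hc2 := orderOf_eq_two_of_mul_self h.c_sq h.c_ne
  have conj : ∀ g : G, IsConj c (g⁻¹ * c * g) := fun g => isConj_iff.2 ⟨g⁻¹, by rw [inv_inv]⟩
  by_cases hRB : R ≤ B
  · obtain ⟨g, -, e⟩ := exists_conj_mem_of_relIndex_dvd (R₀ := D) hR1
      (relIndex_dvd_two_iff.2 ⟨c, hBR h.c1.1, fun b hb => h.mem_D0 (hRB hb)⟩) (hBR h.c1.1) hc2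
    exact h.notMem_D0 (conj g) e.2
  have hR2 := hR1.isPGroup
  have hN := h.le_normalizer_B hR2 hBR (inf_le_left.trans hz)
  obtain ⟨s, hs, hs'⟩ := SetLike.not_le_iff_exists.1 hRB
  have hzD : z ∈ D := mem_sup_left (mem_sup_left (mem_zpowers z))
  have hvD : v ∈ D := mem_sup_left (mem_sup_right (mem_zpowers v))
  have hv'D : v' ∈ D := mem_sup_right (mem_zpowers v')
  have hsD : s ∈ normalizer (D : Set G) := by
    have : D ≤ D.comap (MulAut.conj s).toMonoidHom := by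
      refine sup_le (sup_le (zpowers_le_of_mem ?_) (zpowers_le_of_mem ?_))
        (zpowers_le_of_mem ?_) <;> change s * _ * s⁻¹ ∈ D
      · rwa [h.conj_z (hN hs)]
      · rcases h.conj_v' hR2 hBR hs (hN hs) hs' with e | e <;> rw [e]
        exacts [hv'D, mul_mem hzD hv'D]
      · rcases h.symm.conj_v' hR2 hBR hs (hN hs) hs' with e | e <;> rw [e]
        exacts [hvD, mul_mem hzD hvD]
    exact mem_normalizer_fintype fun x hx => this hx
  have hs0 : s ∈ D ⊔ zpowers s := mem_sup_right (mem_zpowers s)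
  obtain ⟨g, -, e⟩ := exists_conj_mem_of_relIndex_dvd (R₀ := D ⊔ zpowers s) hR1
    (relIndex_dvd_two_iff.2 ⟨c, hBR h.c1.1, fun b hb => by
      by_cases hb' : b ∈ B
      · exact (h.mem_D0 hb').imp mem_sup_left mem_sup_left
      · refine (h.mem_D0 (h.mul_mem_B hR2 hBR hb (hN hb) hb' hs (hN hs) hs')).imp (fun e => ?_)
          fun e => (mul_mem_cancel_right hs0).1 (mem_sup_left e)
        have := mul_mem (mul_mem (mem_sup_left e) (inv_mem hs0)) (mem_sup_left hzD)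
        rwa [show b * s * c * s⁻¹ = b * (s * c * s⁻¹) by group,
          h.conj_c hR2 hBR hs (hN hs) hs', mul_assoc, mul_assoc, ← h.c_comm h.l.z_mem, h.zz]
          at this⟩) (hBR h.c1.1) hc2
  obtain ⟨u, hu⟩ : ∃ u, u = g⁻¹ * c * g := ⟨_, rfl⟩
  rw [← hu] at e
  have u1 := (mem_sup_zpowers_of_sq_mem hsD (h.sq_mem hR2 hBR hs (hN hs) hs') e.2).resolve_left
    (h.notMem_D0 (hu ▸ conj g))
  have hDB : D ≤ B := sup_le h.l.four_le (zpowers_le_of_mem h.r.v_mem)
  have u2 : u ∉ B := fun e => hs' ((mul_mem_cancel_left e).1 (hDB u1))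
  have u3 : u * u = 1 := by rw [hu, show g⁻¹ * c * g * (g⁻¹ * c * g) = g⁻¹ * (c * c) * g by group,
    h.c_sq, mul_one, inv_mul_cancel]
  have u4 := inv_eq_of_mul_eq_one_right u3
  have u5 : u * (v * v') * u⁻¹ = z * (v * v') := by
    have e1 : u * (u * v * u⁻¹) * u⁻¹ = v := by
      rw [show u * (u * v * u⁻¹) * u⁻¹ = u * u * v * (u * u)⁻¹ by group, u3]; simp
    rw [← conj_mul]
    rcases h.conj_v' hR2 hBR e.1 (hN e.1) u2 with a | a <;> rw [a] at e1 ⊢
    · rw [e1, h.swap]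
    · rw [← conj_mul, h.conj_z (hN e.1)] at e1
      rw [← h.zz (u * v' * u⁻¹), e1, mul_assoc, ← mul_assoc v', h.r.vz, mul_assoc, h.zz, h.swap]
  have hvv := mul_mem h.l.v_mem h.r.v_mem
  have u6 : u * (c * (v * v')) * u⁻¹ = c * (v * v') := by
    rw [← conj_mul, u5, h.conj_c hR2 hBR e.1 (hN e.1) u2, mul_assoc, ← mul_assoc c,
      ← h.c_comm h.l.z_mem, mul_assoc, h.zz]
  have u7 : c * (v * v') * (c * (v * v')) = z := by
    rw [mul_assoc, ← mul_assoc (v * v'), h.c_comm hvv, mul_assoc, h.vv_sq, ← mul_assoc, h.c_sq,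
      one_mul]
  obtain ⟨x, x1, x2⟩ := h.exists_conj (y := g * (c * (v * v')) * g⁻¹) (by
      have : c = g * u * g⁻¹ := by rw [hu]; group
      rw [← mul_inv_eq_iff_eq_mul.1 (show _ = g * (c * (v * v')) * g⁻¹ by
        rw [← u6]; conv_rhs => rw [← conj_mul, ← conj_mul, ← this, ← conj_inv, ← this])])
    (by rw [conj_mul, conj_mul, u7, h.l.z_sq, mul_one, mul_inv_cancel])
  have x3 : x * g * z * (x * g)⁻¹ = z := by
    have e1 : x * (g * (c * (v * v')) * g⁻¹) * x⁻¹ * (x * (g * (c * (v * v')) * g⁻¹) * x⁻¹) =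
        x * g * z * (x * g)⁻¹ := by rw [conj_mul, conj_mul, u7]; group
    rcases h.sq_cases x2 with e2 | e2
    · exact absurd (conj_eq_one_iff.1 (e1.symm.trans e2.1)) h.l.z_ne
    · exact e1.symm.trans e2
  have x4 : x * g ∈ normalizer (S : Set G) := hZ fun w hw => by
    have w1 := Sig.mem_oz.1 hw
    have w2 := h.mem_of_cent hS.isPGroup hB w1.1 (w1.2.1 z (hB h.l.z_mem)).symm
      (w1.2.1 v (hB h.l.v_mem)).symm
    rcases h.fixed hR2 hBR hs (hN hs) hs' w2 w1.2.2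
      (mul_inv_eq_iff_eq_mul.2 (w1.2.1 s hs.1)) with rfl | rfl
    · simp
    · exact (mul_inv_eq_iff_eq_mul.1 x3).symm
  have x5 : u = (x * g)⁻¹ * c * (x * g) := by
    rw [hu]
    conv_rhs => rw [← x1]
    group
  generalize x * g = k at x3 x4 x5
  have x6 : ∀ a, ¬ (a = 1 ∨ a = z) → ¬ (k⁻¹ * a * k = 1 ∨ k⁻¹ * a * k = z) := fun a ha e =>
    ha (e.imp (fun e => by rw [show a = k * (k⁻¹ * a * k) * k⁻¹ by group, e]; group)
      fun e => by rw [← x3, ← e]; group)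
  have x7 : k⁻¹ * v * k ∈ R := ⟨(mem_normalizer_iff''.1 x4 v).1 (hB h.l.v_mem),
    hn.conj_mem' _ h.l.mem_pResidual.2 k⟩
  have x8 : ∀ a b, k⁻¹ * a * k * (k⁻¹ * b * k) = k⁻¹ * (a * b) * k := fun a b => by group
  refine u2 (h.mem_of_comm hR2 hBR e.1 (hN e.1) x7 (hN x7) u3
    (by rw [x8, h.l.v_sq, mul_one, inv_mul_cancel]) (by rw [x5, x8, x8, h.c_comm h.l.v_mem])
    (x6 v (not_or.2 ⟨h.l.v_ne_one, h.l.v_ne⟩)) ?_)
  rw [x5, x8]
  refine x6 _ fun e => h.c_notMem ((mul_mem_cancel_right (mem_sup_right (mem_zpowers v))).1 ?_)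
  rcases e with e | e <;> rw [e]
  exacts [one_mem _, mem_sup_left (mem_zpowers z)]

end En

theorem Am.centralizer_eq [Finite G] {B S : Subgroup G} {d d' z v v' : G} (h : Am B d d' z v v')
    (hs : Star B (B ⊔ zpowers d)) (hs' : Star B (B ⊔ zpowers d')) (hS : IsSylowIn 2 S ⊤)
    (hB : B ≤ S) (hZ : centralizer (oz S : Set G) ≤ normalizer (S : Set G)) :
    S ⊓ pResidual 2 G ⊓ centralizer {v} = zpowers z ⊔ zpowers v := by
  have := Fact.mk Nat.prime_two
  have hS2 := hS.isPGroup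
  obtain ⟨w, hw, w1, w2⟩ : ∃ w ∈ S, w ≠ 1 ∧ w ∈ oz S := by
    obtain ⟨t, ht, e⟩ := exists_involution_mem (hS2.to_inf_left (K := centralizer (S : Set G)))
      (H5.centerOf_ne_bot hS2 fun e => h.l.z_ne (mem_bot.1 (e ▸ hB h.l.z_mem)))
    exact ⟨t, ht.1, ne_one_of_orderOf e, Sig.mem_oz.2 ⟨ht.1, ht.2, mul_self_of_orderOf e⟩⟩
  have w3 := (Sig.mem_oz.1 w2).2.1
  have hzV : z ∈ zpowers z ⊔ zpowers v := mem_sup_left (mem_zpowers z)
  refine le_antisymm ?_ (le_inf (le_inf (h.l.four_le.trans hB) (sup_le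
    (zpowers_le_of_mem h.l.mem_pResidual.1) (zpowers_le_of_mem h.l.mem_pResidual.2)))
    (sup_le (zpowers_le_of_mem h.z_mem_Q.2) (zpowers_le_of_mem h.v_mem_Q.2)))
  have key : (∀ s ∈ S, s * z = z * s → s * v = v * s → s ∈ B) → w ∈ oz B := fun e =>
    Sig.mem_oz.2 ⟨e w hw (w3 z (hB h.l.z_mem)).symm (w3 v (hB h.l.v_mem)).symm,
      centralizer_le hB w3, (Sig.mem_oz.1 w2).2.2⟩
  obtain ⟨c, c1, c2, c3, rfl | c4, c5⟩ := h.exists_c
  · have c6 : ∀ e ∈ oz B, e = 1 ∨ e = z := fun e he => by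
      have := c5 e (h.mem_oz.1 he).1 (h.mem_oz.1 he).2
      rw [mul_one] at this
      tauto
    have h1 : ∀ s ∈ S, s * z = z * s → s * v = v * s → s ∈ B := fun s h1 h2 h3 =>
      (h.l.normalizes hs hS2 hB h1 h2 h3).2 fun e he => by
        rcases c6 e he with rfl | rfl
        exacts [by simp, h2.symm]
    obtain rfl := (c6 w (key h1)).resolve_left w1
    intro s hs
    have h2 : s ∈ B ⊓ centralizer {v} :=
      ⟨h1 s hs.1.1 (w3 s hs.1.1) (mem_centralizer_singleton_iff.1 hs.2), hs.2⟩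
    have h3 : ∀ e ∈ B ⊓ centralizer {v}, e ∈ B ⊓ centralizer {v'} →
        e ∈ zpowers w ⊔ zpowers v := fun e e1 e2 => by
      rcases c6 e (h.mem_oz.2 ⟨e1, e2⟩) with rfl | rfl
      exacts [one_mem _, hzV]
    rcases h.mem_Q_cases h2 with e | e
    · exact h3 s h2 e
    · exact (mul_mem_cancel_right (mem_sup_right (mem_zpowers v))).1
        (h3 _ (mul_mem h2 h.v_mem_Q) e)
  · have E : En B d d' z v v' c := ⟨h, hs, hs', hS2.to_le hB, c1, c2, c3, c4, c5⟩
    have h1 := h.mem_oz.1 (key fun s => E.mem_of_cent hS2 hB)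
    have h2 : S ≤ centralizer {z} := by
      have h3 : S ≤ centralizer {w} := fun s hs => mem_centralizer_singleton_iff.2 (w3 s hs)
      have h4 : B ≤ centralizer {z} := fun b hb => mem_centralizer_singleton_iff.2 (h.l.z_comm hb)
      rcases (c5 w h1.1 h1.2).resolve_left w1 with rfl | rfl | rfl
      exacts [h3, (E.le_of_cent hS2 hB h3).trans h4, (E.symm.le_of_cent hS2 hB h3).trans h4]
    intro s hs
    have h3 := E.mem_of_cent hS2 hB hs.1.1 (mem_centralizer_singleton_iff.1 (h2 hs.1.1))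
      (mem_centralizer_singleton_iff.1 hs.2)
    refine (E.Q_cases ⟨h3, hs.2⟩).resolve_right fun e => E.notMem_pResidual hS hB h2 hZ ?_
    exact (mul_mem_cancel_left (mem_inf.1 hs.1).2).1 ((sup_le (zpowers_le_of_mem h.l.mem_pResidual.1)
      (zpowers_le_of_mem h.l.mem_pResidual.2) : _ ≤ pResidual 2 G) e)

theorem dihedral_or_of_centralizer [Finite G] {R : Subgroup G} (hR : IsPGroup 2 R) {z v : G}
    (hz : z * z = 1) (hv : v * v = 1) (hz1 : z ≠ 1) (hv1 : v ≠ 1) (hne : v ≠ z)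
    (h : R ⊓ centralizer {v} = zpowers z ⊔ zpowers v) :
    (∃ n : ℕ, 2 ≤ n ∧ Nonempty (R ≃* DihedralGroup n)) ∨ IsQuasiDihedral R := by
  have h1 : z ∈ R ⊓ centralizer {v} := h ▸ mem_sup_left (mem_zpowers z)
  have h2 : v ∈ R ⊓ centralizer {v} := h ▸ mem_sup_right (mem_zpowers v)
  have h3 := mem_centralizer_singleton_iff.1 h1.2
  have o1 := orderOf_eq_two_of_mul_self hz hz1
  have o2 := orderOf_eq_two_of_mul_self hv hv1
  have h4 : v ∉ zpowers z := fun e => by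
    rcases mem_four hz hz rfl (mem_sup_left e) with e | e | e | e
    exacts [hv1 e, hne e, hne e, hv1 (e.trans hz)]
  have h5 : Nat.card ↥(zpowers z ⊔ zpowers v) = 4 := by
    have e1 := four_le_card_sup (A := zpowers z) (by rw [Nat.card_zpowers, o1]) h4
    have e2 := card_sup_mul_card_inf (H := zpowers z) (N := zpowers v) (zpowers_le_of_mem
      (centralizer_le_normalizer _ (by rw [centralizer_zpowers']; exact h1.2)))
    have e3 : 0 < Nat.card ↥(zpowers z ⊓ zpowers v) := Nat.card_pos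
    rw [Nat.card_zpowers, o1] at e1
    rw [Nat.card_zpowers, Nat.card_zpowers, o1, o2] at e2
    nlinarith
  have h6 : Nat.card (centralizer ({⟨v, h2.1⟩} : Set R)) = 4 := by
    rw [← h5, ← h, ← card_map_of_injective R.subtype_injective, ← centralizer_zpowers',
      map_subtype_centralizer, MonoidHom.map_zpowers, centralizer_zpowers']
    rfl
  by_cases hab : IsMulCommutative R
  · have h7 : centralizer ({⟨v, h2.1⟩} : Set R) = ⊤ := eq_top_iff.2 fun x _ =>
      mem_centralizer_singleton_iff.2 (hab.is_comm.comm _ _)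
    refine Or.inl ⟨2, le_rfl, PGrp.nonempty_mulEquiv_dihedralGroup (x := ⟨z, h1.1⟩)
      (y := ⟨v, h2.1⟩) (by rw [← orderOf_coe]; exact o1) (fun e => h4 ?_)
      (Subtype.ext (by rw [sq]; exact hv)) (Subtype.ext ?_) (by rw [h7, card_top] at h6; exact h6)⟩
    · obtain ⟨k, hk⟩ := mem_zpowers_iff.1 e
      exact ⟨k, congrArg Subtype.val hk⟩
    · change v * z * v⁻¹ = z⁻¹
      rw [← h3, mul_inv_cancel_right, inv_eq_of_mul_eq_one_right hz]
  obtain ⟨n, x, y, hxy⟩ := PGrp.isDQSD_of_card_centralizer hR hab h6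
  rcases hxy.cases with ⟨-, e⟩ | ⟨⟨e⟩⟩ | ⟨-, e⟩
  · exact Or.inl ⟨_, le_trans (by norm_num) (Nat.pow_le_pow_right two_pos hxy.1), e⟩
  · exfalso
    have key : ∀ a : QuaternionGroup (2 ^ (n - 1)), a * a = 1 → a ≠ 1 →
        a = QuaternionGroup.a (2 ^ (n - 1) : ℕ) := by
      rintro (i | i) e1 e2
      · rw [QuaternionGroup.a_mul_a, QuaternionGroup.one_def, QuaternionGroup.a.injEq,
          add_eq_zero_iff_neg_eq, ZMod.neg_eq_self_iff] at e1
        rcases e1 with rfl | e1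
        · exact absurd rfl e2
        · exact congrArg _ ((ZMod.natCast_zmod_val i).symm.trans
            (congrArg _ (Nat.eq_of_mul_eq_mul_left two_pos e1)))
      · have := orderOf_dvd_of_pow_eq_one ((sq _).trans e1)
        rw [QuaternionGroup.orderOf_xa] at this
        omega
    have a1 := key (e ⟨z, h1.1⟩) (by rw [← map_mul, ← map_one e]; congr 1; exact Subtype.ext hz)
      (fun e' => hz1 (congrArg Subtype.val (e.map_eq_one_iff.1 e')))
    have a2 := key (e ⟨v, h2.1⟩) (by rw [← map_mul, ← map_one e]; congr 1; exact Subtype.ext hv)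
      (fun e' => hv1 (congrArg Subtype.val (e.map_eq_one_iff.1 e')))
    exact hne (congrArg Subtype.val (e.injective (a2.trans a1.symm)))
  · exact Or.inr e

end CfsgLib.Sig
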