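import Cfsg.Agent.Lib.Sig.ZNEnd

/-!
# Transvections in solvable groups acting on `𝔽₂`-modules
-/

set_option autoImplicit false
set_option linter.unusedSectionVars false

namespace CfsgLib.Sig

open Subgroup Cfsg CfsgLib.Cop CfsgLib.H1

variable {X : Type*} [Group X]

theorem ea_comm {V : Subgroup X} (hV : IsElementaryAbelian 2 V) {u v : X} (hu : u ∈ V)
    (hv : v ∈ V) : u * v = v * u := congrArg Subtype.val (hV.1.is_comm.comm ⟨u, hu⟩ ⟨v, hv⟩)

theorem ea_sq {V : Subgroup X} (hV : IsElementaryAbelian 2 V) {u : X} (hu : u ∈ V) : u * u = 1 :=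
  (sq u).symm.trans (hV.2 u hu)

theorem ea_cancel {V : Subgroup X} (hV : IsElementaryAbelian 2 V) {u : X} (hu : u ∈ V)
    (a b : X) : a * u * (u * b) = a * b := by
  rw [mul_assoc, ← mul_assoc u, ea_sq hV hu, one_mul]

theorem conj_eq_of_cent {V : Subgroup X} {a b v : X} (h : a⁻¹ * b ∈ centralizer (V : Set X))
    (hv : v ∈ V) : a * v * a⁻¹ = b * v * b⁻¹ := by
  rw [show b * v * b⁻¹ = a * (a⁻¹ * b * v) * b⁻¹ by group, ← h v hv]
  group

theorem cent_of_conj_eq {V : Subgroup X} {a b : X} (h : ∀ v ∈ V, a * v * a⁻¹ = b * v * b⁻¹) :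
    a⁻¹ * b ∈ centralizer (V : Set X) := fun v hv => by
  rw [show a⁻¹ * b * v = a⁻¹ * (b * v * b⁻¹) * b by group, ← h v hv]
  group

/-- `a` induces a transvection with center `z` on `V`. -/
structure Tv (V : Subgroup X) (a z : X) : Prop where
  norm : a ∈ normalizer (V : Set X)
  mem : z ∈ V
  ne : z ≠ 1
  conj : ∀ v ∈ V, a * v * a⁻¹ = v ∨ a * v * a⁻¹ = z * v
  ex : ∃ v ∈ V, a * v * a⁻¹ = z * v

namespace Tv

variable {V : Subgroup X} {a b z w : X}

theorem fix (h : Tv V a z) (hV : IsElementaryAbelian 2 V) : a * z * a⁻¹ = z :=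
  (h.conj z h.mem).resolve_right fun e => h.ne (conj_eq_one_iff.1 (e.trans (ea_sq hV h.mem)))

theorem map_conj (h : Tv V a z) {g : X} (hg : g ∈ normalizer (V : Set X)) :
    Tv V (g * a * g⁻¹) (g * z * g⁻¹) where
  norm := mul_mem (mul_mem hg h.norm) (inv_mem hg)
  mem := (mem_normalizer_iff.1 hg z).1 h.mem
  ne := fun e => h.ne (conj_eq_one_iff.1 e)
  conj := fun v hv => by
    have e : g * a * g⁻¹ * v * (g * a * g⁻¹)⁻¹ = g * (a * (g⁻¹ * v * g) * a⁻¹) * g⁻¹ := by group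
    rcases h.conj _ ((mem_normalizer_iff''.1 hg v).1 hv) with e' | e' <;> rw [e, e']
    · left; group
    · right; group
  ex := by
    obtain ⟨v, hv, e⟩ := h.ex
    exact ⟨g * v * g⁻¹, (mem_normalizer_iff.1 hg v).1 hv, by
      rw [conj_mul, conj_mul, ← e]; group⟩

theorem congr (h : Tv V a z) (hb : a⁻¹ * b ∈ centralizer (V : Set X)) : Tv V b z where
  norm := by simpa using mul_mem h.norm (centralizer_le_normalizer _ hb)
  mem := h.mem
  ne := h.ne
  conj := fun v hv => conj_eq_of_cent hb hv ▸ h.conj v hv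
  ex := by
    obtain ⟨v, hv, e⟩ := h.ex
    exact ⟨v, hv, conj_eq_of_cent hb hv ▸ e⟩

theorem unique (h : Tv V a z) (h' : Tv V a w) : z = w := by
  obtain ⟨v, hv, e⟩ := h.ex
  rcases h'.conj v hv with e' | e'
  · exact absurd (mul_eq_right.1 (e.symm.trans e')) h.ne
  · exact mul_right_cancel (e.symm.trans e')

theorem notMem (h : Tv V a z) : a ∉ centralizer (V : Set X) := fun e => by
  obtain ⟨v, hv, e'⟩ := h.ex
  rw [← e v hv, mul_inv_cancel_right] at e'
  exact h.ne (mul_eq_right.1 e'.symm)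

theorem comm (h : Tv V a z) (h' : Tv V b w) (hV : IsElementaryAbelian 2 V) (h1 : a * w * a⁻¹ = w)
    (h2 : b * z * b⁻¹ = z) : (a * b)⁻¹ * (b * a) ∈ centralizer (V : Set X) :=
  cent_of_conj_eq fun v hv => by
    rw [show a * b * v * (a * b)⁻¹ = a * (b * v * b⁻¹) * a⁻¹ by group,
      show b * a * v * (b * a)⁻¹ = b * (a * v * a⁻¹) * b⁻¹ by group]
    rcases h.conj v hv with e | e <;> rcases h'.conj v hv with e' | e' <;>
      simp only [e, e', ← conj_mul, h1, h2]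
    rw [← mul_assoc, ← mul_assoc, ea_comm hV h.mem h'.mem]

theorem fix_of_comm (h' : Tv V b w) (ha : a ∈ normalizer (V : Set X))
    (h : (a * b)⁻¹ * (b * a) ∈ centralizer (V : Set X)) : a * w * a⁻¹ = w := by
  refine ((h'.map_conj ha).congr ?_).unique h'
  have := (mem_normalizer_iff.1 (le_normalizer_centralizer le_rfl ha) _).1 h
  convert this using 1
  group

theorem sq_mem (h : Tv V a z) (hV : IsElementaryAbelian 2 V) : a * a ∈ centralizer (V : Set X) :=
  fun v hv => by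
    rw [eq_comm, ← mul_inv_eq_iff_eq_mul,
      show a * a * v * (a * a)⁻¹ = a * (a * v * a⁻¹) * a⁻¹ by group]
    rcases h.conj v hv with e | e
    · rw [e, e]
    · rw [e, ← conj_mul, h.fix hV, e, ← mul_assoc, ea_sq hV h.mem, one_mul]

theorem relIndex_le (h : Tv V a z) (hV : IsElementaryAbelian 2 V) :
    (centralizer (zpowers a : Set X)).relIndex V ≤ 2 := by
  obtain ⟨v, hv, e⟩ := h.ex
  refine Nat.le_of_dvd two_pos (relIndex_dvd_two_iff.2 ⟨v, hv, fun u hu => ?_⟩)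
  rw [mem_centralizer_zpowers_iff, mem_centralizer_zpowers_iff]
  refine ((h.conj u hu).imp_right fun e' => ?_).symm
  rw [← conj_mul, e, e', mul_assoc, ← mul_assoc u, ea_comm hV hu h.mem, mul_assoc, ← mul_assoc z,
    ea_sq hV h.mem, one_mul]

theorem of_relIndex (hV : IsElementaryAbelian 2 V) (ha : a ∈ normalizer (V : Set X))
    (h : (centralizer (zpowers a : Set X)).relIndex V = 2) : ∃ z, Tv V a z := by
  obtain ⟨v, hv, h1⟩ := relIndex_eq_two_iff.1 h
  have h2 : a * v * a⁻¹ ≠ v := fun e => by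
    have := h1 1 (one_mem _)
    rw [one_mul, mem_centralizer_zpowers_iff] at this
    exact (this.resolve_right fun e' => e'.2 e).2 (one_mem _)
  have h3 := (mem_normalizer_iff.1 ha v).1 hv
  refine ⟨a * v * a⁻¹ * v⁻¹, ha, mul_mem h3 (inv_mem hv), fun e => h2 (mul_inv_eq_one.1 e),
    fun u hu => ?_, v, hv, by group⟩
  rcases h1 u hu with e | e
  · right
    have e1 := mem_centralizer_zpowers_iff.1 e.1
    rw [← conj_mul, ← eq_mul_inv_iff_mul_eq] at e1
    rw [e1, inv_eq_of_mul_eq_one_right (ea_sq hV h3), inv_eq_of_mul_eq_one_right (ea_sq hV hv),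
      ea_comm hV (mul_mem hu hv) h3, ea_comm hV hu hv, mul_assoc (a * v * a⁻¹)]
  · exact Or.inl (mem_centralizer_zpowers_iff.1 e.1)

end Tv

theorem card_le_relIndex_and [Finite X] {V F : Subgroup X} (hV : IsElementaryAbelian 2 V)
    (hF : (Nat.card F).Coprime 2) (hFV : F ≤ normalizer (V : Set X))
    (hfaith : F ⊓ centralizer (V : Set X) = ⊥) (A : Subgroup X) :
    IsElementaryAbelian 2 A → A ≤ normalizer (V : Set X) → A ≤ normalizer (F : Set X) →
      A ⊓ centralizer (F : Set X) = ⊥ →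
      Nat.card A ≤ (centralizer (A : Set X)).relIndex V ∧
        ((centralizer (A : Set X)).relIndex V ≤ Nat.card A →
          A ≤ closure {a | a ∈ A ∧ ∃ z, Tv V a z}) := by
  have := Fact.mk Nat.prime_two
  induction A using WellFoundedLT.induction with
  | ind A ih =>
  intro hA hAV hAF hAC
  have hA2 := IsElementaryAbelian.isPGroup hA
  have hV2 := IsElementaryAbelian.isPGroup hV
  have hcop : (Nat.card A).Coprime (Nat.card F) := (coprime_card_of_isPGroup hF hA2).symm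
  have key : ∀ B ≤ A, (∃ a ∈ A, B ⊔ zpowers a = A) →
      ¬ F ⊓ centralizer (B : Set X) ≤ centralizer (A : Set X) →
      Nat.card A ≤ (centralizer (A : Set X)).relIndex V ∧
        ((centralizer (A : Set X)).relIndex V ≤ Nat.card A →
          B ≤ closure {a | a ∈ A ∧ ∃ z, Tv V a z}) := by
    rintro B hBA ⟨a, ha, hBa⟩ hB
    have hBlt : B < A := lt_of_le_of_ne hBA fun h => hB (h ▸ inf_le_right)
    obtain ⟨h1, h1'⟩ := ih B hBlt (isElementaryAbelian_of_le hA hBA) (hBA.trans hAV)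
      (hBA.trans hAF) (eq_bot_iff.2 ((inf_le_inf_right _ hBA).trans hAC.le))
    set E := F ⊓ centralizer (B : Set X) with hE
    set V₁ := V ⊓ centralizer (B : Set X) with hV₁
    have hAB : A ≤ normalizer (B : Set X) :=
      (le_centralizer_iff.1 (hBA.trans (IsElementaryAbelian.le_centralizer hA))).trans
        (centralizer_le_normalizer _)
    have hAE : A ≤ normalizer (E : Set X) := le_normalizer_inf_centralizer hAF hAB
    have hEV₁ : E ≤ normalizer (V₁ : Set X) := le_normalizer_inf_centralizer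
      (inf_le_left.trans hFV) (inf_le_right.trans (centralizer_le_normalizer _))
    have hF₁E : ⁅E, A⁆ ≤ E := commutator_le_left_of_le_normalizer hAE
    have h2 : 2 ≤ (centralizer (A : Set X)).relIndex V₁ := by
      by_contra h
      have h0 := relIndex_ne_zero' (centralizer (A : Set X)) V₁
      have h4 := le_centralizer_iff.1 (relIndex_eq_one.1
        (show (centralizer (A : Set X)).relIndex V₁ = 1 by omega))
      have h3 := commutator_eq_bot_of_pxq (hA2.to_le hBA) hV2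
        (hF.coprime_dvd_left (card_dvd_of_le (hF₁E.trans inf_le_left))) (hBA.trans hAV)
        (hF₁E.trans (inf_le_left.trans hFV))
        (commutator_eq_bot_iff_le_centralizer'.2 (hF₁E.trans inf_le_right))
        (le_centralizer_iff.1 ((commutator_mono le_rfl h4).trans
          (commutator_le_of_le_normalizer (le_normalizer_centralizer hEV₁))))
      apply hB
      rw [← commutator_eq_bot_iff_le_centralizer, eq_bot_iff, ← hfaith]
      exact le_inf (hF₁E.trans inf_le_left) (commutator_eq_bot_iff_le_centralizer'.1 h3)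
    have hmul : (centralizer (A : Set X)).relIndex V =
        (centralizer (A : Set X)).relIndex V₁ * (centralizer (B : Set X)).relIndex V := by
      rw [← relIndex_inf_self (centralizer (B : Set X)), ← relIndex_inf_self _ V,
        ← relIndex_inf_self _ V₁, ← hV₁, ← relIndex_mul_relIndex _ V₁ V _ inf_le_left]
      · congr 2
        rw [hV₁, inf_assoc, inf_eq_right.2 (centralizer_le hBA)]
      · exact inf_le_inf_left _ (centralizer_le hBA)
    have h5 := card_le_two_mul_of_sup_zpowers hA hBA hBa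
    have h6 := Nat.mul_le_mul h2 (le_refl ((centralizer (B : Set X)).relIndex V))
    exact ⟨by omega, fun h => (h1' (by omega)).trans (closure_mono fun x hx => ⟨hBA hx.1, hx.2⟩)⟩
  by_cases h0 : A = ⊥
  · rw [h0, card_bot]
    exact ⟨Nat.pos_of_ne_zero (relIndex_ne_zero' _ _), fun _ => bot_le⟩
  obtain ⟨B, hBA, ⟨a, ha, hBa⟩, hB⟩ : ∃ B : Subgroup X, B ≤ A ∧ (∃ a ∈ A, B ⊔ zpowers a = A) ∧
      ¬ F ⊓ centralizer (B : Set X) ≤ centralizer (A : Set X) := by
    by_contra hn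
    push Not at hn
    have := le_of_cocyclic_centralizer_le hA.1 hAF hcop hn
    exact h0 (by rw [← hAC, inf_eq_left.2 (le_centralizer_iff.1 this)])
  refine ⟨(key B hBA ⟨a, ha, hBa⟩ hB).1, fun h => ?_⟩
  set Y := closure {a | a ∈ A ∧ ∃ z, Tv V a z} with hY
  have hYA : Y ≤ A := (closure_le _).2 fun x hx => hx.1
  by_contra hn
  have h1 : F ≤ centralizer (Y : Set X) := le_of_cocyclic_centralizer_le hA.1 hAF hcop
    fun B' h1 ⟨a', ha', h2⟩ => by
      by_cases h3 : F ⊓ centralizer (B' : Set X) ≤ centralizer (A : Set X)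
      · exact h3.trans (centralizer_le hYA)
      have h4 := (key B' h1 ⟨a', ha', h2⟩ h3).2 h
      refine inf_le_right.trans (centralizer_le fun y hy => ?_)
      refine (mem_sup_zpowers_of_sq_mem (centralizer_le_normalizer _ (centralizer_le h1
        (IsElementaryAbelian.le_centralizer hA ha'))) (ea_sq hA ha' ▸ one_mem _)
        (h2.ge (hYA hy))).resolve_right fun e => hn (h2.ge.trans (sup_le h4 (zpowers_le_of_mem
          ((mul_mem_cancel_left hy).1 (h4 e)))))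
  have h2 : Y = ⊥ := eq_bot_iff.2 (hAC ▸ le_inf hYA (le_centralizer_iff.1 h1))
  obtain ⟨h3, h4⟩ := key B hBA ⟨a, ha, hBa⟩ hB
  have h5 : B = ⊥ := eq_bot_iff.2 (h2 ▸ h4 h)
  rw [h5, bot_sup_eq] at hBa
  have h6 : a ≠ 1 := fun e => h0 (by rw [← hBa, e, zpowers_one_eq_bot])
  have h7 : Nat.card A = 2 := by
    rw [← hBa, Nat.card_zpowers, orderOf_eq_two_of_mul_self (ea_sq hA ha) h6]
  have h8 : a ∈ Y := subset_closure ⟨ha, Tv.of_relIndex hV (hAV ha) (by rw [hBa]; omega)⟩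
  exact h6 (mem_bot.1 (h2 ▸ h8))

/-- `x` has order `3` on `V` and `[V, x] = ⟨u, u^x⟩`. -/
structure T3 (V : Subgroup X) (x u : X) : Prop where
  norm : x ∈ normalizer (V : Set X)
  x3 : x * x * x = 1
  mem : u ∈ V
  ne : u ≠ 1
  mul : u * (x * u * x⁻¹) = x⁻¹ * u * x
  cm : ∀ v ∈ V, x * v * x⁻¹ * v ∈ zpowers u ⊔ zpowers (x * u * x⁻¹)

namespace T3

variable {V : Subgroup X} {x y u w : X} (h : T3 V x u) (hV : IsElementaryAbelian 2 V)
include h

theorem mem' : x * u * x⁻¹ ∈ V := (mem_normalizer_iff.1 h.norm u).1 h.mem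

theorem conj_conj (v : X) : x * (x * v * x⁻¹) * x⁻¹ = x⁻¹ * v * x := by
  rw [show x * (x * v * x⁻¹) * x⁻¹ = x * x * v * (x * x)⁻¹ by group,
    ← inv_eq_of_mul_eq_one_left h.x3, inv_inv]

theorem le : zpowers u ⊔ zpowers (x * u * x⁻¹) ≤ V :=
  sup_le (zpowers_le_of_mem h.mem) (zpowers_le_of_mem h.mem')

include hV

theorem cases (hw : w ∈ zpowers u ⊔ zpowers (x * u * x⁻¹)) :
    w = 1 ∨ w = u ∨ w = x * u * x⁻¹ ∨ w = u * (x * u * x⁻¹) :=
  mem_four (ea_sq hV h.mem) (ea_sq hV h.mem') (ea_comm hV h.mem h.mem') hw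

theorem ne' : x * u * x⁻¹ ≠ u := fun e => by
  have := h.mul
  rw [← h.conj_conj, e, e, ea_sq hV h.mem] at this
  exact h.ne this.symm

theorem sup_next : zpowers (x * u * x⁻¹) ⊔ zpowers (x * (x * u * x⁻¹) * x⁻¹) =
    zpowers u ⊔ zpowers (x * u * x⁻¹) := by
  rw [h.conj_conj, ← h.mul]
  refine le_antisymm (sup_le le_sup_right (zpowers_le_of_mem (mul_mem (mem_sup_left (mem_zpowers _))
    (mem_sup_right (mem_zpowers _))))) (sup_le (zpowers_le_of_mem ?_) le_sup_left)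
  exact (mul_mem_cancel_right (mem_sup_left (mem_zpowers _))).1 (mem_sup_right (mem_zpowers _))

theorem next : T3 V x (x * u * x⁻¹) where
  norm := h.norm
  x3 := h.x3
  mem := h.mem'
  ne := fun e => h.ne (conj_eq_one_iff.1 e)
  mul := by rw [conj_mul, h.mul]; group
  cm := h.sup_next hV ▸ h.cm

theorem shift (hw : w ∈ zpowers u ⊔ zpowers (x * u * x⁻¹)) (h1 : w ≠ 1) :
    T3 V x w ∧ zpowers w ⊔ zpowers (x * w * x⁻¹) = zpowers u ⊔ zpowers (x * u * x⁻¹) := by
  rcases (h.cases hV hw).resolve_left h1 with rfl | rfl | rfl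
  · exact ⟨h, rfl⟩
  · exact ⟨h.next hV, h.sup_next hV⟩
  · rw [h.mul, ← h.conj_conj]
    exact ⟨(h.next hV).next hV, ((h.next hV).sup_next hV).trans (h.sup_next hV)⟩

theorem eq_one (hw : w ∈ zpowers u ⊔ zpowers (x * u * x⁻¹)) (h1 : x * w * x⁻¹ = w) : w = 1 := by
  by_contra e
  exact (h.shift hV hw e).1.ne' hV h1

theorem conj_mem (hw : w ∈ zpowers u ⊔ zpowers (x * u * x⁻¹)) :
    x * w * x⁻¹ ∈ zpowers u ⊔ zpowers (x * u * x⁻¹) :=
  (mul_mem_cancel_right hw).1 (h.cm w (h.le hw))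

theorem sup_inv : zpowers u ⊔ zpowers (x⁻¹ * u * x⁻¹⁻¹) = zpowers u ⊔ zpowers (x * u * x⁻¹) := by
  rw [inv_inv, ← h.mul]
  refine le_antisymm (sup_le le_sup_left (zpowers_le_of_mem (mul_mem (mem_sup_left (mem_zpowers _))
    (mem_sup_right (mem_zpowers _))))) (sup_le le_sup_left (zpowers_le_of_mem ?_))
  exact (mul_mem_cancel_left (mem_sup_left (mem_zpowers _))).1 (mem_sup_right (mem_zpowers _))

theorem inv : T3 V x⁻¹ u where
  norm := inv_mem h.norm
  x3 := by rw [← mul_inv_rev, ← mul_inv_rev, ← mul_assoc, h.x3, inv_one]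
  mem := h.mem
  ne := h.ne
  mul := by rw [inv_inv, ← h.mul, ← mul_assoc u u, ea_sq hV h.mem, one_mul]
  cm := fun v hv => by
    have h1 := (mem_normalizer_iff.1 h.norm v).1 hv
    have := mul_mem (h.cm _ h1) (h.cm v hv)
    rw [h.conj_conj, ea_cancel hV h1] at this
    rwa [h.sup_inv hV, inv_inv]

theorem sq_mem (h' : T3 V y u) (e : y * u * y⁻¹ = x * u * x⁻¹) :
    x⁻¹ * y * (x⁻¹ * y) ∈ centralizer (V : Set X) := fun v hv => by
  have h1 : ∀ w ∈ zpowers u ⊔ zpowers (x * u * x⁻¹), x⁻¹ * y * w * (x⁻¹ * y)⁻¹ = w := by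
    have e1 : x⁻¹ * y * u * (x⁻¹ * y)⁻¹ = u := by
      rw [show x⁻¹ * y * u * (x⁻¹ * y)⁻¹ = x⁻¹ * (y * u * y⁻¹) * x by group, e]; group
    have e2 : x⁻¹ * y * (x * u * x⁻¹) * (x⁻¹ * y)⁻¹ = x * u * x⁻¹ := by
      rw [show x⁻¹ * y * (x * u * x⁻¹) * (x⁻¹ * y)⁻¹ = x⁻¹ * (y * (x * u * x⁻¹) * y⁻¹) * x by group,
        ← e, h'.conj_conj, ← h'.mul, e, h.mul, ← h.conj_conj (x⁻¹ * u * x)]
      group
    intro w hw
    rcases h.cases hV hw with rfl | rfl | rfl | rfl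
    exacts [by simp, e1, e2, by rw [← conj_mul, e1, e2]]
  have h2 := (mem_normalizer_iff.1 h'.norm v).1 hv
  have h3 := mul_mem (h.sup_inv hV ▸ (h.inv hV).cm _ h2) (e ▸ h'.cm v hv)
  rw [ea_cancel hV h2, show x⁻¹ * (y * v * y⁻¹) * x⁻¹⁻¹ = x⁻¹ * y * v * (x⁻¹ * y)⁻¹ by group] at h3
  have h4 := h1 _ h3
  have h5 := (mem_normalizer_iff.1 (mul_mem (inv_mem h.norm) h'.norm) v).1 hv
  generalize x⁻¹ * y = k at h4 h5
  rw [← conj_mul, ← eq_mul_inv_iff_mul_eq] at h4
  rw [eq_comm, ← mul_inv_eq_iff_eq_mul, show k * k * v * (k * k)⁻¹ = k * (k * v * k⁻¹) * k⁻¹ by group,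
    h4, ea_comm hV h5 hv, mul_inv_cancel_right]

end T3

/-- A faithful action of a group `L` with `F*(L) = F` nilpotent of odd order. -/
structure Fa (V L F : Subgroup X) : Prop where
  ea : IsElementaryAbelian 2 V
  norm : L ≤ normalizer (V : Set X)
  faith : L ⊓ centralizer (V : Set X) = ⊥
  le : F ≤ L
  normal : L ≤ normalizer (F : Set X)
  odd : (Nat.card F).Coprime 2
  nil : Group.IsNilpotent F
  cent : L ⊓ centralizer (F : Set X) ≤ F

namespace Fa

variable {V L F : Subgroup X} (H : Fa V L F) {a b c x y u z w : X}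
include H

theorem eq_one (ha : a ∈ L) (h : a ∈ centralizer (V : Set X)) : a = 1 :=
  mem_bot.1 (H.faith ▸ (⟨ha, h⟩ : a ∈ L ⊓ centralizer (V : Set X)))

theorem eq_one_of_sq (hx : x ∈ F) (h : x * x = 1) : x = 1 :=
  orderOf_eq_one_iff.1 (Nat.eq_one_of_dvd_coprimes H.odd (orderOf_dvd_natCard F hx)
    (orderOf_dvd_of_pow_eq_one ((sq x).trans h)))

theorem tv_sq (ha : a ∈ L) (h : Tv V a z) : a * a = 1 := H.eq_one (mul_mem ha ha) (h.sq_mem H.ea)

theorem eq_or (h : T3 V x u) (h' : T3 V y u) (hx : x ∈ F) (hy : y ∈ F)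
    (e : y * u * y⁻¹ ∈ zpowers u ⊔ zpowers (x * u * x⁻¹)) : y = x ∨ y = x⁻¹ := by
  have key : ∀ x ∈ F, T3 V x u → y * u * y⁻¹ = x * u * x⁻¹ → y = x := fun x hx h e => by
    have h1 := mul_mem (inv_mem hx) hy
    exact (inv_mul_eq_one.1 (H.eq_one_of_sq h1
      (H.eq_one (H.le (mul_mem h1 h1)) (h.sq_mem H.ea h' e)))).symm
  rcases h.cases H.ea e with e | e | e | e
  · exact absurd (conj_eq_one_iff.1 e) h.ne
  · exact absurd e (h'.ne' H.ea)
  · exact Or.inl (key x hx h e)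
  · exact Or.inr (key _ (inv_mem hx) (h.inv H.ea) (by rw [e, h.mul, inv_inv]))

variable [Finite X]

theorem t3 (ha : a ∈ L) (h : Tv V a z) (hx : x ∈ F) (h1 : x ≠ 1) (h2 : a * x * a⁻¹ = x⁻¹) :
    T3 V x z := by
  have hV := H.ea
  have hxV := H.norm (H.le hx)
  have hb := h.map_conj hxV
  have a2 := inv_eq_of_mul_eq_one_right (H.tv_sq ha h)
  have h2' : a * x⁻¹ * a⁻¹ = x := by simpa [mul_assoc] using congrArg Inv.inv h2
  have e0 : x * a * x⁻¹ * a = x * x := by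
    rw [show x * a * x⁻¹ * a = x * (a * x⁻¹ * a) by group]
    rw [a2] at h2'
    rw [h2']
  have e0' : a * (x * a * x⁻¹) = x⁻¹ * x⁻¹ := by
    rw [show a * (x * a * x⁻¹) = a * x * a * x⁻¹ by group]
    rw [a2] at h2
    rw [h2]
  have h3 : x * x * x = 1 := by
    have e1 := pow_three_mem_centralizer (IsElementaryAbelian.isPGroup hV) hV.1 (mul_mem hxV hxV)
      (H.odd.coprime_dvd_left (orderOf_dvd_natCard F (mul_mem hx hx)))
      (le_trans (le_trans (relIndex_le_of_le_left (by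
        rw [← centralizer_sup']
        exact centralizer_le (zpowers_le_of_mem (e0 ▸ mul_mem (mem_sup_left (mem_zpowers _))
          (mem_sup_right (mem_zpowers _))))) (relIndex_ne_zero' _ _)) relIndex_inf_le)
        (Nat.mul_le_mul (hb.relIndex_le hV) (h.relIndex_le hV)))
    refine H.eq_one_of_sq (mul_mem (mul_mem hx hx) hx) ?_
    rw [← H.eq_one (H.le (pow_mem (mul_mem hx hx) 3)) e1]
    simp [pow_succ, mul_assoc]
  have x1 : x⁻¹ = x * x := inv_eq_of_mul_eq_one_left h3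
  have h4 : x * z * x⁻¹ ≠ z := fun e => h1 (by
    have e1 := H.eq_one (mul_mem (inv_mem (mul_mem (mul_mem (mul_mem (H.le hx) ha)
      (inv_mem (H.le hx))) ha)) (mul_mem ha (mul_mem (mul_mem (H.le hx) ha) (inv_mem (H.le hx)))))
      ((e ▸ hb).comm h hV ((e ▸ hb).fix hV) (h.fix hV))
    rw [e0, e0', ← mul_inv_rev, ← mul_inv_rev, inv_eq_one, ← mul_assoc, h3, one_mul] at e1
    exact e1)
  have h5 : a * (x * z * x⁻¹) * a⁻¹ = x⁻¹ * z * x := by
    rw [← conj_mul, ← conj_mul, h2, h2', h.fix hV]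
  have h6 : z * (x * z * x⁻¹) = x⁻¹ * z * x := by
    refine ((h.conj _ hb.mem).resolve_left fun e => h4 ?_).symm.trans h5
    have e1 : x * x * z * (x * x)⁻¹ = x * z * x⁻¹ := by rw [← x1, inv_inv, ← h5, e]
    rw [show x * x * z * (x * x)⁻¹ = x * (x * z * x⁻¹) * x⁻¹ by group] at e1
    exact mul_left_cancel (mul_right_cancel e1)
  refine ⟨hxV, h3, h.mem, h.ne, h6, fun v hv => ?_⟩
  have e1 : x * v * x⁻¹ = a * (x * a * x⁻¹ * v * (x * a * x⁻¹)⁻¹) * a⁻¹ := by
    rw [show a * (x * a * x⁻¹ * v * (x * a * x⁻¹)⁻¹) * a⁻¹ =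
      a * (x * a * x⁻¹) * v * (a * (x * a * x⁻¹))⁻¹ by group, e0', ← mul_inv_rev, ← x1, inv_inv]
  have m1 : z ∈ zpowers z ⊔ zpowers (x * z * x⁻¹) := mem_sup_left (mem_zpowers _)
  have m2 : x * z * x⁻¹ ∈ zpowers z ⊔ zpowers (x * z * x⁻¹) := mem_sup_right (mem_zpowers _)
  have e2 : a * v * a⁻¹ * v ∈ zpowers z ⊔ zpowers (x * z * x⁻¹) := by
    rcases h.conj v hv with e | e <;> rw [e]
    · exact ea_sq hV hv ▸ one_mem _
    · rwa [mul_assoc z v, ea_sq hV hv, mul_one]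
  rw [e1]
  rcases hb.conj v hv with e | e <;> rw [e]
  · exact e2
  · rw [← conj_mul, h5, ← h6, mul_assoc _ _ v]
    exact mul_mem (mul_mem m1 m2) e2

theorem inv_unique (ha : a ∈ L) (h : Tv V a z) (hx : x ∈ F) (h1 : x ≠ 1) (h2 : a * x * a⁻¹ = x⁻¹)
    (hy : y ∈ F) (h3 : y ≠ 1) (h4 : a * y * a⁻¹ = y⁻¹) : y = x ∨ y = x⁻¹ := by
  have := Fact.mk Nat.prime_three
  have hV := H.ea
  have t1 := H.t3 ha h hx h1 h2
  have t2 := H.t3 ha h hy h3 h4
  refine H.eq_or t1 t2 hx hy (by_contra fun hn => ?_)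
  have key : ∀ x ∈ F, x * x * x = 1 → zpowers x ≤ pCoreOf 3 F := fun x hx e =>
    le_pCoreOf_of_le_fittingOf ((fittingOf_eq_self H.nil).symm ▸ zpowers_le_of_mem hx)
      (isPGroup_zpowers_of_pow (k := 1) (by simpa [pow_succ] using e))
  set K := zpowers x ⊔ zpowers y with hK
  have hK3 : IsPGroup 3 K := (pCoreOf_isPGroup F).to_le (sup_le (key x hx t1.x3) (key y hy t2.x3))
  set U := zpowers z ⊔ zpowers (x * z * x⁻¹) with hU
  set Z := U ⊔ zpowers (y * z * y⁻¹) with hZ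
  have hZV : Z ≤ V := sup_le t1.le (zpowers_le_of_mem t2.mem')
  have hzU : z ∈ U := mem_sup_left (mem_zpowers _)
  have hKZ : K ≤ normalizer (Z : Set X) := sup_le
    (zpowers_le_of_mem (mem_normalizer_fintype fun v hv =>
      (mul_mem_cancel_right hv).1 (mem_sup_left (t1.cm v (hZV hv)))))
    (zpowers_le_of_mem (mem_normalizer_fintype fun v hv => (mul_mem_cancel_right hv).1
      ((sup_le (zpowers_le_of_mem (mem_sup_left hzU)) le_sup_right : _ ≤ Z) (t2.cm v (hZV hv)))))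
  have c1 := card_le_two_mul_of_sup_zpowers (isElementaryAbelian_of_le hV hZV) le_sup_left hZ.symm
  have c2 := card_le_two_mul_of_sup_zpowers (isElementaryAbelian_of_le hV t1.le) le_sup_left rfl
  rw [Nat.card_zpowers, orderOf_eq_two_of_mul_self (ea_sq hV h.mem) h.ne, ← hU] at c2
  let _ : MulAction K X := MulAction.compHom X ((MulAut.conj : X →* MulAut X).comp K.subtype)
  obtain ⟨n, hn'⟩ := hK3.card_orbit z
  have o1 : MulAction.orbit K z ⊆ Z := by
    rintro _ ⟨k, rfl⟩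
    exact conj_mem_of_le_normalizer hKZ k.2 (mem_sup_left hzU)
  have hxK : x ∈ K := mem_sup_left (mem_zpowers _)
  have o2 : ({z, x * z * x⁻¹, z * (x * z * x⁻¹), y * z * y⁻¹} : Set X) ⊆ MulAction.orbit K z := by
    rintro _ (rfl | rfl | rfl | rfl)
    · exact MulAction.mem_orbit_self _
    · exact ⟨⟨x, hxK⟩, rfl⟩
    · exact ⟨⟨x⁻¹, inv_mem hxK⟩, by rw [t1.mul]; exact congrArg _ (inv_inv x)⟩
    · exact ⟨⟨y, mem_sup_right (mem_zpowers _)⟩, rfl⟩
  have o3 := Set.ncard_le_ncard o1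
  have o4 := Set.ncard_le_ncard o2
  have m2 : x * z * x⁻¹ ∈ U := mem_sup_right (mem_zpowers _)
  rw [Set.ncard_insert_of_notMem, Set.ncard_insert_of_notMem, Set.ncard_pair] at o4
  · rw [← Nat.card_coe_set_eq, hn'] at o3 o4
    rw [← Nat.card_coe_set_eq] at o3
    have : Nat.card (Z : Set X) = Nat.card Z := rfl
    rcases n with _ | _ | n
    · omega
    · omega
    · have := Nat.one_le_pow n 3 (by norm_num)
      rw [pow_succ, pow_succ] at o3
      omega
  · exact fun e => hn (e ▸ mul_mem hzU m2)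
  · rintro (e | e)
    · exact h.ne (mul_eq_right.1 e.symm)
    · exact hn (e ▸ m2)
  · rintro (e | e | e)
    · exact t1.ne' hV e.symm
    · exact (t1.next hV).ne (mul_eq_left.1 e.symm)
    · exact hn (e ▸ hzU)

theorem exists_inv (ha : a ∈ L) (h : Tv V a z) :
    ∃ x ∈ F, x ≠ 1 ∧ a * x * a⁻¹ = x⁻¹ ∧ ∀ f ∈ F, f * x = x * f := by
  have a2 := inv_eq_of_mul_eq_one_right (H.tv_sq ha h)
  have key : ∀ f ∈ F, f * a * f⁻¹ * a⁻¹ ∈ F ∧
      a * (f * a * f⁻¹ * a⁻¹) * a⁻¹ = (f * a * f⁻¹ * a⁻¹)⁻¹ := fun f hf =>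
    ⟨by simpa [mul_assoc] using mul_mem hf (conj_mem_of_le_normalizer H.normal ha (inv_mem hf)),
      by simp [mul_assoc, a2, H.tv_sq ha h]⟩
  obtain ⟨g, hg, h1⟩ : ∃ g ∈ F, g * a * g⁻¹ * a⁻¹ ≠ 1 := by
    by_contra hn
    push Not at hn
    have := H.eq_one_of_sq (H.cent ⟨ha, fun g hg => by
      have := hn g hg
      rwa [mul_inv_eq_one, mul_inv_eq_iff_eq_mul] at this⟩) (H.tv_sq ha h)
    exact h.notMem (this ▸ one_mem _)
  obtain ⟨h2, h3⟩ := key g hg
  refine ⟨_, h2, h1, h3, fun f hf => ?_⟩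
  generalize hx : g * a * g⁻¹ * a⁻¹ = x at h1 h2 h3
  have h4 : ∀ f ∈ F, f * a * f⁻¹ * a⁻¹ ∈ zpowers x := fun f hf => by
    by_cases e : f * a * f⁻¹ * a⁻¹ = 1
    · exact e ▸ one_mem _
    · rcases H.inv_unique ha h h2 h1 h3 (key f hf).1 e (key f hf).2 with e | e <;> rw [e]
      exacts [mem_zpowers x, inv_mem (mem_zpowers x)]
  have h5 : f * x * f⁻¹ ∈ zpowers x := by
    have := mul_mem (h4 _ (mul_mem hf hg)) (inv_mem (h4 f hf))
    convert this using 1
    rw [← hx]; group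
  rcases H.inv_unique ha h h2 h1 h3 (mul_mem (mul_mem hf h2) (inv_mem hf))
    (fun e => h1 (conj_eq_one_iff.1 e)) (inv_conj_of_mem_zpowers h3 h5) with e | e
  · exact mul_inv_eq_iff_eq_mul.1 e
  · refine mem_centralizer_singleton_iff.1 (FrobNPC.mem_of_pow_mem_of_coprime (n := 2)
      (H.odd.coprime_dvd_left (orderOf_dvd_natCard F hf)) (mem_centralizer_singleton_iff.2 ?_))
    rw [← mul_inv_eq_iff_eq_mul, show f ^ 2 * x * (f ^ 2)⁻¹ = f * (f * x * f⁻¹) * f⁻¹ by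
      simp [sq, mul_assoc], e,
      ← conj_inv, e, inv_inv]

theorem same_or (ha : a ∈ L) (h : Tv V a z) (hb : b ∈ L) (h' : Tv V b w) (hx : x ∈ F) (h1 : x ≠ 1)
    (h2 : a * x * a⁻¹ = x⁻¹) : (b * x * b⁻¹ = x⁻¹) ∨
      ((∀ u ∈ zpowers z ⊔ zpowers (x * z * x⁻¹), b * u * b⁻¹ = u) ∧ x * w * x⁻¹ = w) := by
  have hV := H.ea
  obtain ⟨y, hy, y1, y2, y3⟩ := H.exists_inv hb h'
  have t1 := H.t3 ha h hx h1 h2
  have t2 := H.t3 hb h' hy y1 y2
  have key : ∀ {x y z : X}, T3 V x z → y ∈ normalizer (V : Set X) → x * y = y * x →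
      ∀ u ∈ zpowers z ⊔ zpowers (x * z * x⁻¹), y * u * y⁻¹ ∈ zpowers z ⊔ zpowers (x * z * x⁻¹) := by
    intro x y z t hy e u hu
    by_cases u1 : u = 1
    · simp [u1]
    obtain ⟨t', -⟩ := t.shift hV hu u1
    have := t.cm _ ((mem_normalizer_iff.1 hy _).1 t'.mem')
    rw [show x * (y * (x * u * x⁻¹) * y⁻¹) * x⁻¹ = x * y * (x * u * x⁻¹) * (x * y)⁻¹ by group, e,
      show y * x * (x * u * x⁻¹) * (y * x)⁻¹ = y * (x * (x * u * x⁻¹) * x⁻¹) * y⁻¹ by group,
      conj_mul, t'.conj_conj, ← t'.mul, mul_assoc u, ea_sq hV t'.mem', mul_one] at this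
    exact this
  have k1 := key t1 t2.norm (y3 x hx)
  have k2 := key t2 t1.norm (y3 x hx).symm
  by_cases h3 : ∃ u ∈ zpowers z ⊔ zpowers (x * z * x⁻¹), u ∈ zpowers w ⊔ zpowers (y * w * y⁻¹) ∧
    u ≠ 1
  · obtain ⟨u, u1, u2, u3⟩ := h3
    obtain ⟨s1, s2⟩ := t1.shift hV u1 u3
    left
    rcases H.eq_or s1 (t2.shift hV u2 u3).1 hx hy (s2 ▸ k1 u u1) with rfl | rfl
    · exact y2
    · simpa [mul_assoc] using congrArg Inv.inv y2
  push Not at h3
  have h4 : ∀ u ∈ zpowers z ⊔ zpowers (x * z * x⁻¹), y * u * y⁻¹ = u := fun u hu => by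
    have := h3 _ (mul_mem (k1 u hu) hu) (t2.cm u (t1.le hu))
    rw [eq_inv_of_mul_eq_one_left this, inv_eq_of_mul_eq_one_right (ea_sq hV (t1.le hu))]
  have hw : w ∈ zpowers w ⊔ zpowers (y * w * y⁻¹) := mem_sup_left (mem_zpowers w)
  refine Or.inr ⟨fun u hu => (h'.conj u (t1.le hu)).resolve_right fun e => t2.ne' hV ?_, ?_⟩
  · have e1 : y * (b * u * b⁻¹) * y⁻¹ = b * u * b⁻¹ := by
      have e2 : y = b * y⁻¹ * b⁻¹ := by simpa [mul_assoc] using (congrArg Inv.inv y2).symm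
      conv_lhs => rw [e2]
      conv_rhs => rw [← mul_inv_eq_iff_eq_mul.2 (show y⁻¹ * u = u * y⁻¹ by
        conv_lhs => rw [← h4 u hu]
        group)]
      group
    rwa [e, ← conj_mul, h4 u hu, mul_left_inj] at e1
  · have := h3 _ (t1.cm w h'.mem) (mul_mem (k2 w hw) hw)
    rw [eq_inv_of_mul_eq_one_left this, inv_eq_of_mul_eq_one_right (ea_sq hV h'.mem)]

theorem eq_of_same (ha : a ∈ L) (h : Tv V a z) (hb : b ∈ L) (h' : Tv V b z) (hx : x ∈ F)
    (h1 : x ≠ 1) (h2 : a * x * a⁻¹ = x⁻¹) (h3 : b * x * b⁻¹ = x⁻¹) : a = b := by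
  have hV := H.ea
  have t := H.t3 ha h hx h1 h2
  have key : ∀ c, Tv V c z → c * x * c⁻¹ = x⁻¹ → ∀ v ∈ V, c * v * c⁻¹ =
      v * (x * v * x⁻¹ * (x⁻¹ * v * x)) * (c * (x * v * x⁻¹ * (x⁻¹ * v * x)) * c⁻¹) := by
    intro c hc e v hv
    have m1 := (mem_normalizer_iff.1 t.norm v).1 hv
    have m2 := (mem_normalizer_iff''.1 t.norm v).1 hv
    have m3 := mul_mem hv (mul_mem m1 m2)
    have e1 : x * (v * (x * v * x⁻¹ * (x⁻¹ * v * x))) * x⁻¹ = v * (x * v * x⁻¹ * (x⁻¹ * v * x)) := by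
      rw [← conj_mul, ← conj_mul, t.conj_conj, show x * (x⁻¹ * v * x) * x⁻¹ = v by group,
        ← mul_assoc, ea_comm hV (mul_mem m1 m2) hv]
    generalize hn : v * (x * v * x⁻¹ * (x⁻¹ * v * x)) = n at m3 e1
    have e2 : c * n * c⁻¹ = n := (hc.conj n m3).resolve_right fun e3 => t.ne' hV (by
      have e4 : x * (c * n * c⁻¹) * x⁻¹ = c * n * c⁻¹ := by
        have e5 : x = c * x⁻¹ * c⁻¹ := by simpa [mul_assoc] using (congrArg Inv.inv e).symm
        conv_lhs => rw [e5, ← e1]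
        group
      rwa [e3, ← conj_mul, e1, mul_left_inj] at e4)
    rw [← e2, conj_mul, ← hn, mul_assoc v, ea_sq hV (mul_mem m1 m2), mul_one]
  have key2 : ∀ c, Tv V c z → c * x * c⁻¹ = x⁻¹ → c * (x * z * x⁻¹) * c⁻¹ = x⁻¹ * z * x :=
    fun c hc e => by rw [← conj_mul, ← conj_mul, e, hc.fix hV, ← conj_inv, e, inv_inv]
  refine inv_mul_eq_one.1 (H.eq_one (mul_mem (inv_mem ha) hb) (cent_of_conj_eq fun v hv => ?_))
  rw [key a h h2 v hv, key b h' h3 v hv]
  congr 1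
  have m1 := (mem_normalizer_iff.1 t.norm v).1 hv
  have := t.cm _ m1
  rw [t.conj_conj, ea_comm hV ((mem_normalizer_iff''.1 t.norm v).1 hv) m1] at this
  rcases t.cases hV this with e | e | e | e <;> rw [e]
  · simp
  · rw [h.fix hV, h'.fix hV]
  · rw [key2 a h h2, key2 b h' h3]
  · rw [← conj_mul, ← conj_mul (b := b), h.fix hV, h'.fix hV, key2 a h h2, key2 b h' h3]

theorem tri (ha : a ∈ L) (h : Tv V a z) (hb : b ∈ L) (h' : Tv V b w) (hc : c ∈ L)
    (h'' : Tv V c u) (hn : a * w * a⁻¹ ≠ w) :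
    (c * z * c⁻¹ = z ∧ c * w * c⁻¹ = w ∧ a * u * a⁻¹ = u ∧ b * u * b⁻¹ = u) ∨
      c = a ∨ c = b ∨ c = a * b * a⁻¹ := by
  have hV := H.ea
  obtain ⟨x, hx, x1, x2, -⟩ := H.exists_inv ha h
  have t := H.t3 ha h hx x1 x2
  have hz : z ∈ zpowers z ⊔ zpowers (x * z * x⁻¹) := mem_sup_left (mem_zpowers z)
  have key : ∀ {a z c u}, a ∈ L → Tv V a z → a * x * a⁻¹ = x⁻¹ → Tv V c u → x * u * x⁻¹ = u →
      a * u * a⁻¹ = u := fun {a z c u} ha h x2 h'' e => (h.conj u h''.mem).resolve_right fun e1 =>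
    (H.t3 ha h hx x1 x2).ne' hV (by
      have e4 : x * (a * u * a⁻¹) * x⁻¹ = a * u * a⁻¹ := by
        have e5 : x = a * x⁻¹ * a⁻¹ := by simpa [mul_assoc] using (congrArg Inv.inv x2).symm
        conv_lhs => rw [e5, ← e]
        group
      rwa [e1, ← conj_mul, e, mul_left_inj] at e4)
  have b1 := (H.same_or ha h hb h' hx x1 x2).resolve_right fun e => hn (key ha h x2 h' e.2)
  have key2 : ∀ {c u}, c ∈ L → Tv V c u → c * x * c⁻¹ = x⁻¹ →
      u ∈ zpowers z ⊔ zpowers (x * z * x⁻¹) := fun {c u} hc h'' e => by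
    have t' := H.t3 hc h'' hx x1 e
    have := t.cm _ t'.mem'
    rwa [t'.conj_conj, ← t'.mul, mul_assoc u, ea_sq hV t'.mem', mul_one] at this
  have b2 := key2 hb h' b1
  rcases H.same_or ha h hc h'' hx x1 x2 with c1 | c1
  · right
    obtain ⟨s1, s2⟩ := t.shift hV b2 h'.ne
    have b3 := (h.conj w h'.mem).resolve_left hn
    have c2 := key2 hc h'' c1
    have hwz : w ≠ z := fun e => hn (e ▸ h.fix hV)
    have : u = z ∨ u = w ∨ u = z * w := by
      have e1 := t.cases hV c2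
      have e2 := t.cases hV b2
      have e3 := h''.ne
      have e4 := h'.ne
      have e5 : z * (z * (x * z * x⁻¹)) = x * z * x⁻¹ := by
        rw [← mul_assoc z z, ea_sq hV h.mem, one_mul]
      grind
    rcases this with rfl | rfl | rfl
    · exact Or.inl (H.eq_of_same hc h'' ha h hx x1 c1 x2)
    · exact Or.inr (Or.inl (H.eq_of_same hc h'' hb h' hx x1 c1 b1))
    · refine Or.inr (Or.inr (H.eq_of_same hc h'' (mul_mem (mul_mem ha hb) (inv_mem ha))
        (b3 ▸ h'.map_conj h.norm) hx x1 c1 ?_))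
      have e5 : x = a * x⁻¹ * a⁻¹ := by simpa [mul_assoc] using (congrArg Inv.inv x2).symm
      conv_lhs => rw [e5]
      rw [show a * b * a⁻¹ * (a * x⁻¹ * a⁻¹) * (a * b * a⁻¹)⁻¹ = a * (b * x * b⁻¹)⁻¹ * a⁻¹ by group,
        b1, inv_inv, x2]
  · exact Or.inl ⟨c1.1 z hz, c1.1 w b2, key ha h x2 h'' c1.2, key hb h' b1 h'' c1.2⟩

theorem braid (ha : a ∈ L) (h : Tv V a z) (hb : b ∈ L) (h' : Tv V b w) (hn : a * w * a⁻¹ ≠ w) :
    b * z * b⁻¹ = z * w ∧ (a * b) ^ 3 = 1 := by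
  have hV := H.ea
  have h1 := h.map_conj h'.norm
  have h2 := (h.conj w h'.mem).resolve_left hn
  rcases H.tri ha h hb h' (mul_mem (mul_mem hb ha) (inv_mem hb)) h1 hn with e | e | e | e
  · refine absurd ?_ hn
    have := e.2.1
    conv_lhs at this => rw [← h'.fix hV]
    conv_rhs at this => rw [← h'.fix hV]
    rw [show b * a * b⁻¹ * (b * w * b⁻¹) * (b * a * b⁻¹)⁻¹ = b * (a * w * a⁻¹) * b⁻¹ by group] at this
    exact mul_left_cancel (mul_right_cancel this)
  · exact absurd (h'.fix_of_comm h.norm (by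
      rw [mul_inv_eq_iff_eq_mul.1 e, inv_mul_cancel]; exact one_mem _)) hn
  · rw [mul_inv_eq_iff_eq_mul, mul_right_inj] at e
    exact absurd (e ▸ h'.fix hV) hn
  · refine ⟨(e ▸ h1).unique (h2 ▸ h'.map_conj h.norm), ?_⟩
    rw [inv_eq_of_mul_eq_one_right (H.tv_sq ha h), inv_eq_of_mul_eq_one_right (H.tv_sq hb h')] at e
    rw [show (a * b) ^ 3 = a * b * a * (b * a * b) by simp [pow_succ, mul_assoc], e, mul_assoc,
      mul_assoc, ← mul_assoc a (a * b), ← mul_assoc a a, H.tv_sq ha h, one_mul, ← mul_assoc b,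
      H.tv_sq hb h', one_mul, H.tv_sq ha h]

end Fa

end CfsgLib.Sig
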